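import Cfsg.Agent.Lib.Helper53.SA2Defs
import Cfsg.Agent.Lib.Helper53.JCW

/-!
# Ladder BA, rung BSTR, part A: general lemmas and the one-sided analysis
-/

set_option autoImplicit false

namespace Cfsg.Agent.Lib.Helper36.BA

open Cfsg Subgroup
open Cfsg.Agent.Lib.Helper53 Cfsg.Agent.Lib.Helper53.SA2
open Cfsg.Agent.Lib.Helper53.JC (cjj QQ)
open Cfsg.Agent.Lib.Helper53.SA (ZP)

variable {G : Type*} [Group G]

theorem card_mul_relIndex' {H K : Subgroup G} (h : H ≤ K) :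
    Nat.card H * H.relIndex K = Nat.card K := by
  have := Subgroup.relIndex_mul_relIndex ⊥ H K bot_le h
  rwa [relIndex_bot_left, relIndex_bot_left] at this

theorem mul_mem_iff_of_relIndex_two {D Q : Subgroup G} (h : D.relIndex Q = 2) {a b : G}
    (ha : a ∈ Q) (hb : b ∈ Q) : a * b ∈ D ↔ (a ∈ D ↔ b ∈ D) := by
  have := Subgroup.mul_mem_iff_of_index_two (H := D.subgroupOf Q) h (a := ⟨a, ha⟩) (b := ⟨b, hb⟩)
  simp only [mem_subgroupOf, Subgroup.coe_mul] at this
  exact this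

theorem not_le_of_relIndex_two {D D' Q : Subgroup G} (hD' : D' ≤ Q)
    (h : D.relIndex Q = 2) (h' : D'.relIndex Q = 2) (hne : D ≠ D') : ¬ D ≤ D' := by
  intro hle
  rcases JC.eq_or_eq_of_relIndex_prime Nat.prime_two hle hD' h with h1 | h1
  · exact hne h1.symm
  · rw [h1, relIndex_self] at h'
    omega

theorem relIndex_inf_two {D D' Q : Subgroup G} (hD : D ≤ Q) (hD' : D' ≤ Q)
    (h : D.relIndex Q = 2) (h' : D'.relIndex Q = 2) (hne : D ≠ D') : (D ⊓ D').relIndex D = 2 := by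
  rw [inf_relIndex_left, relIndex_eq_two_iff]
  obtain ⟨a, ha, haD'⟩ := SetLike.not_le_iff_exists.1 (not_le_of_relIndex_two hD' h h' hne)
  refine ⟨a, ha, fun b hb => ?_⟩
  have := mul_mem_iff_of_relIndex_two h' (hD hb) (hD ha)
  by_cases hb' : b ∈ D'
  · right
    exact ⟨hb', fun hc => haD' ((this.1 hc).1 hb')⟩
  · left
    exact ⟨this.2 ⟨fun hc => absurd hc hb', fun hc => absurd hc haD'⟩, hb'⟩

/-! ### adjoining an involution -/

/-- `B ∪ B t` for an involution `t` normalizing `B`. -/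
def adj (B : Subgroup G) (t : G) (ht : t * t = 1) (hn : ∀ b ∈ B, t * b * t⁻¹ ∈ B) : Subgroup G where
  carrier := {x | x ∈ B ∨ x * t ∈ B}
  one_mem' := Or.inl B.one_mem
  mul_mem' := by
    have hti : t⁻¹ = t := inv_eq_of_mul_eq_one_left ht
    rintro x y (hx | hx) (hy | hy)
    · exact Or.inl (mul_mem hx hy)
    · right
      rw [mul_assoc]
      exact mul_mem hx hy
    · right
      have e : x * y * t = (x * t) * (t * y * t⁻¹) := by
        rw [hti]
        calc x * y * t = x * (t * t) * y * t := by rw [ht, mul_one]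
          _ = _ := by group
      rw [e]
      exact mul_mem hx (hn y hy)
    · left
      have e : x * y = (x * t) * (t * (y * t) * t⁻¹) := by
        calc x * y = x * (t * t) * y := by rw [ht, mul_one]
          _ = _ := by group
      rw [e]
      exact mul_mem hx (hn _ hy)
  inv_mem' := by
    have hti : t⁻¹ = t := inv_eq_of_mul_eq_one_left ht
    rintro x (hx | hx)
    · exact Or.inl (inv_mem hx)
    · right
      have e : x⁻¹ * t = t * (x * t)⁻¹ * t⁻¹ := by
        rw [mul_inv_rev, hti]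
        calc x⁻¹ * t = (t * t) * x⁻¹ * t := by rw [ht, one_mul]
          _ = _ := by group
      rw [e]
      exact hn _ (inv_mem hx)

theorem mem_adj {B : Subgroup G} {t : G} {ht : t * t = 1} {hn : ∀ b ∈ B, t * b * t⁻¹ ∈ B} {x : G} :
    x ∈ adj B t ht hn ↔ x ∈ B ∨ x * t ∈ B := Iff.rfl

theorem le_adj (B : Subgroup G) (t : G) (ht : t * t = 1) (hn : ∀ b ∈ B, t * b * t⁻¹ ∈ B) :
    B ≤ adj B t ht hn := fun _ hx => Or.inl hx

theorem card_adj (B : Subgroup G) (t : G) (ht : t * t = 1) (hn : ∀ b ∈ B, t * b * t⁻¹ ∈ B)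
    (htB : t ∉ B) : Nat.card (adj B t ht hn) = Nat.card B * 2 := by
  have h2 : B.relIndex (adj B t ht hn) = 2 := by
    rw [relIndex_eq_two_iff]
    refine ⟨t, Or.inr (by rw [ht]; exact B.one_mem), fun b hb => ?_⟩
    by_cases hbB : b ∈ B
    · right
      refine ⟨hbB, fun hc => htB ?_⟩
      have : t = b⁻¹ * (b * t) := by group
      rw [this]
      exact mul_mem (inv_mem hbB) hc
    · left
      exact ⟨hb.resolve_left hbB, hbB⟩
  rw [← card_mul_relIndex' (le_adj B t ht hn), h2]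

/-! ### the one-sided situation -/

/-- one member of the pair with elementary abelian `O₂`, and an involution `t ∈ T \ O₂(P)`. -/
structure Sit (P T : Subgroup G) (t : G) : Prop where
  L : Loc1 P T
  h6 : (QQ P).relIndex P = 6
  hchar : P ⊓ centralizer (QQ P : Set G) ≤ QQ P
  hexp : ∀ g ∈ QQ P, g * g = 1
  tT : t ∈ T
  tQ : t ∉ QQ P
  tt : t * t = 1

/-- `C_Q(P)`. -/
def CP (P : Subgroup G) : Subgroup G := QQ P ⊓ centralizer (P : Set G)

namespace Sit

variable {P T : Subgroup G} {t : G} (S : Sit P T t)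

include S

theorem inv_eq {q : G} (hq : q ∈ QQ P) : q⁻¹ = q := inv_eq_of_mul_eq_one_left (S.hexp q hq)

theorem t_inv : t⁻¹ = t := inv_eq_of_mul_eq_one_left S.tt

theorem comm {a b : G} (ha : a ∈ QQ P) (hb : b ∈ QQ P) : a * b = b * a := by
  rw [← S.inv_eq (mul_mem ha hb), mul_inv_rev, S.inv_eq ha, S.inv_eq hb]

omit S in
theorem QP : QQ P ≤ P := pCoreOf_le 2 P

theorem tP : t ∈ P := S.L.TP S.tT

omit S in
theorem conj_mem {g q : G} (hg : g ∈ P) (hq : q ∈ QQ P) : g * q * g⁻¹ ∈ QQ P :=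
  (mem_normalizer_iff.1 (le_normalizer_pCoreOf 2 P hg) q).1 hq

omit S in
theorem conj_mem' {g q : G} (hg : g ∈ P) (hq : q ∈ QQ P) : g⁻¹ * q * g ∈ QQ P := by
  have := conj_mem (inv_mem hg) hq
  rwa [inv_inv] at this

theorem T_le {H : Subgroup G} (hQ : QQ P ≤ H) (ht : t ∈ H) : T ≤ H := by
  intro b hb
  by_cases hbQ : b ∈ QQ P
  · exact hQ hbQ
  · have h1 := S.L.ind2 b t hb S.tT hbQ S.tQ
    have : b = (b * t) * t⁻¹ := by group
    rw [this]
    exact mul_mem (hQ h1) (inv_mem ht)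

theorem conj_t_not_mem {a : G} (ha : a ∈ P) (haT : a ∉ T) : a * t * a⁻¹ ∉ T := by
  intro hc
  have h1 : a * t * a⁻¹ ∈ cjj a T := by
    rw [mem_cj]
    have : a⁻¹ * (a * t * a⁻¹) * a = t := by group
    rw [this]; exact S.tT
  have h2 : a * t * a⁻¹ ∈ QQ P := S.L.inter a ha haT ⟨hc, h1⟩
  have h3 := conj_mem' ha h2
  have : a⁻¹ * (a * t * a⁻¹) * a = t := by group
  rw [this] at h3
  exact S.tQ h3

theorem P_le {a : G} (ha : a ∈ P) (haT : a ∉ T) {H : Subgroup G} (hQ : QQ P ≤ H) (ht : t ∈ H)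
    (ht' : a * t * a⁻¹ ∈ H) : P ≤ H :=
  S.L.max (a * t * a⁻¹) (mul_mem (mul_mem ha S.tP) (inv_mem ha)) (S.conj_t_not_mem ha haT) H
    (S.T_le hQ ht) ht'

theorem card_P : Nat.card P = Nat.card (QQ P) * 6 := by
  rw [← card_mul_relIndex' QP, S.h6]

theorem exists_order3 [Finite G] : ∃ d ∈ P, d ^ 3 = 1 ∧ d ≠ 1 := by
  have : Fact (Nat.Prime 3) := ⟨Nat.prime_three⟩
  obtain ⟨x, hx⟩ := exists_prime_orderOf_dvd_card' (G := ↥P) 3 (by
    rw [S.card_P]
    exact Dvd.intro_left (Nat.card (QQ P) * 2) (by ring))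
  refine ⟨x, x.2, ?_, ?_⟩
  · have := pow_orderOf_eq_one x
    rw [hx] at this
    exact_mod_cast congrArg Subtype.val this
  · intro h
    have : x = 1 := Subtype.ext h
    rw [this, orderOf_one] at hx
    omega

/-- an element of order 3 acting trivially on `C₀` and on `Q / C₀` is impossible. -/
theorem no_stab [Finite G] (C₀ : Subgroup G) (h1 : C₀ ≤ QQ P) (h2 : ∀ g ∈ P, ∀ c ∈ C₀, g * c * g⁻¹ = c)
    (h3 : ∀ q ∈ QQ P, t * q * t⁻¹ * q⁻¹ ∈ C₀) : False := by
  let N : Subgroup G :=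
    { carrier := {g | g ∈ P ∧ ∀ q ∈ QQ P, g * q * g⁻¹ * q⁻¹ ∈ C₀}
      one_mem' := ⟨P.one_mem, fun q _ => by simp⟩
      mul_mem' := by
        rintro g h ⟨hg, hg'⟩ ⟨hh, hh'⟩
        refine ⟨mul_mem hg hh, fun q hq => ?_⟩
        have e : g * h * q * (g * h)⁻¹ * q⁻¹ = g * (h * q * h⁻¹ * q⁻¹) * g⁻¹ * (g * q * g⁻¹ * q⁻¹) := by
          group
        rw [e, h2 g hg _ (hh' q hq)]
        exact mul_mem (hh' q hq) (hg' q hq)
      inv_mem' := by
        rintro g ⟨hg, hg'⟩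
        refine ⟨inv_mem hg, fun q hq => ?_⟩
        have h4 := hg' _ (conj_mem' hg hq)
        have e : g⁻¹ * q * g⁻¹⁻¹ * q⁻¹ = (g * (g⁻¹ * q * g) * g⁻¹ * (g⁻¹ * q * g)⁻¹)⁻¹ := by group
        rw [e]
        exact inv_mem h4 }
  obtain ⟨a, ha, haT⟩ := S.L.exm
  have hPN : P ≤ N := by
    apply S.P_le ha haT
    · intro x hx
      refine ⟨QP hx, fun q hq => ?_⟩
      rw [S.comm hx hq]
      simp
    · exact ⟨S.tP, h3⟩
    · refine ⟨mul_mem (mul_mem ha S.tP) (inv_mem ha), fun q hq => ?_⟩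
      have h4 := h3 _ (conj_mem' ha hq)
      have e : a * t * a⁻¹ * q * (a * t * a⁻¹)⁻¹ * q⁻¹
          = a * (t * (a⁻¹ * q * a) * t⁻¹ * (a⁻¹ * q * a)⁻¹) * a⁻¹ := by group
      rw [e, h2 a ha _ h4]
      exact h4
  obtain ⟨d, hd, hd3, hd1⟩ := S.exists_order3
  have hd3' : d * d * d = 1 := by rw [← hd3, pow_succ, pow_two]
  have hdQ : d ∈ QQ P := by
    apply S.hchar
    refine ⟨hd, ?_⟩
    show d ∈ centralizer (QQ P : Set G)
    rw [mem_centralizer_iff]
    intro q hq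
    have hc := (hPN hd).2 q hq
    set c := d * q * d⁻¹ * q⁻¹ with hcdef
    have e1 : d * q * d⁻¹ = c * q := by rw [hcdef]; group
    have e2 : d * c * d⁻¹ = c := h2 d hd c hc
    have e3 : d * (d * q * d⁻¹) * d⁻¹ = q := by
      rw [e1]
      calc d * (c * q) * d⁻¹ = (d * c * d⁻¹) * (d * q * d⁻¹) := by group
        _ = c * (c * q) := by rw [e2, e1]
        _ = (c * c) * q := by group
        _ = q := by rw [S.hexp c (h1 hc), one_mul]
    have e4 : d⁻¹ = d * d := by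
      apply inv_eq_of_mul_eq_one_right
      rw [← mul_assoc]; exact hd3'
    calc q * d = d * (d * d) * q * d := by
          rw [← e4]; group
      _ = d * (d * (d * q * d⁻¹) * d⁻¹) * (d * d * d) := by group
      _ = d * q := by
          rw [e3, hd3', mul_one]
  apply hd1
  have h5 := S.hexp d hdQ
  calc d = d ^ 3 * (d * d)⁻¹ := by group
    _ = 1 := by rw [hd3, h5]; simp

end Sit

end Cfsg.Agent.Lib.Helper36.BA
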