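import Mathlib

namespace Cfsg.Agent.Lib.Helper36.BSW

open scoped Pointwise

theorem exists_conj_mem_of_hall {G : Type*} [Group G] [Finite G] (B : Subgroup G) (r : ℕ)
    [Fact r.Prime] (h : (Nat.card B).factorization r = (Nat.card G).factorization r) (z : G)
    (hz : ∃ k : ℕ, orderOf z = r ^ k) : ∃ g : G, g * z * g⁻¹ ∈ B := by
  classical
  obtain ⟨R⟩ : Nonempty (Sylow r B) := inferInstance
  have hRc : Nat.card (R : Subgroup B) = r ^ (Nat.card B).factorization r :=
    R.card_eq_multiplicity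
  have hmap : Nat.card ((R : Subgroup B).map B.subtype) = r ^ (Nat.card G).factorization r := by
    rw [Subgroup.card_map_of_injective B.subtype_injective, hRc, h]
  let P : Sylow r G := Sylow.ofCard ((R : Subgroup B).map B.subtype) hmap
  have hPB : (P : Subgroup G) ≤ B := by
    intro x hx
    have hx' : x ∈ (R : Subgroup B).map B.subtype := hx
    obtain ⟨y, -, rfl⟩ := hx'
    exact y.2
  have hzp : IsPGroup r (Subgroup.zpowers z) := by
    obtain ⟨k, hk⟩ := hz
    apply IsPGroup.of_card (n := k)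
    rw [Nat.card_zpowers, hk]
  obtain ⟨Q, hQ⟩ := hzp.exists_le_sylow
  obtain ⟨g, hg⟩ := MulAction.exists_smul_eq G Q P
  refine ⟨g, hPB ?_⟩
  rw [← hg]
  rw [Sylow.coe_subgroup_smul, Subgroup.mem_pointwise_smul_iff_inv_smul_mem]
  have : (MulAut.conj g)⁻¹ • (g * z * g⁻¹) = z := by
    simp [MulAut.smul_def, MulAut.inv_def, mul_assoc]
  rw [this]
  exact hQ (Subgroup.mem_zpowers z)

end Cfsg.Agent.Lib.Helper36.BSW
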