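import Mathlib

namespace Cfsg.Agent.Lib.Helper36.BSW

theorem pclosed_of_burnside {M : Type*} [Group M] [Finite M] (p : ℕ) [Fact p.Prime]
    (h : ∀ r : ℕ, r.Prime → r ≠ p → ∀ R : Sylow r M,
      Subgroup.normalizer ((R : Subgroup M) : Set M) ≤
        Subgroup.centralizer ((R : Subgroup M) : Set M)) :
    ∀ P P' : Sylow p M, P = P' := by
  classical
  have hp : p.Prime := Fact.out
  -- the intersection of all kernels of homomorphisms killing the p-elements
  let N : Subgroup M := ⨅ (K : Subgroup M) (_ : ∀ x : M, (∃ k : ℕ, x ^ p ^ k = 1) → x ∈ K), K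
  have hNmem : ∀ x : M, (∃ k : ℕ, x ^ p ^ k = 1) → x ∈ N := by
    intro x hx
    simp only [N, Subgroup.mem_iInf]
    intro K hK
    exact hK x hx
  have hNle : ∀ K : Subgroup M, (∀ x : M, (∃ k : ℕ, x ^ p ^ k = 1) → x ∈ K) → N ≤ K := by
    intro K hK
    exact iInf₂_le K hK
  have hNp : IsPGroup p N := by
    rw [IsPGroup.iff_card]
    refine ⟨_, Nat.eq_prime_pow_of_unique_prime_dvd Nat.card_pos.ne' ?_⟩
    intro r hr hrN
    by_contra hne
    have : Fact r.Prime := ⟨hr⟩
    obtain ⟨R⟩ : Nonempty (Sylow r M) := inferInstance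
    have hR := h r hr hne R
    have hle : N ≤ (MonoidHom.transferSylow R hR).ker := by
      apply hNle
      rintro x ⟨k, hk⟩
      rw [MonoidHom.mem_ker]
      set y := MonoidHom.transferSylow R hR x with hy
      have h1 : y ^ p ^ k = 1 := by
        rw [hy, ← map_pow, hk, map_one]
      obtain ⟨j, hj⟩ := R.2 y
      have hcop : Nat.Coprime (p ^ k) (r ^ j) :=
        Nat.Coprime.pow _ _ ((Nat.coprime_primes hp hr).mpr (Ne.symm hne))
      have h2 : orderOf y ∣ p ^ k := orderOf_dvd_of_pow_eq_one h1
      have h3 : orderOf y ∣ r ^ j := orderOf_dvd_of_pow_eq_one hj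
      have h4 : orderOf y = 1 := Nat.eq_one_of_dvd_coprimes hcop h2 h3
      exact orderOf_eq_one_iff.mp h4
    exact MonoidHom.not_dvd_card_ker_transferSylow R hR
      (hrN.trans (Subgroup.card_dvd_of_le hle))
  have hPN : ∀ P : Sylow p M, (P : Subgroup M) = N := by
    intro P
    have hle : (P : Subgroup M) ≤ N := by
      intro x hx
      obtain ⟨k, hk⟩ := P.2 ⟨x, hx⟩
      exact hNmem x ⟨k, by simpa using congrArg Subtype.val hk⟩
    exact (P.3 hNp hle).symm
  intro P P'
  exact Sylow.ext ((hPN P).trans (hPN P').symm)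

theorem comm_of_burnside {M : Type*} [Group M] [Finite M]
    (h : ∀ r : ℕ, r.Prime → ∀ R : Sylow r M,
      Subgroup.normalizer ((R : Subgroup M) : Set M) ≤
        Subgroup.centralizer ((R : Subgroup M) : Set M)) :
    ∀ a b : M, a * b = b * a := by
  classical
  have hcen : ∀ r : ℕ, r.Prime → ∀ R : Sylow r M, (R : Subgroup M) ≤ Subgroup.center M := by
    intro r hr R
    have : Fact r.Prime := ⟨hr⟩
    have huniq : ∀ P P' : Sylow r M, P = P' :=
      pclosed_of_burnside r (fun q hq _ Q => h q hq Q)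
    have htop : Subgroup.normalizer ((R : Subgroup M) : Set M) = ⊤ := by
      rw [eq_top_iff]
      intro g _
      exact Sylow.smul_eq_iff_mem_normalizer.mp (huniq _ _)
    have hC : Subgroup.centralizer ((R : Subgroup M) : Set M) = ⊤ := by
      rw [eq_top_iff, ← htop]
      exact h r hr R
    intro x hx
    rw [Subgroup.mem_center_iff]
    intro g
    have hg : g ∈ Subgroup.centralizer ((R : Subgroup M) : Set M) := by
      rw [hC]; trivial
    exact ((Subgroup.mem_centralizer_iff.mp hg) x hx).symm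
  have hdvd : Nat.card M ∣ Nat.card (Subgroup.center M) := by
    rw [← Nat.factorization_le_iff_dvd Nat.card_pos.ne' Nat.card_pos.ne']
    intro r
    by_cases hr : r.Prime
    · have : Fact r.Prime := ⟨hr⟩
      obtain ⟨R⟩ : Nonempty (Sylow r M) := inferInstance
      have h1 : Nat.card (R : Subgroup M) ∣ Nat.card (Subgroup.center M) :=
        Subgroup.card_dvd_of_le (hcen r hr R)
      rw [R.card_eq_multiplicity] at h1
      exact (hr.pow_dvd_iff_le_factorization Nat.card_pos.ne').mp h1
    · simp [Nat.factorization_eq_zero_of_not_prime _ hr]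
  have htop : Subgroup.center M = ⊤ :=
    Subgroup.eq_top_of_le_card _ (Nat.le_of_dvd Nat.card_pos hdvd)
  intro a b
  have ha : b ∈ Subgroup.center M := by rw [htop]; trivial
  exact (Subgroup.mem_center_iff.mp ha) a

end Cfsg.Agent.Lib.Helper36.BSW
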