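import Cfsg.Agent.Lib.Helper53.SA2Defs
import Cfsg.Agent.Lib.Helper53.JCW

/-!
# Ladder BA, rung BEND
-/

set_option autoImplicit false

namespace Cfsg.Agent.Lib.Helper36.BA

open Cfsg Subgroup
open Cfsg.Agent.Lib.Helper53 Cfsg.Agent.Lib.Helper53.SA2
open Cfsg.Agent.Lib.Helper53.JC (cjj QQ)
open Cfsg.Agent.Lib.Helper53.SA (ZP)

variable {G : Type*} [Group G]

/-- the subgroup generated by the squares of `Q`. -/
def sqs (Q : Subgroup G) : Subgroup G := closure {y : G | ∃ a ∈ Q, y = a * a}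

theorem sqs_le (Q : Subgroup G) : sqs Q ≤ Q := by
  rw [sqs, closure_le]
  rintro _ ⟨a, ha, rfl⟩
  exact mul_mem ha ha

theorem le_normalizer_sqs [Finite G] {P Q : Subgroup G} (h : P ≤ normalizer (Q : Set G)) :
    P ≤ normalizer (sqs Q : Set G) := by
  intro b hb
  rw [← cj_eq_self_iff]
  apply cj_eq_of_le
  rw [sqs, MonoidHom.map_closure, closure_le]
  rintro _ ⟨_, ⟨a, ha, rfl⟩, rfl⟩
  refine subset_closure ⟨b * a * b⁻¹, (mem_normalizer_iff.1 (h hb) a).1 ha, ?_⟩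
  simp [MulAut.conj_apply, mul_assoc]

theorem bend_not_le {P₁ P₂ T : Subgroup G} (L₁ : Loc1 P₁ T) (L₂ : Loc1 P₂ T)
    (h : ¬ ZP P₁ T ≤ QQ P₂) : ¬ ZP P₂ T ≤ QQ P₁ := by
  intro hc
  apply h
  intro z hz
  apply L₂.CZ
  refine ⟨L₂.TP (L₁.QT (L₁.ZQ hz)), ?_⟩
  show z ∈ centralizer (ZP P₂ T : Set G)
  rw [mem_centralizer_iff]
  intro y hy
  exact (mem_centralizer_iff.1 (L₁.QZ (hc hy)) z hz).symm

theorem bend_key {P₁ P₂ T : Subgroup G} (L₁ : Loc1 P₁ T) (L₂ : Loc1 P₂ T)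
    (h : ¬ ZP P₁ T ≤ QQ P₂) : sqs (QQ P₁) ≤ sqs (QQ P₂) := by
  obtain ⟨z, hz, hzQ'⟩ := SetLike.not_le_iff_exists.1 h
  have hzQ : z ∈ QQ P₁ := L₁.ZQ hz
  rw [sqs, closure_le]
  rintro _ ⟨a, ha, rfl⟩
  by_cases haQ' : a ∈ QQ P₂
  · exact subset_closure ⟨a, haQ', rfl⟩
  · refine subset_closure ⟨a * z, L₂.ind2 _ _ (L₁.QT ha) (L₁.QT hzQ) haQ' hzQ', ?_⟩
    have hc : z * a = a * z := mem_centralizer_iff.1 (L₁.QZ ha) z hz
    calc a * a = a * a * (z * z) := by rw [L₁.Zexp z hz, mul_one]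
      _ = a * (a * z) * z := by group
      _ = a * (z * a) * z := by rw [hc]
      _ = a * z * (a * z) := by group

theorem bend [Finite G] (hl : Loc1St G) : BEndSt G := by
  intro P₁ P₂ T h hnot
  have L₁ := hl P₁ T h.syl₁ h.h6₁ h.hchar₁ h.hZ₁
  have L₂ := hl P₂ T h.syl₂ h.h6₂ h.hchar₂ h.hZ₂
  have h12 : ¬ ZP P₁ T ≤ QQ P₂ ∧ ¬ ZP P₂ T ≤ QQ P₁ := by
    by_cases h1 : ZP P₁ T ≤ QQ P₂
    · have h2 : ¬ ZP P₂ T ≤ QQ P₁ := fun h2 => hnot ⟨h1, h2⟩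
      exact ⟨bend_not_le L₂ L₁ h2, h2⟩
    · exact ⟨h1, bend_not_le L₁ L₂ h1⟩
  have heq : sqs (QQ P₁) = sqs (QQ P₂) :=
    le_antisymm (bend_key L₁ L₂ h12.1) (bend_key L₂ L₁ h12.2)
  have hbot : sqs (QQ P₁) = ⊥ := by
    apply h.hcore _ ((sqs_le _).trans L₁.QT) (le_normalizer_sqs (le_normalizer_pCoreOf 2 P₁))
    rw [heq]
    exact le_normalizer_sqs (le_normalizer_pCoreOf 2 P₂)
  refine ⟨fun a ha => ?_, fun a ha => ?_⟩
  · have : a * a ∈ sqs (QQ P₁) := subset_closure ⟨a, ha, rfl⟩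
    rw [hbot] at this
    exact mem_bot.1 this
  · have : a * a ∈ sqs (QQ P₂) := subset_closure ⟨a, ha, rfl⟩
    rw [← heq, hbot] at this
    exact mem_bot.1 this

end Cfsg.Agent.Lib.Helper36.BA
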