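import Cfsg.Agent.Lib.Helper36.BABstrB
import Cfsg.Agent.Lib.Helper81.BAS4A
import Cfsg.Agent.Lib.Helper81.BAS4B

/-!
# Ladder BA, rung BSTR: identification of `P₁`, `P₂`
-/

set_option autoImplicit false

namespace Cfsg.Agent.Lib.Helper36.BA

open Cfsg Subgroup
open Cfsg.Agent.Lib.Helper53 Cfsg.Agent.Lib.Helper53.SA2
open Cfsg.Agent.Lib.Helper53.JC (cjj QQ)
open Cfsg.Agent.Lib.Helper53.SA (ZP)

variable {G : Type*} [Group G]

theorem card_subgroupOf' {H K : Subgroup G} (h : H ≤ K) : Nat.card (H.subgroupOf K) = Nat.card H :=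
  Nat.card_congr (subgroupOfEquivOfLe h).toEquiv

namespace Sit

variable {P T : Subgroup G} {t : G} (S : Sit P T t)

omit S in
theorem normal_sub : ((QQ P).subgroupOf P).Normal :=
  (normal_subgroupOf_iff_le_normalizer QP).2 (le_normalizer_pCoreOf 2 P)

include S

theorem exp_sub : ∀ x ∈ (QQ P).subgroupOf P, x * x = 1 :=
  fun x hx => Subtype.ext (S.hexp x (mem_subgroupOf.1 hx))

theorem cent_sub : centralizer (((QQ P).subgroupOf P : Subgroup ↥P) : Set ↥P) ≤ (QQ P).subgroupOf P := by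
  intro x hx
  rw [mem_subgroupOf]
  apply S.hchar
  refine ⟨x.2, ?_⟩
  show (x : G) ∈ centralizer (QQ P : Set G)
  rw [mem_centralizer_iff]
  intro q hq
  rw [mem_centralizer_iff] at hx
  have := hx ⟨q, QP hq⟩ (by
    show (⟨q, QP hq⟩ : ↥P) ∈ (QQ P).subgroupOf P
    rw [mem_subgroupOf]; exact hq)
  exact congrArg Subtype.val this

theorem id4 [Finite G] (hQ : Nat.card (QQ P) = 4) : Nonempty (↥P ≃* Equiv.Perm (Fin 4)) := by
  have := normal_sub (P := P)
  exact Cfsg.Agent.Lib.Helper81.BA.s4_recog (M := ↥P) (by rw [S.card_P, hQ]) ((QQ P).subgroupOf P)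
    (by rw [card_subgroupOf' QP, hQ]) S.exp_sub S.cent_sub

theorem id8 [Finite G] {D : Subgroup G} (hD : D ≤ QQ P) (h2 : D.relIndex (QQ P) = 2)
    (hDt : ∀ x ∈ D, t * x = x * t) (hQ : Nat.card (QQ P) = 8) (hC : Nat.card (CP P) = 2) :
    Nonempty (↥P ≃* Equiv.Perm (Fin 4) × Multiplicative (ZMod 2)) := by
  have := normal_sub (P := P)
  obtain ⟨hCD, -⟩ := S.CP_le_and_relIndex hD h2 hDt
  -- the central involution
  have hCne : CP P ≠ ⊥ := by
    intro h
    rw [h, card_bot] at hC
    omega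
  obtain ⟨⟨y, hy⟩, hy1'⟩ := (Subgroup.ne_bot_iff_exists_ne_one).1 hCne
  have hy1 : y ≠ 1 := fun h => hy1' (Subtype.ext h)
  have hyc : ∀ g ∈ P, g * y = y * g := by
    have : y ∈ centralizer (P : Set G) := hy.2
    exact mem_centralizer_iff.1 this
  -- an element of `Q` outside `D`
  have hnle : ¬ QQ P ≤ D := by
    intro h
    have : D = QQ P := le_antisymm hD h
    rw [this, relIndex_self] at h2
    omega
  obtain ⟨q, hq, hqD⟩ := SetLike.not_le_iff_exists.1 hnle
  set q' := t * q * t⁻¹ with hq'def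
  have hq' : q' ∈ QQ P := conj_mem S.tP hq
  have hqq : q * q = 1 := S.hexp q hq
  have hq'q' : q' * q' = 1 := S.hexp q' hq'
  have hne : q' ≠ q := by
    intro h
    apply hqD
    apply S.mem_D_of_comm hD h2 hDt hq
    calc t * q = (t * q * t⁻¹) * t := by group
      _ = q * t := by rw [← hq'def, h]
  have hq1 : q ≠ 1 := fun h => hqD (h ▸ D.one_mem)
  have hq'D : q' ∉ D := by
    intro hc
    apply hqD
    have h3 := hDt _ hc
    have : q = q' := by
      calc q = t⁻¹ * ((t * q * t⁻¹) * t) := by group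
        _ = t⁻¹ * (t * (t * q * t⁻¹)) := by rw [← hq'def, ← h3]
        _ = q' := by rw [hq'def]; group
    rw [this]; exact hc
  have htq' : t * q' * t⁻¹ = q := by
    rw [hq'def, S.t_inv]
    calc t * (t * q * t) * t = (t * t) * q * (t * t) := by group
      _ = q := by rw [S.tt, one_mul, mul_one]
  -- the four-group `B`
  let B₀ : Subgroup G := adj ⊥ q hqq (by
    intro b hb
    rw [mem_bot] at hb
    rw [hb]; simp)
  have hB₀ : ∀ x, x ∈ B₀ ↔ x = 1 ∨ x * q = 1 := by
    intro x
    show x ∈ (⊥ : Subgroup G) ∨ x * q ∈ (⊥ : Subgroup G) ↔ _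
    rw [mem_bot, mem_bot]
  have hB₀Q : B₀ ≤ QQ P := by
    intro x hx
    rcases (hB₀ x).1 hx with rfl | h
    · exact one_mem _
    · rw [eq_inv_of_mul_eq_one_left h]; exact inv_mem hq
  let B : Subgroup G := adj B₀ q' hq'q' (by
    intro b hb
    rw [S.comm hq' (hB₀Q hb)]
    simpa using hb)
  have hB : ∀ x, x ∈ B ↔ (x = 1 ∨ x * q = 1) ∨ (x * q' = 1 ∨ x * q' * q = 1) := by
    intro x
    show x ∈ B₀ ∨ x * q' ∈ B₀ ↔ _
    rw [hB₀, hB₀]
  have hBQ : B ≤ QQ P := by
    intro x hx
    rcases hx with h | h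
    · exact hB₀Q h
    · have : x = (x * q') * q'⁻¹ := by group
      rw [this]
      exact mul_mem (hB₀Q h) (inv_mem hq')
  have hcardB₀ : Nat.card B₀ = 2 := by
    have := card_adj (⊥ : Subgroup G) q hqq (by
      intro b hb
      rw [mem_bot] at hb
      rw [hb]; simp) (by rw [mem_bot]; exact hq1)
    rw [card_bot] at this
    exact this
  have hq'B₀ : q' ∉ B₀ := by
    rw [hB₀]
    rintro (h | h)
    · apply hq'D; rw [h]; exact D.one_mem
    · apply hne
      rw [eq_inv_of_mul_eq_one_left h, S.inv_eq hq]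
  have hcardB : Nat.card B = 4 := by
    have := card_adj B₀ q' hq'q' (by
      intro b hb
      rw [S.comm hq' (hB₀Q hb)]
      simpa using hb) hq'B₀
    rw [hcardB₀] at this
    exact this
  have hyB : y ∉ B := by
    rw [hB]
    rintro ((h | h) | (h | h))
    · exact hy1 h
    · apply hqD
      have : q = y⁻¹ := (inv_eq_of_mul_eq_one_right h).symm
      rw [this]; exact inv_mem (hCD hy)
    · apply hq'D
      have : q' = y⁻¹ := (inv_eq_of_mul_eq_one_right h).symm
      rw [this]; exact inv_mem (hCD hy)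
    · -- `q' * q ∈ C_Q(P)` is impossible
      have hw : q' * q ∈ CP P := by
        have : q' * q = y⁻¹ := by
          apply (inv_eq_of_mul_eq_one_right _).symm
          rw [← mul_assoc]; exact h
        rw [this]; exact inv_mem hy
      apply S.no_stab (CP P) inf_le_left
      · intro g hg c hc
        have h3 : c ∈ centralizer (P : Set G) := hc.2
        rw [mem_centralizer_iff] at h3
        rw [h3 g hg]; group
      · intro x hx
        by_cases hxD : x ∈ D
        · rw [hDt x hxD]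
          simp
        · have hδ : x * q ∈ D :=
            (mul_mem_iff_of_relIndex_two h2 hx hq).2 ⟨fun h => absurd h hxD, fun h => absurd h hqD⟩
          set δ := x * q with hδdef
          have hx' : x = δ * q := by
            rw [hδdef, mul_assoc, hqq, mul_one]
          have e : t * x * t⁻¹ * x⁻¹ = q' * q := by
            rw [hx']
            calc t * (δ * q) * t⁻¹ * (δ * q)⁻¹ = (t * δ) * t⁻¹ * (t * q * t⁻¹) * q⁻¹ * δ⁻¹ := by group
              _ = δ * (q' * q) * δ⁻¹ := by rw [hDt δ hδ, ← hq'def, S.inv_eq hq]; group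
              _ = q' * q := by
                  rw [S.comm (hD hδ) (mul_mem hq' hq)]; group
          rw [e]; exact hw
  have htB : ∀ b ∈ B, t * b * t⁻¹ ∈ B := by
    intro b hb
    rw [hB] at hb ⊢
    rcases hb with (h | h) | (h | h)
    · left; left
      rw [h]; simp
    · right; left
      have : b = q := by rw [eq_inv_of_mul_eq_one_left h, S.inv_eq hq]
      rw [this, ← hq'def]; exact hq'q'
    · left; right
      have : b = q' := by rw [eq_inv_of_mul_eq_one_left h, S.inv_eq hq']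
      rw [this, htq']; exact hqq
    · right; right
      have : b = q' * q := by
        have h' : b * (q' * q) = 1 := by rw [← mul_assoc]; exact h
        rw [eq_inv_of_mul_eq_one_left h', S.inv_eq (mul_mem hq' hq)]
      have e : t * b * t⁻¹ = q * q' := by
        rw [this]
        calc t * (q' * q) * t⁻¹ = (t * q' * t⁻¹) * (t * q * t⁻¹) := by group
          _ = q * q' := by rw [htq', ← hq'def]
      rw [e, mul_assoc q, hq'q', mul_one]; exact hqq
  -- transport to `↥P`
  refine Cfsg.Agent.Lib.Helper81.BA.s4z2_recog (M := ↥P) (by rw [S.card_P, hQ]) ((QQ P).subgroupOf P)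
    (by rw [card_subgroupOf' QP, hQ]) S.exp_sub S.cent_sub ⟨y, QP hy.1⟩ ?_ ?_ ⟨t, S.tP⟩ ?_ ?_
    (B.subgroupOf P) ?_ ?_ ?_ ?_
  · rw [mem_center_iff]
    intro g
    exact Subtype.ext (hyc g g.2)
  · intro h
    exact hy1 (congrArg Subtype.val h)
  · exact Subtype.ext S.tt
  · rw [mem_subgroupOf]; exact S.tQ
  · intro x hx
    rw [mem_subgroupOf] at hx ⊢
    exact hBQ hx
  · rw [card_subgroupOf' (hBQ.trans QP), hcardB]
  · rw [mem_subgroupOf]; exact hyB
  · intro b hb
    rw [mem_subgroupOf] at hb ⊢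
    exact htB b hb

end Sit

theorem bstr [Finite G] (hl : Loc1St G) : BStrSt G := by
  intro P₁ P₂ T h he₁ he₂
  obtain ⟨t₁, t₂, D, O⟩ := orders hl h he₁ he₂
  rcases O.card with ⟨-, -, h1, h2⟩ | ⟨c1, c2, h1, h2⟩
  · left
    exact ⟨h1, h2, O.S₁.id4 h1, O.S₂.id4 h2⟩
  · right
    exact ⟨h1, h2, O.S₁.id8 O.D₁ O.i₁ O.c₁ h1 c1, O.S₂.id8 O.D₂ O.i₂ O.c₂ h2 c2⟩

end Cfsg.Agent.Lib.Helper36.BA
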