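import Mathlib
import Cfsg.Prelude.Def_Involutions
import Cfsg.Agent.Lib.Helper26.StronglyEmbedded
import Cfsg.Agent.Lib.Helper26.StronglyEmbedded2
import Cfsg.Agent.Lib.Helper26.ElemCent3

set_option autoImplicit false
set_option linter.unusedSectionVars false

/-! Groups in which involutions have abelian centralizers, part A: the strongly embedded subgroup
`Hs z = {g | g z g⁻¹ commutes with z}` and the two point stabiliser. -/

namespace Cfsg.Agent.Lib.Helper36.AbCent

open Cfsg.Agent.Lib.Helper26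

variable {G : Type*} [Group G]

/-- involution centralizers are abelian (elementwise form). -/
def Ab (G : Type*) [Group G] : Prop :=
  ∀ t : G, orderOf t = 2 → ∀ a b : G, Commute a t → Commute b t → Commute a b

/-- centralizers of nonidentity elements of `C(t)` normalize `C(t)`. -/
def Loc (G : Type*) [Group G] : Prop :=
  ∀ t : G, orderOf t = 2 → ∀ r : G, r ≠ 1 → Commute r t → ∀ g : G, Commute g r →
    ∀ a : G, Commute a t → Commute (g * a * g⁻¹) t

lemma inv_sq {t : G} (ht : orderOf t = 2) : t * t = 1 := invol_mul_self ht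
lemma inv_inv' {t : G} (ht : orderOf t = 2) : t⁻¹ = t := invol_inv ht
lemma inv_conj {t : G} (ht : orderOf t = 2) (g : G) : orderOf (g * t * g⁻¹) = 2 := by
  rw [orderOf_conj_eq, ht]

lemma comm_iff (hab : Ab G) {s t : G} (hs : orderOf s = 2) (ht : orderOf t = 2) (hst : Commute s t)
    (a : G) : Commute a s ↔ Commute a t :=
  ⟨fun h => hab s hs a t h hst.symm, fun h => hab t ht a s h hst⟩

/-- the subgroup `N(C(z))`, described elementwise. -/
def Hs (hab : Ab G) (z : G) (hz : orderOf z = 2) : Subgroup G where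
  carrier := {g | Commute (g * z * g⁻¹) z}
  one_mem' := by simp
  mul_mem' := by
    intro g h hg hh
    simp only [Set.mem_ofPred_eq] at hg hh ⊢
    have h1 : Commute (g * (h * z * h⁻¹) * g⁻¹) (g * z * g⁻¹) := Commute.conj_iff g |>.mpr hh
    have h2 := hab (g * z * g⁻¹) (inv_conj hz g) _ _ h1 hg.symm
    have : g * h * z * (g * h)⁻¹ = g * (h * z * h⁻¹) * g⁻¹ := by simp [mul_assoc]
    rw [this]; exact h2
  inv_mem' := by
    intro g hg
    simp only [Set.mem_ofPred_eq] at hg ⊢
    have := (Commute.conj_iff g⁻¹ (a := g * z * g⁻¹) (b := z)).mpr hg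
    have e : g⁻¹ * (g * z * g⁻¹) * g⁻¹⁻¹ = z := by simp [mul_assoc]
    rw [e] at this
    exact this.symm

variable (hab : Ab G) {z : G} (hz : orderOf z = 2)

lemma mem_Hs {g : G} : g ∈ Hs hab z hz ↔ Commute (g * z * g⁻¹) z := Iff.rfl

lemma mem_Hs_of_comm {a : G} (ha : Commute a z) : a ∈ Hs hab z hz := by
  rw [mem_Hs]
  have : a * z * a⁻¹ = z := by rw [ha.eq, mul_assoc, mul_inv_cancel, mul_one]
  rw [this]

lemma conj_comm {g a : G} (hg : g ∈ Hs hab z hz) (ha : Commute a z) : Commute (g * a * g⁻¹) z := by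
  have h1 : Commute (g * a * g⁻¹) (g * z * g⁻¹) := (Commute.conj_iff g).mpr ha
  exact hab _ (inv_conj hz g) _ _ h1 ((mem_Hs hab hz).mp hg).symm

lemma inv_comm_of_mem {w : G} (hw : orderOf w = 2) (hwH : w ∈ Hs hab z hz) : Commute w z := by
  have h1 : Commute (w * z * w⁻¹) z := hwH
  have hww := inv_sq hw
  have hzz := inv_sq hz
  rw [inv_inv' hw] at h1
  by_cases hp : z * (w * z * w) = 1
  · have : w * z * w = z := by
      have := congrArg (fun x => z * x) hp
      simp only [← mul_assoc, hzz, one_mul, mul_one] at this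
      simpa [mul_assoc] using this
    have h2 : w * z = z * w := by
      have := congrArg (fun x => x * w) this
      simpa [mul_assoc, hww] using this
    exact h2
  · have hp2 : (z * (w * z * w)) * (z * (w * z * w)) = 1 := by
      have e : (w * z * w) * z = z * (w * z * w) := h1.eq
      calc (z * (w * z * w)) * (z * (w * z * w)) = z * ((w * z * w) * z) * (w * z * w) := by
            simp only [mul_assoc]
        _ = z * (z * (w * z * w)) * (w * z * w) := by rw [e]
        _ = (z * z) * (w * (z * ((w * w) * z)) * w) := by simp only [mul_assoc]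
        _ = 1 := by rw [hzz, hww, one_mul, one_mul, hzz, mul_one, hww]
    have hpo : orderOf (z * (w * z * w)) = 2 := orderOf_eq_two_of hp2 hp
    have hwp : Commute w (z * (w * z * w)) := by
      have e : (w * z * w) * z = z * (w * z * w) := h1.eq
      show w * (z * (w * z * w)) = z * (w * z * w) * w
      calc w * (z * (w * z * w)) = (w * z * w) * z * w := by simp only [mul_assoc]
        _ = z * (w * z * w) * w := by rw [e]
    have hzp : Commute z (z * (w * z * w)) := (Commute.refl z).mul_right h1.symm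
    exact hab _ hpo _ _ hwp hzp

lemma mem_Hs_conj {x g : G} :
    g ∈ Hs hab (x * z * x⁻¹) (inv_conj hz x) ↔ x⁻¹ * g * x ∈ Hs hab z hz := by
  rw [mem_Hs, mem_Hs]
  rw [← Commute.conj_iff x⁻¹]
  have e1 : x⁻¹ * (g * (x * z * x⁻¹) * g⁻¹) * x⁻¹⁻¹ = x⁻¹ * g * x * z * (x⁻¹ * g * x)⁻¹ := by
    simp [mul_assoc]
  have e2 : x⁻¹ * (x * z * x⁻¹) * x⁻¹⁻¹ = z := by simp [mul_assoc]
  rw [e1, e2]

variable [Finite G]

theorem stronglyEmbedded {w : G} (hw : orderOf w = 2) (hwz : ¬ Commute w z) :
    Cfsg.IsStronglyEmbedded (Hs hab z hz) := by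
  refine ⟨fun h => hwz (inv_comm_of_mem hab hz hw (h ▸ Subgroup.mem_top w)), ?_, ?_⟩
  · have hzH : z ∈ Hs hab z hz := mem_Hs_of_comm hab hz (Commute.refl z)
    have := orderOf_dvd_natCard (⟨z, hzH⟩ : Hs hab z hz)
    rw [Subgroup.orderOf_mk, hz] at this
    exact even_iff_two_dvd.mpr this
  · intro g hg
    by_contra hodd
    rw [Nat.not_odd_iff_even] at hodd
    obtain ⟨t, ht⟩ := exists_prime_orderOf_dvd_card' 2 (even_iff_two_dvd.mp hodd)
    have ht2 : orderOf (t : G) = 2 := by rw [Subgroup.orderOf_coe, ht]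
    obtain ⟨h1, n, hnN, hn⟩ := Subgroup.mem_inf.mp t.2
    simp only [MulEquiv.coe_toMonoidHom, MulAut.conj_apply] at hn
    have hn2 : orderOf n = 2 := by rw [← orderOf_conj_eq g n, hn, ht2]
    have c1 : Commute (t : G) z := inv_comm_of_mem hab hz ht2 h1
    have c2 : Commute n z := inv_comm_of_mem hab hz hn2 hnN
    have c3 : Commute (g * z * g⁻¹) (t : G) := by
      rw [← hn]; exact (Commute.conj_iff g).mpr c2.symm
    exact hg (hab _ ht2 _ _ c3 c1.symm)

variable (hloc : Loc G)

include hab hloc hz in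
/-- distinct involution centralizers meet trivially -/
lemma eq_one_of_comm_comm {s r : G} (hs : orderOf s = 2) (hsz : ¬ Commute s z)
    (h1 : Commute r z) (h2 : Commute r s) : r = 1 := by
  by_contra hr
  have := hloc z hz r hr h1 s h2.symm z (Commute.refl z)
  exact hsz (inv_comm_of_mem hab hz hs this)

/-- the two point stabiliser -/
def Dg (u : G) : Subgroup G := Hs hab z hz ⊓ (Hs hab z hz).map (MulAut.conj u).toMonoidHom

lemma mem_Dg {u : G} (hu : orderOf u = 2) {d : G} :
    d ∈ Dg hab hz u ↔ d ∈ Hs hab z hz ∧ u * d * u ∈ Hs hab z hz := by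
  unfold Dg
  rw [Subgroup.mem_inf]
  constructor
  · rintro ⟨h1, n, hn, rfl⟩
    refine ⟨h1, ?_⟩
    simp only [MulEquiv.coe_toMonoidHom, MulAut.conj_apply]
    have : u * (u * n * u⁻¹) * u = (u * u) * n * (u⁻¹ * u) := by simp only [mul_assoc]
    rw [this, inv_sq hu]; simpa using hn
  · rintro ⟨h1, h2⟩
    refine ⟨h1, u * d * u, h2, ?_⟩
    simp only [MulEquiv.coe_toMonoidHom, MulAut.conj_apply]
    have : u * (u * d * u) * u⁻¹ = (u * u) * d * (u * u⁻¹) := by simp only [mul_assoc]
    rw [this, inv_sq hu]; simp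

lemma Dg_conj_mem {u : G} (hu : orderOf u = 2) {d : G} (hd : d ∈ Dg hab hz u) :
    u * d * u ∈ Dg hab hz u := by
  rw [mem_Dg hab hz hu] at hd ⊢
  refine ⟨hd.2, ?_⟩
  have : u * (u * d * u) * u = (u * u) * d * (u * u) := by simp only [mul_assoc]
  rw [this, inv_sq hu]; simpa using hd.1

end Cfsg.Agent.Lib.Helper36.AbCent
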