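import Mathlib
import Cfsg.Agent.Lib.Helper36.AbCentA
import Cfsg.Agent.S1225

set_option autoImplicit false
set_option linter.unusedSectionVars false

/-! Abelian involution centralizers, part B: `D = H ∩ H^u` is a Frobenius complement inverted by `u`. -/

namespace Cfsg.Agent.Lib.Helper36.AbCent

open Cfsg.Agent.Lib.Helper26

variable {G : Type*} [Group G]

lemma comm_of_sq_comm {r x : G} (hodd : Odd (orderOf r)) (h : Commute (r * r) x) : Commute r x := by
  obtain ⟨k, hk⟩ := hodd
  have : r = (r * r) ^ (k + 1) := by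
    rw [← pow_two, ← pow_mul]
    have : 2 * (k + 1) = orderOf r + 1 := by omega
    rw [this, pow_succ, pow_orderOf_eq_one, one_mul]
  rw [this]; exact h.pow_left _

lemma eq_one_of_sq_of_odd {r : G} (hodd : Odd (orderOf r)) (h : r * r = 1) : r = 1 := by
  have h2 : orderOf r ∣ 2 := orderOf_dvd_of_pow_eq_one (by rw [pow_two, h])
  rcases (Nat.dvd_prime Nat.prime_two).mp h2 with h1 | h1
  · exact orderOf_eq_one_iff.mp h1
  · rw [h1] at hodd; exact absurd hodd (by decide)

variable [Finite G] (hab : Ab G) (hloc : Loc G) {z : G} (hz : orderOf z = 2)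
  {u : G} (hu : orderOf u = 2) (huz : ¬ Commute u z)

include huz hu in
lemma u_not_mem : u ∉ Hs hab z hz := fun h => huz (inv_comm_of_mem hab hz hu h)

include huz hu in
lemma Dg_odd : Odd (Nat.card (Dg hab hz u)) :=
  (stronglyEmbedded hab hz hu huz).2.2 u (u_not_mem hab hz hu huz)

include huz hu in
lemma Dg_orderOf_odd {d : G} (hd : d ∈ Dg hab hz u) : Odd (orderOf d) := by
  have := orderOf_dvd_natCard (⟨d, hd⟩ : Dg hab hz u)
  rw [Subgroup.orderOf_mk] at this
  exact (Dg_odd hab hz hu huz).of_dvd_nat this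

include hloc huz hu in
/-- `D ∩ A = 1`. -/
lemma Dg_inter {r : G} (hd : r ∈ Dg hab hz u) (hrz : Commute r z) : r = 1 := by
  have huu := inv_sq hu
  have hui := inv_inv' hu
  have hd' := (mem_Dg hab hz hu).mp hd
  have hz' : orderOf (u * z * u⁻¹) = 2 := inv_conj hz u
  have hz'z : ¬ Commute (u * z * u⁻¹) z := fun h => u_not_mem hab hz hu huz h
  have hr'H : u * r * u⁻¹ ∈ Hs hab z hz := by rw [hui]; exact hd'.2
  have hr'z' : Commute (u * r * u⁻¹) (u * z * u⁻¹) := (Commute.conj_iff u).mpr hrz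
  have hrH' : r ∈ Hs hab (u * z * u⁻¹) hz' := by
    rw [mem_Hs_conj hab hz, hui]; exact hd'.2
  -- the commutator is trivial
  have hb1 : Commute (r * (u * r * u⁻¹) * r⁻¹ * (u * r * u⁻¹)⁻¹) z := by
    have h1 : Commute ((u * r * u⁻¹) * r⁻¹ * (u * r * u⁻¹)⁻¹) z := conj_comm hab hz hr'H hrz.inv_left
    have := hrz.mul_left h1
    simpa only [mul_assoc] using this
  have hb2 : Commute (r * (u * r * u⁻¹) * r⁻¹ * (u * r * u⁻¹)⁻¹) (u * z * u⁻¹) := by
    have h1 : Commute (r * (u * r * u⁻¹) * r⁻¹) (u * z * u⁻¹) := conj_comm hab hz' hrH' hr'z'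
    exact h1.mul_left hr'z'.inv_left
  have hb := eq_one_of_comm_comm hab hz hloc hz' hz'z hb1 hb2
  have hcomm : Commute r (u * r * u⁻¹) := by
    have : r * (u * r * u⁻¹) = (u * r * u⁻¹) * r := by
      have := congrArg (fun x => x * (u * r * u⁻¹) * r) hb
      simpa [mul_assoc] using this
    exact this
  have hodd := Dg_orderOf_odd hab hz hu huz hd
  -- c = r r'
  have hcu : Commute (r * (u * r * u⁻¹)) u := by
    show r * (u * r * u⁻¹) * u = u * (r * (u * r * u⁻¹))
    calc r * (u * r * u⁻¹) * u = (u * r * u⁻¹) * r * u := by rw [hcomm.eq]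
      _ = u * (r * (u * r * u⁻¹)) := by rw [hui]; simp only [mul_assoc]
  have key : Commute r u := by
    by_cases hc : r * (u * r * u⁻¹) = 1
    · -- r' = r⁻¹
      have h1 : u * r * u⁻¹ = r⁻¹ := eq_inv_of_mul_eq_one_right hc
      have h2 : Commute r⁻¹ (u * z * u⁻¹) := h1 ▸ hr'z'
      have h3 := eq_one_of_comm_comm hab hz hloc hz' hz'z hrz.inv_left h2
      rw [inv_eq_one] at h3
      rw [h3]; exact Commute.one_left u
    · have hrc : Commute r (r * (u * r * u⁻¹)) := (Commute.refl r).mul_right hcomm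
      have h1 := hloc u hu _ hc hcu r hrc u (Commute.refl u)
      -- r u r⁻¹ = r r'⁻¹ u
      have e : r * u * r⁻¹ = r * (u * r * u⁻¹)⁻¹ * u := by
        simp only [mul_inv_rev, inv_inv, mul_assoc, inv_mul_cancel, mul_one]
      rw [e] at h1
      have h2 : Commute (r * (u * r * u⁻¹)⁻¹) u := by
        have := h1.mul_left (Commute.refl u).inv_left
        simpa [mul_assoc] using this
      have h3 : Commute (r * r) u := by
        have := hcu.mul_left h2
        have e2 : r * (u * r * u⁻¹) * (r * (u * r * u⁻¹)⁻¹) = r * r := by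
          rw [mul_assoc, ← mul_assoc (u * r * u⁻¹) r, ← hcomm.eq, mul_assoc r (u * r * u⁻¹),
            mul_inv_cancel, mul_one]
        rwa [e2] at this
      exact comm_of_sq_comm hodd h3
  have h4 : u * r * u⁻¹ = r := by rw [← key.eq, mul_assoc, mul_inv_cancel, mul_one]
  rw [h4] at hr'z'
  exact eq_one_of_comm_comm hab hz hloc hz' hz'z hrz hr'z'

include hloc huz hu in
lemma Dg_trans {s t : G} (hs : orderOf s = 2) (hsz : Commute s z) (ht : orderOf t = 2)
    (htz : Commute t z) : ∃ d ∈ Dg hab hz u, d * s * d⁻¹ = t :=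
  (Cfsg.Agent.S1225.result (Hs hab z hz) (stronglyEmbedded hab hz hu huz) u hu
    (u_not_mem hab hz hu huz) s t hs (mem_Hs_of_comm hab hz hsz) ht (mem_Hs_of_comm hab hz htz)).1

include hloc huz hu in
lemma Dg_card : Nat.card (Dg hab hz u) = Nat.card {s : G // orderOf s = 2 ∧ Commute s z} := by
  apply Nat.card_congr
  refine Equiv.ofBijective (fun d => ⟨d.1 * z * d.1⁻¹, inv_conj hz _,
    conj_comm hab hz (Subgroup.mem_inf.mp d.2).1 (Commute.refl z)⟩) ⟨?_, ?_⟩
  · intro d e hde
    have h1 : d.1 * z * d.1⁻¹ = e.1 * z * e.1⁻¹ := congrArg Subtype.val hde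
    have h2 : Commute (e.1⁻¹ * d.1) z := by
      show e.1⁻¹ * d.1 * z = z * (e.1⁻¹ * d.1)
      have := congrArg (fun x => e.1⁻¹ * x * d.1) h1
      simpa [mul_assoc] using this
    have h3 := Dg_inter hab hloc hz hu huz ((Dg hab hz u).mul_mem ((Dg hab hz u).inv_mem e.2) d.2) h2
    ext
    exact (inv_mul_eq_one.mp h3).symm
  · rintro ⟨s, hs, hsz⟩
    obtain ⟨d, hd, hds⟩ := Dg_trans hab hloc hz hu huz hz (Commute.refl z) hs hsz
    exact ⟨⟨d, hd⟩, Subtype.ext hds⟩

include hloc huz hu in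
/-- `u` inverts `D`. -/
lemma Dg_inverted {d : G} (hd : d ∈ Dg hab hz u) : u * d * u⁻¹ = d⁻¹ := by
  have huu := inv_sq hu
  have hui := inv_inv' hu
  have hSE := stronglyEmbedded hab hz hu huz
  have hne : (QuotientGroup.mk 1 : G ⧸ Hs hab z hz) ≠ QuotientGroup.mk u := by
    intro h
    rw [QuotientGroup.eq] at h
    exact u_not_mem hab hz hu huz (by simpa using h)
  have h1 := SE_card_swap hSE _ _ hne
  have h2 : Nat.card {t : G // orderOf t = 2 ∧ t ∈ Hs hab z hz} =
      Nat.card {s : G // orderOf s = 2 ∧ Commute s z} := by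
    apply Nat.card_congr
    exact Equiv.subtypeEquivRight (fun t => ⟨fun h => ⟨h.1, inv_comm_of_mem hab hz h.1 h.2⟩,
      fun h => ⟨h.1, mem_Hs_of_comm hab hz h.2⟩⟩)
  let f : {i : G // orderOf i = 2 ∧ i • (QuotientGroup.mk 1 : G ⧸ Hs hab z hz) = QuotientGroup.mk u} →
      Dg hab hz u := fun i => ⟨u * i.1, by
    have hi := i.2.2
    rw [smul_mk_eq_mk_iff, mul_one, hui] at hi
    rw [mem_Dg hab hz hu]
    refine ⟨hi, ?_⟩
    have : u * (u * i.1) * u = (u * i.1)⁻¹ := by
      rw [mul_inv_rev, hui, inv_inv' i.2.1, ← mul_assoc u u, huu, one_mul]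
    rw [this]; exact (Hs hab z hz).inv_mem hi⟩
  have hf : Function.Injective f := by
    intro i j hij
    have : u * i.1 = u * j.1 := congrArg Subtype.val hij
    exact Subtype.ext (mul_left_cancel this)
  have hbij := hf.bijective_of_nat_card_le (by rw [h1, h2, Dg_card hab hloc hz hu huz])
  obtain ⟨i, hi⟩ := hbij.2 ⟨d, hd⟩
  have hid : u * i.1 = d := congrArg Subtype.val hi
  have hii := inv_sq i.2.1
  rw [← hid, hui, mul_inv_rev, hui, inv_inv' i.2.1, ← mul_assoc u u, huu, one_mul]

include hloc huz hu in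
lemma Dg_comm {d e : G} (hd : d ∈ Dg hab hz u) (he : e ∈ Dg hab hz u) : Commute d e := by
  have h1 := Dg_inverted hab hloc hz hu huz hd
  have h2 := Dg_inverted hab hloc hz hu huz he
  have h3 := Dg_inverted hab hloc hz hu huz ((Dg hab hz u).mul_mem hd he)
  have h4 : u * (d * e) * u⁻¹ = (u * d * u⁻¹) * (u * e * u⁻¹) := by simp [mul_assoc]
  rw [h4, h1, h2, mul_inv_rev] at h3
  have := congrArg (fun x => x⁻¹) h3
  simp only [mul_inv_rev, inv_inv] at this
  exact this.symm

include hloc huz hu in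
/-- `H = A D`. -/
lemma Hs_eq_mul {h : G} (hh : h ∈ Hs hab z hz) :
    ∃ a d : G, Commute a z ∧ d ∈ Dg hab hz u ∧ h = a * d := by
  obtain ⟨d, hd, hdz⟩ := Dg_trans hab hloc hz hu huz hz (Commute.refl z) (inv_conj hz h)
    (conj_comm hab hz hh (Commute.refl z))
  have hdH : d ∈ Hs hab z hz := (Subgroup.mem_inf.mp hd).1
  have h1 : Commute (d⁻¹ * h) z := by
    show d⁻¹ * h * z = z * (d⁻¹ * h)
    have := congrArg (fun x => d⁻¹ * x * h) hdz
    simp only [mul_assoc, inv_mul_cancel, mul_one, inv_mul_cancel_left] at this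
    simpa [mul_assoc] using this.symm
  refine ⟨d * (d⁻¹ * h) * d⁻¹, d, conj_comm hab hz hdH h1, hd, by simp [mul_assoc]⟩

include hloc huz hu in
/-- the centralizer of a nonidentity element of `D` is inverted by `u`. -/
lemma cent_inverted {x : G} (hx : x ∈ Dg hab hz u) (hx1 : x ≠ 1) {c : G} (hc : Commute c x) :
    u * c * u⁻¹ = c⁻¹ := by
  have huu := inv_sq hu
  have hui := inv_inv' hu
  have hxi := Dg_inverted hab hloc hz hu huz hx
  have hodd := Dg_orderOf_odd hab hz hu huz hx
  -- fixed point free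
  have hfpf : ∀ c : G, Commute c x → Commute c u → c = 1 := by
    intro c hcx hcu
    by_contra hc1
    have h1 := hloc u hu c hc1 hcu x hcx.symm u (Commute.refl u)
    have e : x * u * x⁻¹ = x * x * u := by
      have : u * x⁻¹ = x * u := by
        have := congrArg (fun y => y⁻¹ * u) hxi
        simp only [mul_inv_rev, inv_inv, mul_assoc, inv_mul_cancel, mul_one] at this
        exact this
      rw [mul_assoc, this, mul_assoc]
    rw [e] at h1
    have h2 : Commute (x * x) u := by
      have := h1.mul_left (Commute.refl u).inv_left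
      simpa [mul_assoc] using this
    have h3 := comm_of_sq_comm hodd h2
    have h4 : u * x * u⁻¹ = x := by rw [← h3.eq, mul_assoc, mul_inv_cancel, mul_one]
    rw [h4] at hxi
    have h5 : x * x = 1 := by
      nth_rewrite 1 [hxi]; exact inv_mul_cancel x
    exact hx1 (eq_one_of_sq_of_odd hodd h5)
  have hconj : ∀ c : G, Commute c x → Commute (u * c * u⁻¹) x := by
    intro c hcx
    have h1 : Commute (u * c * u⁻¹) (u * x * u⁻¹) := (Commute.conj_iff u).mpr hcx
    rw [hxi] at h1
    simpa using h1.inv_right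
  let φ : {c : G // Commute c x} → {c : G // Commute c x} :=
    fun c => ⟨c.1⁻¹ * (u * c.1 * u⁻¹), c.2.inv_left.mul_left (hconj c.1 c.2)⟩
  have hφ : Function.Injective φ := by
    intro c e hce
    have h1 : c.1⁻¹ * (u * c.1 * u⁻¹) = e.1⁻¹ * (u * e.1 * u⁻¹) := congrArg Subtype.val hce
    have h2 : Commute (e.1 * c.1⁻¹) u := by
      show e.1 * c.1⁻¹ * u = u * (e.1 * c.1⁻¹)
      have := congrArg (fun y => e.1 * y * (u * c.1⁻¹)) h1
      simp only [mul_assoc, inv_mul_cancel_left, mul_inv_cancel, mul_one, mul_inv_cancel_left] at this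
      rw [mul_assoc]; exact this
    have h3 := hfpf _ (e.2.mul_left c.2.inv_left) h2
    exact Subtype.ext (mul_inv_eq_one.mp h3).symm
  obtain ⟨e, he⟩ := (Finite.injective_iff_surjective.mp hφ) ⟨c, hc⟩
  have he' : e.1⁻¹ * (u * e.1 * u⁻¹) = c := congrArg Subtype.val he
  rw [← he', hui]
  simp only [mul_inv_rev, inv_inv, mul_assoc, hui, huu, mul_one]

include hloc huz hu in
/-- Frobenius property -/
lemma frob {a d : G} (ha : Commute a z) (hd : d ∈ Dg hab hz u) (hd1 : d ≠ 1) (had : Commute a d) :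
    a = 1 := by
  have h1 := cent_inverted hab hloc hz hu huz hd hd1 had
  have hz' : orderOf (u * z * u⁻¹) = 2 := inv_conj hz u
  have hz'z : ¬ Commute (u * z * u⁻¹) z := fun h => u_not_mem hab hz hu huz h
  have h2 : Commute (u * a * u⁻¹) (u * z * u⁻¹) := (Commute.conj_iff u).mpr ha
  rw [h1] at h2
  have := eq_one_of_comm_comm hab hz hloc hz' hz'z ha.inv_left h2
  simpa using this

end Cfsg.Agent.Lib.Helper36.AbCent
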