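import Mathlib
import Cfsg.Agent.Lib.Helper36.AbCentB

set_option autoImplicit false
set_option linter.unusedSectionVars false

/-! Abelian involution centralizers, part C: `C(x) = D` for `x ∈ D#`; `A` is transitive on the other
points. -/

namespace Cfsg.Agent.Lib.Helper36.AbCent

open Cfsg.Agent.Lib.Helper26

variable {G : Type*} [Group G] [Finite G] (hab : Ab G) (hloc : Loc G) {z : G} (hz : orderOf z = 2)
  {u : G} (hu : orderOf u = 2) (huz : ¬ Commute u z)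

include hloc huz hu in
lemma cent_comm {x : G} (hx : x ∈ Dg hab hz u) (hx1 : x ≠ 1) {c e : G} (hc : Commute c x)
    (he : Commute e x) : Commute c e := by
  have h1 := cent_inverted hab hloc hz hu huz hx hx1 hc
  have h2 := cent_inverted hab hloc hz hu huz hx hx1 he
  have h3 := cent_inverted hab hloc hz hu huz hx hx1 (hc.mul_left he)
  have h4 : u * (c * e) * u⁻¹ = (u * c * u⁻¹) * (u * e * u⁻¹) := by simp [mul_assoc]
  rw [h4, h1, h2, mul_inv_rev] at h3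
  have := congrArg (fun x => x⁻¹) h3
  simp only [mul_inv_rev, inv_inv] at this
  exact this.symm

include hab hz in
lemma exists_swap_inv {w : G} (hw : orderOf w = 2) (hwz : ¬ Commute w z) {g : G}
    (hg : g ∉ Hs hab z hz) : ∃ i : G, orderOf i = 2 ∧ ¬ Commute i z ∧ g⁻¹ * i ∈ Hs hab z hz := by
  have hSE := stronglyEmbedded hab hz hw hwz
  have hne : (QuotientGroup.mk 1 : G ⧸ Hs hab z hz) ≠ QuotientGroup.mk g := by
    intro h
    rw [QuotientGroup.eq] at h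
    exact hg (by simpa using h)
  obtain ⟨i, hi, hig⟩ := SE_exists_swap hSE hne
  rw [smul_mk_eq_mk_iff, mul_one] at hig
  refine ⟨i, hi, fun h => hg ?_, hig⟩
  have h1 : i ∈ Hs hab z hz := mem_Hs_of_comm hab hz h
  have := (Hs hab z hz).mul_mem h1 ((Hs hab z hz).inv_mem hig)
  simpa [mul_assoc] using this

include hloc huz hu in
/-- `C(x) ≤ D` for `x ∈ D#`. -/
lemma cent_mem {x : G} (hx : x ∈ Dg hab hz u) (hx1 : x ≠ 1) {c : G} (hc : Commute c x) :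
    c ∈ Dg hab hz u := by
  have hxH : x ∈ Hs hab z hz := (Subgroup.mem_inf.mp hx).1
  have hcD : ∀ d ∈ Dg hab hz u, Commute c d := fun d hd =>
    cent_comm hab hloc hz hu huz hx hx1 hc (Dg_comm hab hloc hz hu huz hd hx)
  have hcH : c ∈ Hs hab z hz := by
    by_contra hcH
    obtain ⟨i, hi, hiz, hci⟩ := exists_swap_inv hab hz hu huz hcH
    have hii := inv_inv' hi
    have hle : Dg hab hz u ≤ Dg hab hz i := by
      intro d hd
      rw [mem_Dg hab hz hi]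
      refine ⟨(Subgroup.mem_inf.mp hd).1, ?_⟩
      have e : i * d * i = (c⁻¹ * i)⁻¹ * d * (c⁻¹ * i) := by
        have h1 : c * d * c⁻¹ = d := by
          rw [(hcD d hd).eq, mul_assoc, mul_inv_cancel, mul_one]
        calc i * d * i = i⁻¹ * (c * d * c⁻¹)  * i := by rw [h1, hii]
          _ = (c⁻¹ * i)⁻¹ * d * (c⁻¹ * i) := by simp [mul_assoc]
      rw [e]
      exact (Hs hab z hz).mul_mem ((Hs hab z hz).mul_mem ((Hs hab z hz).inv_mem hci)
        (Subgroup.mem_inf.mp hd).1) hci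
    have hxi : x ∈ Dg hab hz i := hle hx
    have h1 := Dg_inverted hab hloc hz hi hiz hxi
    obtain ⟨a, d₀, ha, hd₀, had⟩ := Hs_eq_mul hab hloc hz hu huz hci
    have h2 : (c⁻¹ * i) * x * (c⁻¹ * i)⁻¹ = x⁻¹ := by
      calc (c⁻¹ * i) * x * (c⁻¹ * i)⁻¹ = c⁻¹ * (i * x * i⁻¹) * c := by simp [mul_assoc]
        _ = c⁻¹ * x⁻¹ * c := by rw [h1]
        _ = x⁻¹ := by rw [mul_assoc, ← hc.inv_right.eq, inv_mul_cancel_left]
    rw [had] at h2
    have h3 : a * x * a⁻¹ = x⁻¹ := by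
      have h4 : d₀ * x * d₀⁻¹ = x := by
        rw [(Dg_comm hab hloc hz hu huz hd₀ hx).eq, mul_assoc, mul_inv_cancel, mul_one]
      calc a * x * a⁻¹ = a * (d₀ * x * d₀⁻¹) * a⁻¹ := by rw [h4]
        _ = a * d₀ * x * (a * d₀)⁻¹ := by simp [mul_assoc]
        _ = x⁻¹ := h2
    have h5 : Commute (x⁻¹ * x⁻¹) z := by
      have h6 : Commute (a * (x * a⁻¹ * x⁻¹)) z := ha.mul_left (conj_comm hab hz hxH ha.inv_left)
      have e : a * (x * a⁻¹ * x⁻¹) = x⁻¹ * x⁻¹ := by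
        rw [← h3]; simp [mul_assoc]
      rwa [e] at h6
    have h7 := Dg_inter hab hloc hz hu huz
      ((Dg hab hz u).mul_mem ((Dg hab hz u).inv_mem hx) ((Dg hab hz u).inv_mem hx)) h5
    have h8 : x * x = 1 := by
      have := congrArg (fun y => y⁻¹) h7
      simpa using this
    exact hx1 (eq_one_of_sq_of_odd (Dg_orderOf_odd hab hz hu huz hx) h8)
  obtain ⟨a, d₀, ha, hd₀, had⟩ := Hs_eq_mul hab hloc hz hu huz hcH
  have h1 : Commute a x := by
    have : a = c * d₀⁻¹ := by rw [had]; simp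
    rw [this]
    exact hc.mul_left (Dg_comm hab hloc hz hu huz hd₀ hx).inv_left
  have := frob hab hloc hz hu huz ha hx hx1 h1
  rw [had, this, one_mul]; exact hd₀

include hloc huz hu in
lemma Dg_ne_bot {z' : G} (hz' : orderOf z' = 2) (hzz' : Commute z' z) (hne : z' ≠ z) :
    ∃ x ∈ Dg hab hz u, x ≠ 1 := by
  obtain ⟨d, hd, hdz⟩ := Dg_trans hab hloc hz hu huz hz (Commute.refl z) hz' hzz'
  refine ⟨d, hd, ?_⟩
  rintro rfl
  apply hne
  simpa using hdz.symm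

include hloc huz hu in
/-- `A` is transitive on the points other than `H`. -/
lemma exists_A {z' : G} (hz' : orderOf z' = 2) (hzz' : Commute z' z) (hne : z' ≠ z)
    {i : G} (hi : orderOf i = 2) (hiz : ¬ Commute i z) :
    ∃ a : G, Commute a z ∧ (a * u)⁻¹ * i ∈ Hs hab z hz := by
  have hui := inv_inv' hu
  have hii := inv_inv' hi
  obtain ⟨x, hx, hx1⟩ := Dg_ne_bot hab hloc hz hi hiz hz' hzz' hne
  have hx' := (mem_Dg hab hz hi).mp hx
  obtain ⟨a₀, d₀, ha₀, hd₀, hxe⟩ := Hs_eq_mul hab hloc hz hu huz hx'.1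
  have hd₀H : d₀ ∈ Hs hab z hz := (Subgroup.mem_inf.mp hd₀).1
  have hd₀1 : d₀ ≠ 1 := by
    rintro rfl
    rw [mul_one] at hxe
    exact hx1 (Dg_inter hab hloc hz hi hiz hx (hxe ▸ ha₀))
  let ψ : {a : G // Commute a z} → {a : G // Commute a z} :=
    fun a => ⟨a.1 * (d₀ * a.1⁻¹ * d₀⁻¹), a.2.mul_left (conj_comm hab hz hd₀H a.2.inv_left)⟩
  have hψ : Function.Injective ψ := by
    intro a b hab'
    have h1 : a.1 * (d₀ * a.1⁻¹ * d₀⁻¹) = b.1 * (d₀ * b.1⁻¹ * d₀⁻¹) := congrArg Subtype.val hab'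
    have hcab : Commute a.1 b.1 := hab z hz _ _ a.2 b.2
    have hc1 : Commute b.1⁻¹ (d₀ * a.1⁻¹ * d₀⁻¹) :=
      hab z hz _ _ b.2.inv_left (conj_comm hab hz hd₀H a.2.inv_left)
    have h2 : Commute (b.1⁻¹ * a.1) d₀ := by
      show b.1⁻¹ * a.1 * d₀ = d₀ * (b.1⁻¹ * a.1)
      have h3 : b.1⁻¹ * a.1 * (d₀ * a.1⁻¹ * d₀⁻¹) = d₀ * b.1⁻¹ * d₀⁻¹ := by
        rw [mul_assoc, h1, inv_mul_cancel_left]
      have := congrArg (fun y => y * (d₀ * a.1)) h3
      simpa [mul_assoc] using this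
    have h4 := frob hab hloc hz hu huz (b.2.inv_left.mul_left a.2) hd₀ hd₀1 h2
    exact Subtype.ext (inv_mul_eq_one.mp h4).symm
  obtain ⟨a, ha⟩ := (Finite.injective_iff_surjective.mp hψ) ⟨a₀, ha₀⟩
  have ha' : a.1 * (d₀ * a.1⁻¹ * d₀⁻¹) = a₀ := congrArg Subtype.val ha
  have hax : a.1 * d₀ * a.1⁻¹ = x := by
    rw [hxe, ← ha']; simp [mul_assoc]
  have haH : a.1 ∈ Hs hab z hz := mem_Hs_of_comm hab hz a.2
  -- i' = a⁻¹ i a
  have hi' : orderOf (a.1⁻¹ * i * a.1) = 2 := by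
    have := inv_conj hi a.1⁻¹
    rwa [inv_inv] at this
  have hi'z : ¬ Commute (a.1⁻¹ * i * a.1) z := by
    intro h
    apply hiz
    have h1 := (Commute.conj_iff a.1).mpr h
    have e1 : a.1 * (a.1⁻¹ * i * a.1) * a.1⁻¹ = i := by simp [mul_assoc]
    have e2 : a.1 * z * a.1⁻¹ = z := by rw [a.2.eq, mul_assoc, mul_inv_cancel, mul_one]
    rwa [e1, e2] at h1
  have hd₀i' : d₀ ∈ Dg hab hz (a.1⁻¹ * i * a.1) := by
    rw [mem_Dg hab hz hi']
    refine ⟨hd₀H, ?_⟩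
    have e : a.1⁻¹ * i * a.1 * d₀ * (a.1⁻¹ * i * a.1) = a.1⁻¹ * (i * x * i) * a.1 := by
      rw [← hax]; simp [mul_assoc]
    rw [e]
    exact (Hs hab z hz).mul_mem ((Hs hab z hz).mul_mem ((Hs hab z hz).inv_mem haH) hx'.2) haH
  have h1 := Dg_inverted hab hloc hz hu huz hd₀
  have h2 := Dg_inverted hab hloc hz hi' hi'z hd₀i'
  have h3 : Commute (u * (a.1⁻¹ * i * a.1)) d₀ := by
    show u * (a.1⁻¹ * i * a.1) * d₀ = d₀ * (u * (a.1⁻¹ * i * a.1))
    have h4 : (a.1⁻¹ * i * a.1) * d₀ = d₀⁻¹ * (a.1⁻¹ * i * a.1) := by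
      have := congrArg (fun y => y * (a.1⁻¹ * i * a.1)) h2
      simpa [mul_assoc] using this
    have h5 : u * d₀⁻¹ = d₀ * u := by
      have := congrArg (fun y => y⁻¹ * u) h1
      simpa [mul_assoc] using this
    rw [mul_assoc, h4, ← mul_assoc, h5, mul_assoc]
  have h6 := cent_mem hab hloc hz hu huz hd₀ hd₀1 h3
  refine ⟨a.1, a.2, ?_⟩
  have e : (a.1 * u)⁻¹ * i = u * (a.1⁻¹ * i * a.1) * a.1⁻¹ := by
    rw [mul_inv_rev, hui]; simp [mul_assoc]
  rw [e]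
  exact (Hs hab z hz).mul_mem (Subgroup.mem_inf.mp h6).1 ((Hs hab z hz).inv_mem haH)

include hloc in
/-- `A ∩ H^g = 1` for `g ∉ H`. -/
lemma A_free {a g : G} (ha : Commute a z) (hg : g ∉ Hs hab z hz) (hag : g⁻¹ * a * g ∈ Hs hab z hz) :
    a = 1 := by
  have hw : ∃ w : G, orderOf w = 2 ∧ ¬ Commute w z :=
    ⟨g * z * g⁻¹, inv_conj hz g, fun h => hg h⟩
  obtain ⟨w, hw, hwz⟩ := hw
  obtain ⟨i, hi, hiz, hgi⟩ := exists_swap_inv hab hz hw hwz hg
  apply Dg_inter hab hloc hz hi hiz _ ha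
  rw [mem_Dg hab hz hi]
  refine ⟨mem_Hs_of_comm hab hz ha, ?_⟩
  have e : i * a * i = (g⁻¹ * i)⁻¹ * (g⁻¹ * a * g) * (g⁻¹ * i) := by
    nth_rewrite 1 [← inv_inv' hi]
    simp [mul_assoc]
  rw [e]
  exact (Hs hab z hz).mul_mem ((Hs hab z hz).mul_mem ((Hs hab z hz).inv_mem hgi) hag) hgi

end Cfsg.Agent.Lib.Helper36.AbCent
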