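import Mathlib
import Cfsg.Prelude.Def_LieExceptional
import Cfsg.Agent.Lib.Helper36.AbCentC

set_option autoImplicit false
set_option linter.unusedSectionVars false

/-! Abelian involution centralizers, part D: `G` is a Zassenhaus group on `G ⧸ H`. -/

namespace Cfsg.Agent.Lib.Helper36.AbCent

open Cfsg.Agent.Lib.Helper26

variable {G : Type*} [Group G] [Finite G] (hab : Ab G) (hloc : Loc G) {z : G} (hz : orderOf z = 2)
  {u : G} (hu : orderOf u = 2) (huz : ¬ Commute u z)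
  {z' : G} (hz' : orderOf z' = 2) (hzz' : Commute z' z) (hne : z' ≠ z)

local notation "Ω" => G ⧸ Hs hab z hz

lemma fix_o {g : G} : g • (QuotientGroup.mk 1 : Ω) = QuotientGroup.mk 1 ↔ g ∈ Hs hab z hz := by
  rw [smul_mk_eq_mk_iff]; simp

lemma fix_mk {g k : G} :
    g • (QuotientGroup.mk k : Ω) = QuotientGroup.mk k ↔ k⁻¹ * g * k ∈ Hs hab z hz :=
  smul_mk_eq_mk_iff g k k

lemma mk_ne_o {g : G} : (QuotientGroup.mk g : Ω) ≠ QuotientGroup.mk 1 ↔ g ∉ Hs hab z hz := by
  rw [not_iff_not, eq_comm, QuotientGroup.eq]; simp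

include hloc hu huz hz' hzz' hne in
lemma exists_A_smul {p : Ω} (hp : p ≠ QuotientGroup.mk 1) :
    ∃ a : G, Commute a z ∧ a • (QuotientGroup.mk u : Ω) = p := by
  induction p using QuotientGroup.induction_on with
  | H g =>
  rw [mk_ne_o] at hp
  obtain ⟨i, hi, hiz, hgi⟩ := exists_swap_inv hab hz hu huz hp
  obtain ⟨a, ha, hai⟩ := exists_A hab hloc hz hu huz hz' hzz' hne hi hiz
  refine ⟨a, ha, ?_⟩
  rw [smul_mk_eq_mk_iff]
  have : g⁻¹ * a * u = (g⁻¹ * i) * ((a * u)⁻¹ * i)⁻¹ := by simp [mul_assoc]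
  rw [this]
  exact (Hs hab z hz).mul_mem hgi ((Hs hab z hz).inv_mem hai)

include hloc hu huz hz' hzz' hne in
lemma exists_normalize {a b : Ω} (hne' : a ≠ b) :
    ∃ g : G, g • a = QuotientGroup.mk 1 ∧ g • b = (QuotientGroup.mk u : Ω) := by
  induction a using QuotientGroup.induction_on with
  | H k =>
  have h1 : k⁻¹ • (QuotientGroup.mk k : Ω) = QuotientGroup.mk 1 := by
    rw [smul_mk_eq_mk_iff]; simp
  have h2 : k⁻¹ • b ≠ (QuotientGroup.mk 1 : Ω) := by
    rw [← h1]
    intro h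
    exact hne' (smul_left_cancel _ h).symm
  obtain ⟨a₁, ha₁, hab₁⟩ := exists_A_smul hab hloc hz hu huz hz' hzz' hne h2
  refine ⟨a₁⁻¹ * k⁻¹, ?_, ?_⟩
  · rw [mul_smul, h1, fix_o]
    exact (Hs hab z hz).inv_mem (mem_Hs_of_comm hab hz ha₁)
  · rw [mul_smul, ← hab₁, inv_smul_smul]

include hloc hu huz hz' hzz' hne in
theorem two_trans : MulAction.IsMultiplyPretransitive G Ω 2 := by
  rw [MulAction.is_two_pretransitive_iff]
  intro a b c d h1 h2
  obtain ⟨g₁, ha, hb⟩ := exists_normalize hab hloc hz hu huz hz' hzz' hne h1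
  obtain ⟨g₂, hc, hd⟩ := exists_normalize hab hloc hz hu huz hz' hzz' hne h2
  refine ⟨g₂⁻¹ * g₁, ?_, ?_⟩
  · rw [mul_smul, ha, ← hc, inv_smul_smul]
  · rw [mul_smul, hb, ← hd, inv_smul_smul]

lemma mem_Dg_iff_fix {g : G} : g ∈ Dg hab hz u ↔
    g • (QuotientGroup.mk 1 : Ω) = QuotientGroup.mk 1 ∧ g • (QuotientGroup.mk u : Ω) = QuotientGroup.mk u := by
  rw [fix_o, fix_mk]
  unfold Dg
  rw [Subgroup.mem_inf]
  constructor
  · rintro ⟨h1, n, hn, rfl⟩
    refine ⟨h1, ?_⟩
    simp only [MulEquiv.coe_toMonoidHom, MulAut.conj_apply]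
    simpa [mul_assoc] using hn
  · rintro ⟨h1, h2⟩
    exact ⟨h1, u⁻¹ * g * u, h2, by simp [mul_assoc]⟩

include hloc hu huz hz' hzz' hne in
theorem fix_three {g : G} {x₁ x₂ x₃ : Ω} (h12 : x₁ ≠ x₂) (h23 : x₂ ≠ x₃) (h13 : x₁ ≠ x₃)
    (h1 : g • x₁ = x₁) (h2 : g • x₂ = x₂) (h3 : g • x₃ = x₃) : g = 1 := by
  obtain ⟨k, hk1, hk2⟩ := exists_normalize hab hloc hz hu huz hz' hzz' hne h12
  have f1 : (k * g * k⁻¹) • (QuotientGroup.mk 1 : Ω) = QuotientGroup.mk 1 := by
    rw [← hk1, mul_smul, mul_smul, inv_smul_smul, h1]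
  have f2 : (k * g * k⁻¹) • (QuotientGroup.mk u : Ω) = QuotientGroup.mk u := by
    rw [← hk2, mul_smul, mul_smul, inv_smul_smul, h2]
  have f3 : (k * g * k⁻¹) • (k • x₃) = k • x₃ := by
    rw [mul_smul, mul_smul, inv_smul_smul, h3]
  have hp1 : k • x₃ ≠ (QuotientGroup.mk 1 : Ω) := by
    rw [← hk1]; intro h; exact h13 (smul_left_cancel _ h).symm
  have hp2 : k • x₃ ≠ (QuotientGroup.mk u : Ω) := by
    rw [← hk2]; intro h; exact h23 (smul_left_cancel _ h).symm
  obtain ⟨a, ha, hap⟩ := exists_A_smul hab hloc hz hu huz hz' hzz' hne hp1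
  have ha1 : a ≠ 1 := by
    rintro rfl
    rw [one_smul] at hap
    exact hp2 hap.symm
  set g' := k * g * k⁻¹ with hg'
  have hgD : g' ∈ Dg hab hz u := (mem_Dg_iff_fix hab hz).mpr ⟨f1, f2⟩
  have haH : a ∈ Hs hab z hz := mem_Hs_of_comm hab hz ha
  have hgD' : a⁻¹ * g' * a ∈ Dg hab hz u := by
    rw [mem_Dg_iff_fix]
    constructor
    · rw [fix_o]
      exact (Hs hab z hz).mul_mem ((Hs hab z hz).mul_mem ((Hs hab z hz).inv_mem haH)
        (Subgroup.mem_inf.mp hgD).1) haH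
    · rw [mul_smul, mul_smul, hap, f3, ← hap, inv_smul_smul]
  have he : a⁻¹ * g' * a * g'⁻¹ = 1 := by
    apply Dg_inter hab hloc hz hu huz ((Dg hab hz u).mul_mem hgD' ((Dg hab hz u).inv_mem hgD))
    have := ha.inv_left.mul_left (conj_comm hab hz (Subgroup.mem_inf.mp hgD).1 ha)
    simpa only [mul_assoc] using this
  have hcomm : Commute a g' := by
    show a * g' = g' * a
    have := congrArg (fun y => a * y * g') he
    simpa [mul_assoc] using this.symm
  have hg1 : g' = 1 := by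
    by_contra hg1
    exact ha1 (frob hab hloc hz hu huz ha hgD hg1 hcomm)
  have := congrArg (fun y => k⁻¹ * y * k) hg1
  simpa [hg', mul_assoc] using this

include huz hu in
lemma o_ne_u : (QuotientGroup.mk 1 : Ω) ≠ QuotientGroup.mk u :=
  ((mk_ne_o hab hz).mpr (u_not_mem hab hz hu huz)).symm

include hloc hu huz in
lemma A_smul_inj {a b : G} (ha : Commute a z) (hb : Commute b z)
    (h : a • (QuotientGroup.mk u : Ω) = b • (QuotientGroup.mk u : Ω)) : a = b := by
  have h1 : (b⁻¹ * a) • (QuotientGroup.mk u : Ω) = QuotientGroup.mk u := by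
    rw [mul_smul, h, inv_smul_smul]
  rw [fix_mk] at h1
  have := A_free hab hloc hz (hb.inv_left.mul_left ha) (u_not_mem hab hz hu huz) h1
  exact (inv_mul_eq_one.mp this).symm

include hloc hu huz in
lemma A_smul_ne_o {a : G} (ha : Commute a z) :
    a • (QuotientGroup.mk u : Ω) ≠ QuotientGroup.mk 1 := by
  intro h
  have h1 : a⁻¹ • (QuotientGroup.mk 1 : Ω) = QuotientGroup.mk 1 := by
    rw [fix_o]; exact (Hs hab z hz).inv_mem (mem_Hs_of_comm hab hz ha)
  have h2 : a⁻¹ • (a • (QuotientGroup.mk u : Ω)) = QuotientGroup.mk 1 := by rw [h, h1]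
  rw [inv_smul_smul] at h2
  exact o_ne_u hab hz hu huz h2.symm

include hloc hu huz hz' hzz' hne in
theorem faithful : FaithfulSMul G Ω := by
  constructor
  intro g₁ g₂ h
  have hfix : ∀ x : Ω, (g₂⁻¹ * g₁) • x = x := fun x => by rw [mul_smul, h, inv_smul_smul]
  have hz1 : z ≠ 1 := invol_ne_one hz
  have h3 : z • (QuotientGroup.mk u : Ω) ≠ QuotientGroup.mk u := by
    intro h'
    apply hz1
    apply A_smul_inj hab hloc hz hu huz (Commute.refl z) (Commute.one_left z)
    rw [h', one_smul]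
  have := fix_three hab hloc hz hu huz hz' hzz' hne (o_ne_u hab hz hu huz) h3.symm
    (A_smul_ne_o hab hloc hz hu huz (Commute.refl z)).symm (hfix _) (hfix _) (hfix _)
  exact (inv_mul_eq_one.mp this).symm

include hloc hu huz hz' hzz' hne in
theorem card_points : Nat.card (Subgroup.centralizer ({z} : Set G)) + 1 = Nat.card Ω := by
  rw [← Finite.card_option]
  apply Nat.card_congr
  refine Equiv.ofBijective (fun x => match x with
    | none => QuotientGroup.mk 1
    | some a => a.1 • (QuotientGroup.mk u : Ω)) ⟨?_, ?_⟩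
  · intro x y hxy
    have hc : ∀ a : Subgroup.centralizer ({z} : Set G), Commute a.1 z := fun a =>
      Subgroup.mem_centralizer_singleton_iff.mp a.2
    match x, y with
    | none, none => rfl
    | none, some b => exact absurd hxy.symm (A_smul_ne_o hab hloc hz hu huz (hc b))
    | some a, none => exact absurd hxy (A_smul_ne_o hab hloc hz hu huz (hc a))
    | some a, some b =>
      exact congrArg some (Subtype.ext (A_smul_inj hab hloc hz hu huz (hc a) (hc b) hxy))
  · intro p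
    by_cases hp : p = QuotientGroup.mk 1
    · exact ⟨none, hp.symm⟩
    · obtain ⟨a, ha, hap⟩ := exists_A_smul hab hloc hz hu huz hz' hzz' hne hp
      exact ⟨some ⟨a, Subgroup.mem_centralizer_singleton_iff.mpr ha⟩, hap⟩

end Cfsg.Agent.Lib.Helper36.AbCent
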