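import Mathlib
import Cfsg.Agent.Lib.Helper36.AbCentD
import Cfsg.Agent.S0885

set_option autoImplicit false
set_option linter.unusedSectionVars false

/-! Abelian involution centralizers, part E: Feit's theorem forces `C(z)` to be elementary abelian. -/

namespace Cfsg.Agent.Lib.Helper36.AbCent

open Cfsg.Agent.Lib.Helper26

variable {G : Type*} [Group G] [Finite G] (hab : Ab G) (hloc : Loc G) {z : G} (hz : orderOf z = 2)
  {u : G} (hu : orderOf u = 2) (huz : ¬ Commute u z)
  {z' : G} (hz' : orderOf z' = 2) (hzz' : Commute z' z) (hne : z' ≠ z)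

local notation "Ω" => G ⧸ Hs hab z hz

include hab hz in
/-- an involution commuting with `z` inverts a normal subgroup meeting `H` trivially -/
lemma inverts_of_regular (N : Subgroup G) [N.Normal] (hN : ∀ n ∈ N, n ∈ Hs hab z hz → n = 1)
    {s : G} (hs : orderOf s = 2) (hsz : Commute s z) {n : G} (hn : n ∈ N) : s * n * s⁻¹ = n⁻¹ := by
  have hss := inv_sq hs
  have hsi := inv_inv' hs
  let φ : N → N := fun n => ⟨n.1⁻¹ * (s * n.1 * s⁻¹),
    N.mul_mem (N.inv_mem n.2) (Subgroup.Normal.conj_mem inferInstance _ n.2 s)⟩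
  have hφ : Function.Injective φ := by
    intro c e hce
    have h1 : c.1⁻¹ * (s * c.1 * s⁻¹) = e.1⁻¹ * (s * e.1 * s⁻¹) := congrArg Subtype.val hce
    have h2 : Commute (e.1 * c.1⁻¹) s := by
      show e.1 * c.1⁻¹ * s = s * (e.1 * c.1⁻¹)
      have := congrArg (fun y => e.1 * y * (s * c.1⁻¹)) h1
      simp only [mul_assoc, inv_mul_cancel_left, mul_inv_cancel, mul_one, mul_inv_cancel_left] at this
      rw [mul_assoc]; exact this
    have h3 : Commute (e.1 * c.1⁻¹) z := (comm_iff hab hs hz hsz _).mp h2
    have h4 := hN _ (N.mul_mem e.2 (N.inv_mem c.2)) (mem_Hs_of_comm hab hz h3)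
    exact Subtype.ext (mul_inv_eq_one.mp h4).symm
  obtain ⟨e, he⟩ := (Finite.injective_iff_surjective.mp hφ) ⟨n, hn⟩
  have he' : e.1⁻¹ * (s * e.1 * s⁻¹) = n := congrArg Subtype.val he
  rw [← he', hsi]
  simp only [mul_inv_rev, inv_inv, mul_assoc, hsi, hss, mul_one]

include hloc hu huz hz' hzz' hne in
theorem zassenhaus : Cfsg.IsZassenhausGroup G Ω := by
  refine ⟨faithful hab hloc hz hu huz hz' hzz' hne, two_trans hab hloc hz hu huz hz' hzz' hne,
    ?_, ?_, ?_⟩
  · intro g a b c h1 h2 h3 f1 f2 f3
    exact fix_three hab hloc hz hu huz hz' hzz' hne h1 h2 h3 f1 f2 f3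
  · obtain ⟨x, hx, hx1⟩ := Dg_ne_bot hab hloc hz hu huz hz' hzz' hne
    have := (mem_Dg_iff_fix hab hz).mp hx
    exact ⟨x, hx1, _, _, o_ne_u hab hz hu huz, this.1, this.2⟩
  · intro N hN htr
    by_contra hcon
    push Not at hcon
    have hNH : ∀ n ∈ N, n ∈ Hs hab z hz → n = 1 := by
      intro n hn hnH
      have h1 : (⟨n, hn⟩ : N) ∈ (⊥ : Subgroup N) := by
        rw [← hcon (QuotientGroup.mk 1 : Ω), MulAction.mem_stabilizer_iff]
        exact (fix_o hab hz).mpr hnH
      exact congrArg Subtype.val (Subgroup.mem_bot.mp h1)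
    have hzz1 : orderOf (z * z') = 2 := by
      apply orderOf_eq_two_of
      · rw [mul_assoc, ← mul_assoc z' z, hzz'.eq, mul_assoc, inv_sq hz', mul_one, inv_sq hz]
      · intro h
        apply hne
        have := eq_inv_of_mul_eq_one_right h
        rw [inv_inv' hz] at this
        exact this
    have hall : ∀ n ∈ N, n = 1 := by
      intro n hn
      have h1 := inverts_of_regular hab hz N hNH hz (Commute.refl z) hn
      have h2 := inverts_of_regular hab hz N hNH hz' hzz' (N.inv_mem hn)
      have h3 := inverts_of_regular hab hz N hNH hzz1 ((Commute.refl z).mul_left hzz') hn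
      have h4 : z * z' * n * (z * z')⁻¹ = n := by
        have h5 : z' * n * z'⁻¹ = n⁻¹ := by
          have := congrArg (fun y => y⁻¹) h2
          simpa [mul_assoc] using this
        calc z * z' * n * (z * z')⁻¹ = z * (z' * n * z'⁻¹) * z⁻¹ := by simp [mul_assoc]
          _ = z * n⁻¹ * z⁻¹ := by rw [h5]
          _ = n := by
            have := congrArg (fun y => y⁻¹) h1
            simpa [mul_assoc] using this
      rw [h4] at h3
      have h5 : n * n = 1 := by nth_rewrite 1 [h3]; exact inv_mul_cancel n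
      by_contra hn1
      have hn2 : orderOf n = 2 := orderOf_eq_two_of h5 hn1
      obtain ⟨x, hx⟩ := SE_fix_exists (stronglyEmbedded hab hz hu huz) hn2
      have h6 : (⟨n, hn⟩ : N) ∈ (⊥ : Subgroup N) := by
        rw [← hcon x, MulAction.mem_stabilizer_iff]; exact hx
      exact hn1 (congrArg Subtype.val (Subgroup.mem_bot.mp h6))
    obtain ⟨n, hn⟩ := htr.exists_smul_eq (QuotientGroup.mk 1 : Ω) (QuotientGroup.mk u)
    have h7 : n.1 • (QuotientGroup.mk 1 : Ω) = QuotientGroup.mk u := hn
    rw [hall n.1 n.2, one_smul] at h7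
    exact o_ne_u hab hz hu huz h7

/-- the elements of order at most two in `C(z)`. -/
def Es : Subgroup G where
  carrier := {a | Commute a z ∧ a * a = 1}
  one_mem' := ⟨Commute.one_left z, one_mul 1⟩
  mul_mem' := by
    rintro a b ⟨ha, ha2⟩ ⟨hb, hb2⟩
    refine ⟨ha.mul_left hb, ?_⟩
    have := (hab z hz a b ha hb).eq
    calc a * b * (a * b) = a * (b * a) * b := by simp only [mul_assoc]
      _ = a * (a * b) * b := by rw [this]
      _ = (a * a) * (b * b) := by simp only [mul_assoc]
      _ = 1 := by rw [ha2, hb2, one_mul]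
  inv_mem' := by
    rintro a ⟨ha, ha2⟩
    refine ⟨ha.inv_left, ?_⟩
    rw [← mul_inv_rev, ha2, inv_one]

lemma Es_card : Nat.card (Es hab hz) = Nat.card {s : G // orderOf s = 2 ∧ Commute s z} + 1 := by
  rw [← Finite.card_option]
  apply Nat.card_congr
  symm
  refine Equiv.ofBijective (fun x => match x with
    | none => 1
    | some s => ⟨s.1, s.2.2, inv_sq s.2.1⟩) ⟨?_, ?_⟩
  · intro x y hxy
    match x, y with
    | none, none => rfl
    | none, some b =>
      exact absurd (congrArg Subtype.val hxy).symm (invol_ne_one b.2.1)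
    | some a, none => exact absurd (congrArg Subtype.val hxy) (invol_ne_one a.2.1)
    | some a, some b =>
      have h1 : a.1 = b.1 := congrArg (fun y : Es hab hz => y.1) hxy
      exact congrArg some (Subtype.ext h1)
  · intro p
    by_cases hp : p = 1
    · exact ⟨none, hp.symm⟩
    · refine ⟨some ⟨p.1, orderOf_eq_two_of p.2.2 (fun h => hp (Subtype.ext h)), p.2.1⟩, rfl⟩

include hab hz hloc hu huz hz' hzz' hne in
/-- **Core**: `C(z)` has exponent two. -/
theorem core {c : G} (hc : Commute c z) : c * c = 1 := by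
  classical
  have := Fintype.ofFinite Ω
  have hZ := zassenhaus hab hloc hz hu huz hz' hzz' hne
  have hcard := card_points hab hloc hz hu huz hz' hzz' hne
  rw [Nat.card_eq_fintype_card (α := Ω)] at hcard
  have hstab : (MulAction.stabilizer G (QuotientGroup.mk 1 : Ω) ⊓
      MulAction.stabilizer G (QuotientGroup.mk u : Ω) : Subgroup G) = Dg hab hz u := by
    ext g
    rw [Subgroup.mem_inf, MulAction.mem_stabilizer_iff, MulAction.mem_stabilizer_iff, mem_Dg_iff_fix]
  have hF := Cfsg.Agent.S0885.result hZ (o_ne_u hab hz hu huz)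
    (Nat.card (Subgroup.centralizer ({z} : Set G))) (Nat.card (Dg hab hz u)) hcard.symm
    (by rw [hstab]) (Dg_odd hab hz hu huz) (Subgroup.centralizer ({z} : Set G))
    (by
      intro a ha
      rw [MulAction.mem_stabilizer_iff, fix_o]
      exact mem_Hs_of_comm hab hz (Subgroup.mem_centralizer_singleton_iff.mp ha))
    hcard
    (by
      intro a ha ha1 p hp
      by_contra hpo
      induction p using QuotientGroup.induction_on with
      | H g =>
      rw [fix_mk] at hp
      exact ha1 (A_free hab hloc hz (Subgroup.mem_centralizer_singleton_iff.mp ha)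
        ((mk_ne_o hab hz).mp hpo) hp))
  have hbound : Nat.card (Subgroup.centralizer ({z} : Set G)) - 1 ≤ 2 * Nat.card (Dg hab hz u) := by
    rcases hF with h | ⟨-, ⟨a, b, hne'⟩, -⟩
    · exact h
    · exfalso
      apply hne'
      exact Subtype.ext (hab z hz a.1 b.1 (Subgroup.mem_centralizer_singleton_iff.mp a.2)
        (Subgroup.mem_centralizer_singleton_iff.mp b.2)).eq
  have hle : Es hab hz ≤ Subgroup.centralizer ({z} : Set G) := fun a ha =>
    Subgroup.mem_centralizer_singleton_iff.mpr ha.1
  have hdvd := Subgroup.card_dvd_of_le hle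
  have hE := Es_card hab hz
  rw [← Dg_card hab hloc hz hu huz] at hE
  have hpos : 0 < Nat.card (Subgroup.centralizer ({z} : Set G)) := Nat.card_pos
  obtain ⟨k, hk⟩ := hdvd
  have hk1 : k = 1 := by
    rcases k with _ | _ | k
    · omega
    · rfl
    · exfalso
      have : Nat.card (Subgroup.centralizer ({z} : Set G)) =
          Nat.card (Es hab hz) * k + 2 * Nat.card (Es hab hz) := by rw [hk]; ring
      have h0 : 0 ≤ Nat.card (Es hab hz) * k := Nat.zero_le _
      omega
  have heq : Es hab hz = Subgroup.centralizer ({z} : Set G) :=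
    Subgroup.eq_of_le_of_card_ge hle (by rw [hk, hk1, mul_one])
  have : c ∈ Es hab hz := by rw [heq]; exact Subgroup.mem_centralizer_singleton_iff.mpr hc
  exact this.2

end Cfsg.Agent.Lib.Helper36.AbCent
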