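import Mathlib
import Cfsg.Agent.Lib.Helper36.AbCentD

set_option autoImplicit false
set_option linter.unusedSectionVars false

/-! Abelian involution centralizers, part F: if all involution centralizers are elementary abelian,
no subgroup of odd order is transitive on the involutions. -/

namespace Cfsg.Agent.Lib.Helper36.AbCent

open Cfsg.Agent.Lib.Helper26

variable {G : Type*} [Group G]

/-- involution centralizers have exponent two -/
def Ex (G : Type*) [Group G] : Prop := ∀ t : G, orderOf t = 2 → ∀ c : G, Commute c t → c * c = 1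

lemma loc_of_ex (hab : Ab G) (hex : Ex G) : Loc G := by
  intro t ht r hr hrt g hgr a hat
  have hr2 : orderOf r = 2 := orderOf_eq_two_of (hex t ht r hrt) hr
  have h1 : Commute a r := (comm_iff hab hr2 ht hrt a).mpr hat
  have h2 : Commute (g * a * g⁻¹) (g * r * g⁻¹) := (Commute.conj_iff g).mpr h1
  have e : g * r * g⁻¹ = r := by rw [hgr.eq, mul_assoc, mul_inv_cancel, mul_one]
  rw [e] at h2
  exact (comm_iff hab hr2 ht hrt _).mp h2

variable [Finite G] (hab : Ab G) (hloc : Loc G) {z : G} (hz : orderOf z = 2)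
  {u : G} (hu : orderOf u = 2) (huz : ¬ Commute u z)
  {z' : G} (hz' : orderOf z' = 2) (hzz' : Commute z' z) (hne : z' ≠ z)

local notation "Ω" => G ⧸ Hs hab z hz

include hloc hu huz in
lemma exists_conj_D {a₀ d₀ : G} (ha₀ : Commute a₀ z) (hd₀ : d₀ ∈ Dg hab hz u) (hd₀1 : d₀ ≠ 1) :
    ∃ a : G, Commute a z ∧ a * d₀ * a⁻¹ = a₀ * d₀ := by
  have hd₀H : d₀ ∈ Hs hab z hz := (Subgroup.mem_inf.mp hd₀).1
  let ψ : {a : G // Commute a z} → {a : G // Commute a z} :=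
    fun a => ⟨a.1 * (d₀ * a.1⁻¹ * d₀⁻¹), a.2.mul_left (conj_comm hab hz hd₀H a.2.inv_left)⟩
  have hψ : Function.Injective ψ := by
    intro a b hab'
    have h1 : a.1 * (d₀ * a.1⁻¹ * d₀⁻¹) = b.1 * (d₀ * b.1⁻¹ * d₀⁻¹) := congrArg Subtype.val hab'
    have h2 : Commute (b.1⁻¹ * a.1) d₀ := by
      show b.1⁻¹ * a.1 * d₀ = d₀ * (b.1⁻¹ * a.1)
      have h3 : b.1⁻¹ * a.1 * (d₀ * a.1⁻¹ * d₀⁻¹) = d₀ * b.1⁻¹ * d₀⁻¹ := by
        rw [mul_assoc, h1, inv_mul_cancel_left]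
      have := congrArg (fun y => y * (d₀ * a.1)) h3
      simpa [mul_assoc] using this
    have h4 := frob hab hloc hz hu huz (b.2.inv_left.mul_left a.2) hd₀ hd₀1 h2
    exact Subtype.ext (inv_mul_eq_one.mp h4).symm
  obtain ⟨a, ha⟩ := (Finite.injective_iff_surjective.mp hψ) ⟨a₀, ha₀⟩
  have ha' : a.1 * (d₀ * a.1⁻¹ * d₀⁻¹) = a₀ := congrArg Subtype.val ha
  exact ⟨a.1, a.2, by rw [← ha']; simp [mul_assoc]⟩

include hloc hu huz in
/-- an element of `H` outside `A` fixes a second point -/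
lemma exists_second_fix {x : G} (hx : x ∈ Hs hab z hz) (hxz : ¬ Commute x z) :
    ∃ q : Ω, q ≠ QuotientGroup.mk 1 ∧ x • q = q := by
  obtain ⟨a₀, d₀, ha₀, hd₀, hxe⟩ := Hs_eq_mul hab hloc hz hu huz hx
  have hd₀1 : d₀ ≠ 1 := by
    rintro rfl
    rw [mul_one] at hxe
    exact hxz (hxe ▸ ha₀)
  obtain ⟨a, ha, hax⟩ := exists_conj_D hab hloc hz hu huz ha₀ hd₀ hd₀1
  refine ⟨a • (QuotientGroup.mk u : Ω), A_smul_ne_o hab hloc hz hu huz ha, ?_⟩
  rw [hxe, ← hax, mul_smul, mul_smul, inv_smul_smul, ((mem_Dg_iff_fix hab hz).mp hd₀).2]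

include hloc hu huz in
/-- commutators of elements of `H` lie in `A` -/
lemma comm_mem_A {h₁ h₂ : G} (hh₁ : h₁ ∈ Hs hab z hz) (hh₂ : h₂ ∈ Hs hab z hz) :
    Commute (h₁ * h₂ * h₁⁻¹ * h₂⁻¹) z := by
  have key : ∀ h ∈ Hs hab z hz, ∃ d ∈ Dg hab hz u, ∀ s : G, Commute s z → orderOf s = 2 →
      h * s * h⁻¹ = d * s * d⁻¹ := by
    intro h hh
    obtain ⟨a, d, ha, hd, rfl⟩ := Hs_eq_mul hab hloc hz hu huz hh
    refine ⟨d, hd, fun s hs _ => ?_⟩
    have h1 : Commute a (d * s * d⁻¹) :=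
      hab z hz _ _ ha (conj_comm hab hz (Subgroup.mem_inf.mp hd).1 hs)
    calc a * d * s * (a * d)⁻¹ = a * (d * s * d⁻¹) * a⁻¹ := by simp [mul_assoc]
      _ = d * s * d⁻¹ := by rw [h1.eq, mul_assoc, mul_inv_cancel, mul_one]
  obtain ⟨d₁, hd₁, k₁⟩ := key h₁ hh₁
  obtain ⟨d₂, hd₂, k₂⟩ := key h₂ hh₂
  have hd₁H := (Subgroup.mem_inf.mp hd₁).1
  have hd₂H := (Subgroup.mem_inf.mp hd₂).1
  have e1 : (h₁ * h₂) * z * (h₁ * h₂)⁻¹ = (d₁ * d₂) * z * (d₁ * d₂)⁻¹ := by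
    calc (h₁ * h₂) * z * (h₁ * h₂)⁻¹ = h₁ * (h₂ * z * h₂⁻¹) * h₁⁻¹ := by simp [mul_assoc]
      _ = h₁ * (d₂ * z * d₂⁻¹) * h₁⁻¹ := by rw [k₂ z (Commute.refl z) hz]
      _ = d₁ * (d₂ * z * d₂⁻¹) * d₁⁻¹ :=
          k₁ _ (conj_comm hab hz hd₂H (Commute.refl z)) (inv_conj hz _)
      _ = _ := by simp [mul_assoc]
  have e2 : (h₂ * h₁) * z * (h₂ * h₁)⁻¹ = (d₂ * d₁) * z * (d₂ * d₁)⁻¹ := by
    calc (h₂ * h₁) * z * (h₂ * h₁)⁻¹ = h₂ * (h₁ * z * h₁⁻¹) * h₂⁻¹ := by simp [mul_assoc]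
      _ = h₂ * (d₁ * z * d₁⁻¹) * h₂⁻¹ := by rw [k₁ z (Commute.refl z) hz]
      _ = d₂ * (d₁ * z * d₁⁻¹) * d₂⁻¹ :=
          k₂ _ (conj_comm hab hz hd₁H (Commute.refl z)) (inv_conj hz _)
      _ = _ := by simp [mul_assoc]
  rw [(Dg_comm hab hloc hz hu huz hd₁ hd₂).eq, ← e2] at e1
  -- the commutator centralizes the involution s = (h₂h₁) z (h₂h₁)⁻¹
  have hs : orderOf ((h₂ * h₁) * z * (h₂ * h₁)⁻¹) = 2 := inv_conj hz _
  have hsz : Commute ((h₂ * h₁) * z * (h₂ * h₁)⁻¹) z :=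
    conj_comm hab hz ((Hs hab z hz).mul_mem hh₂ hh₁) (Commute.refl z)
  apply (comm_iff hab hs hz hsz _).mp
  show h₁ * h₂ * h₁⁻¹ * h₂⁻¹ * ((h₂ * h₁) * z * (h₂ * h₁)⁻¹) =
    ((h₂ * h₁) * z * (h₂ * h₁)⁻¹) * (h₁ * h₂ * h₁⁻¹ * h₂⁻¹)
  have := congrArg (fun y => y * (h₁ * h₂ * h₁⁻¹ * h₂⁻¹)) e1
  simp only [mul_inv_rev, mul_assoc, inv_mul_cancel_left] at this ⊢
  exact this

include hab hz hu huz hz' hzz' hne in
/-- **Lemma P**. -/
theorem no_odd_transitive (hex : Ex G) (X : Subgroup G) (hX : Odd (Nat.card X))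
    (htr : ∀ s t : G, orderOf s = 2 → orderOf t = 2 → ∃ x ∈ X, x * s * x⁻¹ = t) : False := by
  classical
  have hloc : Loc G := loc_of_ex hab hex
  have hXodd : ∀ x ∈ X, Odd (orderOf x) := by
    intro x hx
    have := orderOf_dvd_natCard (⟨x, hx⟩ : X)
    rw [Subgroup.orderOf_mk] at this
    exact hX.of_dvd_nat this
  -- existence of a partner
  have hex1 : ∀ p : Ω, ∃ q : Ω, q ≠ p ∧ ∃ g ∈ X, g ≠ 1 ∧ g • p = p ∧ g • q = q := by
    intro p
    induction p using QuotientGroup.induction_on with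
    | H k =>
    obtain ⟨x, hx, hxz⟩ := htr (k * z * k⁻¹) (k * z' * k⁻¹) (inv_conj hz k) (inv_conj hz' k)
    have h1 : (k⁻¹ * x * k) * z * (k⁻¹ * x * k)⁻¹ = z' := by
      have := congrArg (fun y => k⁻¹ * y * k) hxz
      simpa [mul_assoc] using this
    have h2 : k⁻¹ * x * k ∈ Hs hab z hz := by
      rw [mem_Hs, h1]; exact hzz'
    have h3 : ¬ Commute (k⁻¹ * x * k) z := by
      intro h
      rw [h.eq, mul_assoc, mul_inv_cancel, mul_one] at h1
      exact hne h1.symm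
    obtain ⟨q, hq, hxq⟩ := exists_second_fix hab hloc hz hu huz h2 h3
    have hk : (QuotientGroup.mk k : Ω) = k • (QuotientGroup.mk 1 : Ω) := by
      rw [MulAction.Quotient.smul_mk, smul_eq_mul, mul_one]
    refine ⟨k • q, ?_, x, hx, ?_, ?_, ?_⟩
    · rw [hk]; intro h; exact hq (smul_left_cancel _ h)
    · rintro rfl
      apply h3
      simp
    · rw [fix_mk]; exact h2
    · have := congrArg (fun y => k • y) hxq
      simpa [mul_smul] using this
  -- uniqueness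
  have huniq : ∀ p q q' : Ω, q ≠ p → q' ≠ p → (∃ g ∈ X, g ≠ 1 ∧ g • p = p ∧ g • q = q) →
      (∃ g ∈ X, g ≠ 1 ∧ g • p = p ∧ g • q' = q') → q = q' := by
    intro p q q' hq hq' ⟨g, hg, hg1, hgp, hgq⟩ ⟨g', hg', hg'1, hg'p, hg'q⟩
    have hcomm : Commute g g' := by
      induction p using QuotientGroup.induction_on with
      | H k =>
      rw [fix_mk] at hgp hg'p
      have h1 := comm_mem_A hab hloc hz hu huz hgp hg'p
      have e : k⁻¹ * g * k * (k⁻¹ * g' * k) * (k⁻¹ * g * k)⁻¹ * (k⁻¹ * g' * k)⁻¹ =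
          k⁻¹ * (g * g' * g⁻¹ * g'⁻¹) * k := by simp [mul_assoc]
      rw [e] at h1
      have h2 := hex z hz _ h1
      have h3 : (g * g' * g⁻¹ * g'⁻¹) * (g * g' * g⁻¹ * g'⁻¹) = 1 := by
        have := congrArg (fun y => k * y * k⁻¹) h2
        simpa [mul_assoc] using this
      have h4 := eq_one_of_sq_of_odd (hXodd _ (X.mul_mem (X.mul_mem (X.mul_mem hg hg') (X.inv_mem hg))
        (X.inv_mem hg'))) h3
      show g * g' = g' * g
      have := congrArg (fun y => y * g' * g) h4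
      simpa [mul_assoc] using this
    have h5 : g' • q = q := by
      by_contra h5
      have h6 : g • (g' • q) = g' • q := by
        rw [← mul_smul, hcomm.eq, mul_smul, hgq]
      have h7 : g' • q ≠ p := by
        intro h
        rw [← hg'p] at h
        exact hq (smul_left_cancel _ h)
      exact hg1 (fix_three hab hloc hz hu huz hz' hzz' hne hq.symm (Ne.symm h5) h7.symm hgp hgq h6)
    by_contra hqq
    exact hg'1 (fix_three hab hloc hz hu huz hz' hzz' hne hq.symm hqq hq'.symm hg'p h5 hg'q)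
  choose f hf1 hf2 using hex1
  have hinv : ∀ p, f (f p) = p := by
    intro p
    obtain ⟨g, hg, hg1, hgp, hgq⟩ := hf2 p
    exact huniq (f p) (f (f p)) p (hf1 (f p)) (hf1 p).symm (hf2 (f p)) ⟨g, hg, hg1, hgq, hgp⟩
  have := Fintype.ofFinite Ω
  let F : Function.End Ω := f
  have hF : F ^ 2 ^ 1 = 1 := by
    rw [pow_one, pow_two]
    funext p
    exact hinv p
  have hmod := Equiv.Perm.card_fixedPoints_modEq (p := 2) (n := 1) hF
  have hempty : Fintype.card (Function.fixedPoints F) = 0 := by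
    rw [Fintype.card_eq_zero_iff]
    exact ⟨fun p => hf1 p.1 p.2⟩
  rw [hempty] at hmod
  have hcard := card_points hab hloc hz hu huz hz' hzz' hne
  rw [Nat.card_eq_fintype_card (α := Ω)] at hcard
  have heven : 2 ∣ Nat.card (Subgroup.centralizer ({z} : Set G)) := by
    have := orderOf_dvd_natCard (⟨z, Subgroup.mem_centralizer_singleton_iff.mpr rfl⟩ :
      Subgroup.centralizer ({z} : Set G))
    rwa [Subgroup.orderOf_mk, hz] at this
  have h2 : 2 ∣ Fintype.card Ω := (Nat.modEq_zero_iff_dvd).mp hmod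
  omega

end Cfsg.Agent.Lib.Helper36.AbCent
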