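import Mathlib
import Cfsg.Agent.Lib.Helper36.AbCentF

set_option autoImplicit false
set_option linter.unusedSectionVars false

/-! Abelian involution centralizers, part G: the subgroup `Kc` of elements commuting with all
involutions, its quotient, heredity, overgroups of strongly embedded subgroups. -/

namespace Cfsg.Agent.Lib.Helper36.AbCent

open Cfsg.Agent.Lib.Helper26

variable {G : Type*} [Group G]

/-- elements commuting with all involutions -/
def Kc (G : Type*) [Group G] : Subgroup G where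
  carrier := {g | ∀ s : G, orderOf s = 2 → Commute g s}
  one_mem' := fun s _ => Commute.one_left s
  mul_mem' := fun ha hb s hs => (ha s hs).mul_left (hb s hs)
  inv_mem' := fun ha s hs => (ha s hs).inv_left

lemma mem_Kc {g : G} : g ∈ Kc G ↔ ∀ s : G, orderOf s = 2 → Commute g s := Iff.rfl

instance Kc_normal : (Kc G).Normal := ⟨fun n hn g s hs => by
  have h1 := hn (g⁻¹ * s * g⁻¹⁻¹) (inv_conj hs g⁻¹)
  have h2 := (Commute.conj_iff g).mpr h1
  have e : g * (g⁻¹ * s * g⁻¹⁻¹) * g⁻¹ = s := by simp [mul_assoc]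
  rwa [e] at h2⟩

lemma coe_comm {N : Subgroup G} {a b : N} : Commute a b ↔ Commute (a : G) (b : G) :=
  ⟨fun h => congrArg Subtype.val h, fun h => Subtype.ext h⟩

lemma Ab_sub (hab : Ab G) (N : Subgroup G) : Ab N := by
  intro t ht a b ha hb
  rw [coe_comm] at ha hb ⊢
  exact hab t (by rw [Subgroup.orderOf_coe, ht]) _ _ ha hb

/-- squares of elements of involution centralizers commute with all involutions -/
def Good (G : Type*) [Group G] : Prop :=
  ∀ t : G, orderOf t = 2 → ∀ c : G, Commute c t → c * c ∈ Kc G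

section quot

variable [Finite G] (hab : Ab G) {z : G} (hz : orderOf z = 2)
  {u : G} (hu : orderOf u = 2) (huz : ¬ Commute u z)

include hab hz hu huz in
lemma Kc_no_inv {k : G} (hk : k ∈ Kc G) : orderOf k ≠ 2 := by
  intro hk2
  exact huz (hab k hk2 u z (hk u hu).symm (hk z hz).symm)

include hab hz hu huz in
lemma Kc_card_odd : Odd (Nat.card (Kc G)) := by
  by_contra h
  rw [Nat.not_odd_iff_even] at h
  obtain ⟨t, ht⟩ := exists_prime_orderOf_dvd_card' 2 (even_iff_two_dvd.mp h)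
  exact Kc_no_inv hab hz hu huz t.2 (by rw [Subgroup.orderOf_coe, ht])

include hab hz hu huz in
lemma Kc_orderOf_odd {k : G} (hk : k ∈ Kc G) : Odd (orderOf k) := by
  have := orderOf_dvd_natCard (⟨k, hk⟩ : Kc G)
  rw [Subgroup.orderOf_mk] at this
  exact (Kc_card_odd hab hz hu huz).of_dvd_nat this

include hab hz hu huz in
lemma comm_of_comm_mem {g t : G} (ht : orderOf t = 2) (h : g * t * g⁻¹ * t⁻¹ ∈ Kc G) :
    Commute g t := by
  have htt := inv_sq ht
  have hti := inv_inv' ht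
  have hc : Commute (g * t * g⁻¹ * t⁻¹) t := h t ht
  have h2 : (g * t * g⁻¹ * t⁻¹) * (g * t * g⁻¹ * t⁻¹) = 1 := by
    have e : (g * t * g⁻¹ * t⁻¹) * t = t * (g * t * g⁻¹ * t⁻¹) := hc.eq
    rw [hti] at e ⊢
    have e' : g * t * g⁻¹ = t * (g * t * g⁻¹ * t) := by
      rw [← e]; simp only [mul_assoc, htt, mul_one]
    calc g * t * g⁻¹ * t * (g * t * g⁻¹ * t) = g * t * g⁻¹ * (t * (g * t * g⁻¹ * t)) := by
          simp only [mul_assoc]
      _ = g * t * g⁻¹ * (g * t * g⁻¹) := by rw [← e']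
      _ = g * (t * t) * g⁻¹ := by simp [mul_assoc]
      _ = 1 := by rw [htt]; simp
  have h3 := eq_one_of_sq_of_odd (Kc_orderOf_odd hab hz hu huz h) h2
  show g * t = t * g
  have := congrArg (fun y => y * t * g) h3
  simpa [mul_assoc] using this

include hab hz hu huz in
lemma comm_of_mk {g t : G} (ht : orderOf t = 2)
    (h : Commute (QuotientGroup.mk g : G ⧸ Kc G) (QuotientGroup.mk t)) : Commute g t := by
  apply comm_of_comm_mem hab hz hu huz ht
  rw [← QuotientGroup.eq_one_iff]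
  have e : (QuotientGroup.mk g : G ⧸ Kc G) * QuotientGroup.mk t =
    QuotientGroup.mk t * QuotientGroup.mk g := h.eq
  rw [QuotientGroup.mk_mul, QuotientGroup.mk_mul, QuotientGroup.mk_mul, QuotientGroup.mk_inv,
    QuotientGroup.mk_inv, e]
  simp

include hab hz hu huz in
lemma mk_inv' {t : G} (ht : orderOf t = 2) : orderOf (QuotientGroup.mk t : G ⧸ Kc G) = 2 := by
  apply orderOf_eq_two_of
  · rw [← QuotientGroup.mk_mul, inv_sq ht, QuotientGroup.mk_one]
  · intro h
    rw [QuotientGroup.eq_one_iff] at h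
    exact Kc_no_inv hab hz hu huz h ht

include hab hz hu huz in
lemma lift_inv {τ : G ⧸ Kc G} (hτ : orderOf τ = 2) :
    ∃ t : G, orderOf t = 2 ∧ (QuotientGroup.mk t : G ⧸ Kc G) = τ := by
  obtain ⟨t₀, rfl⟩ := QuotientGroup.mk_surjective τ
  obtain ⟨m, hm⟩ := Kc_card_odd hab hz hu huz
  have hττ := inv_sq hτ
  have h0 : t₀ * t₀ ∈ Kc G := by
    rw [← QuotientGroup.eq_one_iff, QuotientGroup.mk_mul, hττ]
  have e1 : (QuotientGroup.mk (t₀ ^ (Nat.card (Kc G))) : G ⧸ Kc G) = QuotientGroup.mk t₀ := by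
    rw [QuotientGroup.mk_pow, hm, pow_succ, pow_mul, pow_two, hττ, one_pow, one_mul]
  refine ⟨t₀ ^ (Nat.card (Kc G)), ?_, e1⟩
  apply orderOf_eq_two_of
  · rw [← (Commute.refl t₀).mul_pow]
    have := pow_card_eq_one' (G := Kc G) (x := ⟨t₀ * t₀, h0⟩)
    exact congrArg Subtype.val this
  · intro h
    rw [h, QuotientGroup.mk_one] at e1
    exact invol_ne_one hτ e1.symm

include hab hz hu huz in
lemma Ab_quot : Ab (G ⧸ Kc G) := by
  intro τ hτ α β hα hβ
  obtain ⟨t, ht, rfl⟩ := lift_inv hab hz hu huz hτ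
  obtain ⟨a, rfl⟩ := QuotientGroup.mk_surjective α
  obtain ⟨b, rfl⟩ := QuotientGroup.mk_surjective β
  have h := hab t ht a b (comm_of_mk hab hz hu huz ht hα) (comm_of_mk hab hz hu huz ht hβ)
  exact h.map (QuotientGroup.mk' (Kc G))

include hab hz hu huz in
lemma Ex_quot (hg : Good G) : Ex (G ⧸ Kc G) := by
  intro τ hτ γ hγ
  obtain ⟨t, ht, rfl⟩ := lift_inv hab hz hu huz hτ
  obtain ⟨c, rfl⟩ := QuotientGroup.mk_surjective γ
  rw [← QuotientGroup.mk_mul, QuotientGroup.eq_one_iff]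
  exact hg t ht c (comm_of_mk hab hz hu huz ht hγ)

include hab hz hu huz in
lemma mk_ne {z' : G} (hz' : orderOf z' = 2) (hzz' : Commute z' z) (hne : z' ≠ z) :
    (QuotientGroup.mk z' : G ⧸ Kc G) ≠ QuotientGroup.mk z := by
  intro h
  rw [QuotientGroup.eq] at h
  apply Kc_no_inv hab hz hu huz h
  rw [inv_inv' hz']
  apply orderOf_eq_two_of
  · calc z' * z * (z' * z) = z' * (z * z') * z := by simp only [mul_assoc]
      _ = z' * (z' * z) * z := by rw [hzz'.eq]
      _ = (z' * z') * (z * z) := by simp only [mul_assoc]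
      _ = 1 := by rw [inv_sq hz, inv_sq hz', one_mul]
  · intro h1
    apply hne
    have := congrArg (fun y => y * z) h1
    simpa [mul_assoc, inv_sq hz] using this

end quot

/-- a proper overgroup of a strongly embedded subgroup is strongly embedded -/
theorem SE_over [Finite G] {H N : Subgroup G} (hH : Cfsg.IsStronglyEmbedded H) (hHN : H ≤ N)
    (hN : N ≠ ⊤) : Cfsg.IsStronglyEmbedded N := by
  have key : ∀ t ∈ N, orderOf t = 2 → ∃ x ∈ N, ∃ h ∈ H, orderOf h = 2 ∧ x * h * x⁻¹ = t := by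
    intro t htN ht
    by_cases htH : t ∈ H
    · exact ⟨1, N.one_mem, t, htH, ht, by simp⟩
    · obtain ⟨h₀, hh₀H, hh₀⟩ := SE_exists_invol_mem hH
      obtain ⟨k, hk⟩ := SE_odd_orderOf_mul hH hh₀ ht hh₀H htH
      have := dihedral_conj h₀ t (invol_mul_self hh₀) (invol_mul_self ht) k
        (by rw [← hk, pow_orderOf_eq_one])
      exact ⟨_, N.mul_mem (N.pow_mem (N.mul_mem (hHN hh₀H) htN) k) (hHN hh₀H), h₀, hh₀H, hh₀, this.2⟩
  refine ⟨hN, ?_, ?_⟩
  · exact hH.2.1.trans_dvd (Subgroup.card_dvd_of_le hHN)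
  · intro g hg
    by_contra hodd
    rw [Nat.not_odd_iff_even] at hodd
    obtain ⟨t, ht⟩ := exists_prime_orderOf_dvd_card' 2 (even_iff_two_dvd.mp hodd)
    have ht2 : orderOf (t : G) = 2 := by rw [Subgroup.orderOf_coe, ht]
    obtain ⟨h1, n, hnN, hn⟩ := Subgroup.mem_inf.mp t.2
    simp only [MulEquiv.coe_toMonoidHom, MulAut.conj_apply] at hn
    have hn2 : orderOf n = 2 := by rw [← orderOf_conj_eq g n, hn, ht2]
    obtain ⟨x, hx, h, hhH, hh, hxh⟩ := key _ h1 ht2
    obtain ⟨y, hy, h', hh'H, hh', hyh⟩ := key _ hnN hn2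
    have e : (x⁻¹ * g * y) * h' * (x⁻¹ * g * y)⁻¹ = h := by
      have e1 : (x⁻¹ * g * y) * h' * (x⁻¹ * g * y)⁻¹ = x⁻¹ * (g * (y * h' * y⁻¹) * g⁻¹) * x := by
        simp [mul_assoc]
      rw [e1, hyh, hn, ← hxh]
      simp [mul_assoc]
    have h3 : x⁻¹ * g * y ∈ H := SE_mem_of_conj_mem hH hh' hh'H (by rw [e]; exact hhH)
    apply hg
    have : g = x * (x⁻¹ * g * y) * y⁻¹ := by simp [mul_assoc]
    rw [this]
    exact N.mul_mem (N.mul_mem hx (hHN h3)) (N.inv_mem hy)

end Cfsg.Agent.Lib.Helper36.AbCent
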