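import Mathlib
import Cfsg.Agent.Lib.Helper36.AbCentE
import Cfsg.Agent.Lib.Helper36.AbCentG
import Cfsg.Agent.S1225

set_option autoImplicit false
set_option linter.unusedSectionVars false

/-! Abelian involution centralizers, part H: the induction showing that squares of elements of
involution centralizers commute with all involutions. -/

namespace Cfsg.Agent.Lib.Helper36.AbCent

open Cfsg.Agent.Lib.Helper26

universe v

/-- the inductive hypothesis -/
def IH (n : ℕ) : Prop := ∀ (G : Type v) [Group G] [Finite G], Nat.card G < n → Ab G →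
  ∀ z z' u : G, orderOf z = 2 → orderOf z' = 2 → Commute z' z → z' ≠ z → orderOf u = 2 →
    ¬ Commute u z → Good G

lemma mem_normalizer_of_forall {G : Type*} [Group G] [Finite G] (P : Subgroup G) {x : G}
    (h : ∀ p ∈ P, x * p * x⁻¹ ∈ P) : x ∈ Subgroup.normalizer (P : Set G) := by
  have hpow : ∀ k : ℕ, ∀ p ∈ P, x ^ k * p * (x ^ k)⁻¹ ∈ P := by
    intro k
    induction k with
    | zero => intro p hp; simpa using hp
    | succ k ih =>
      intro p hp
      have := h _ (ih p hp)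
      have e : x ^ (k + 1) * p * (x ^ (k + 1))⁻¹ = x * (x ^ k * p * (x ^ k)⁻¹) * x⁻¹ := by
        rw [pow_succ']; simp [mul_assoc]
      rw [e]; exact this
  rw [Subgroup.mem_normalizer_iff]
  intro p
  refine ⟨h p, fun hp => ?_⟩
  have hx : x ^ (orderOf x - 1) = x⁻¹ := by
    rw [eq_inv_iff_mul_eq_one, ← pow_succ, Nat.sub_add_cancel (orderOf_pos x), pow_orderOf_eq_one]
  have := hpow (orderOf x - 1) _ hp
  rw [hx] at this
  simpa [mul_assoc] using this

lemma odd_of_comm_comm {G : Type*} [Group G] [Finite G] (hab : Ab G) {z w p : G}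
    (hwz : ¬ Commute w z) (h1 : Commute p z) (h2 : Commute p w) : Odd (orderOf p) := by
  by_contra hodd
  rw [Nat.not_odd_iff_even] at hodd
  obtain ⟨k, hk⟩ := hodd
  have hpos := orderOf_pos p
  have hk0 : k ≠ 0 := by omega
  have hs : orderOf (p ^ k) = 2 := by
    rw [orderOf_pow_of_dvd hk0 ⟨2, by omega⟩, hk]
    exact Nat.div_eq_of_eq_mul_left (by omega) (by ring)
  exact hwz (hab _ hs w z (h2.pow_left k).symm (h1.pow_left k).symm)

variable {G : Type v} [Group G] [Finite G] (hab : Ab G) {z : G} (hz : orderOf z = 2)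
  {u : G} (hu : orderOf u = 2) (huz : ¬ Commute u z)
  {z' : G} (hz' : orderOf z' = 2) (hzz' : Commute z' z) (hne : z' ≠ z)
  (ih : IH.{v} (Nat.card G))

lemma card_lt_of_ne_top {N : Subgroup G} (hN : N ≠ ⊤) : Nat.card N < Nat.card G :=
  lt_of_le_of_ne (Subgroup.card_le_card_group N) (fun h => hN (Subgroup.eq_top_of_card_eq N h))

include hu huz hz' hzz' hne ih in
/-- `Hs z` is a maximal subgroup -/
theorem maxi (N : Subgroup G) (hHN : Hs hab z hz ≤ N) (hN : N ≠ ⊤) : N ≤ Hs hab z hz := by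
  intro n hnN
  by_contra hnH
  have hlt : Nat.card N < Nat.card G := card_lt_of_ne_top hN
  have hzN : z ∈ N := hHN (mem_Hs_of_comm hab hz (Commute.refl z))
  have hz'N : z' ∈ N := hHN (mem_Hs_of_comm hab hz hzz')
  have hwN : n * z * n⁻¹ ∈ N := N.mul_mem (N.mul_mem hnN hzN) (N.inv_mem hnN)
  have hw : orderOf (n * z * n⁻¹) = 2 := inv_conj hz n
  have hwz : ¬ Commute (n * z * n⁻¹) z := hnH
  have habN := Ab_sub hab N
  have hz2 : orderOf (⟨z, hzN⟩ : N) = 2 := by rw [Subgroup.orderOf_mk]; exact hz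
  have hz'2 : orderOf (⟨z', hz'N⟩ : N) = 2 := by rw [Subgroup.orderOf_mk]; exact hz'
  have hw2 : orderOf (⟨n * z * n⁻¹, hwN⟩ : N) = 2 := by rw [Subgroup.orderOf_mk]; exact hw
  have hc1 : Commute (⟨z', hz'N⟩ : N) ⟨z, hzN⟩ := coe_comm.mpr hzz'
  have hc2 : ¬ Commute (⟨n * z * n⁻¹, hwN⟩ : N) ⟨z, hzN⟩ := fun h => hwz (coe_comm.mp h)
  have hne' : (⟨z', hz'N⟩ : N) ≠ ⟨z, hzN⟩ := fun h => hne (congrArg Subtype.val h)
  have hgood : Good N := ih N hlt habN _ _ _ hz2 hz'2 hc1 hne' hw2 hc2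
  have habΓ := Ab_quot habN hz2 hw2 hc2
  have hexΓ := Ex_quot habN hz2 hw2 hc2 hgood
  have hSE : Cfsg.IsStronglyEmbedded N := SE_over (stronglyEmbedded hab hz hu huz) hHN hN
  obtain ⟨v, hvN, hv⟩ := SE_exists_invol_not_mem hSE
  have hX₀ : Odd (Nat.card ↥(N ⊓ N.map (MulAut.conj v).toMonoidHom)) := hSE.2.2 v hvN
  have hX : Odd (Nat.card ↥(((N ⊓ N.map (MulAut.conj v).toMonoidHom).subgroupOf N).map
      (QuotientGroup.mk' (Kc N)))) := by
    have h1 := Subgroup.card_map_dvd ((N ⊓ N.map (MulAut.conj v).toMonoidHom).subgroupOf N)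
      (QuotientGroup.mk' (Kc N))
    have h2 : Nat.card ↥((N ⊓ N.map (MulAut.conj v).toMonoidHom).subgroupOf N) =
        Nat.card ↥(N ⊓ N.map (MulAut.conj v).toMonoidHom) :=
      Nat.card_congr (Subgroup.subgroupOfEquivOfLe inf_le_left).toEquiv
    rw [h2] at h1
    exact hX₀.of_dvd_nat h1
  refine no_odd_transitive habΓ (mk_inv' habN hz2 hw2 hc2 hz2) (mk_inv' habN hz2 hw2 hc2 hw2)
    (fun h => hc2 (comm_of_mk habN hz2 hw2 hc2 hz2 h)) (mk_inv' habN hz2 hw2 hc2 hz'2)
    (hc1.map (QuotientGroup.mk' (Kc N))) (mk_ne habN hz2 hw2 hc2 hz'2 hc1 hne') hexΓ _ hX ?_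
  intro σ τ hσ hτ
  obtain ⟨s, hs, rfl⟩ := lift_inv habN hz2 hw2 hc2 hσ
  obtain ⟨t, ht, rfl⟩ := lift_inv habN hz2 hw2 hc2 hτ
  obtain ⟨⟨d, hd, hdst⟩, -⟩ := Cfsg.Agent.S1225.result N hSE v hv hvN s t
    (by rw [Subgroup.orderOf_coe]; exact hs) s.2 (by rw [Subgroup.orderOf_coe]; exact ht) t.2
  have hdN : d ∈ N := (Subgroup.mem_inf.mp hd).1
  refine ⟨QuotientGroup.mk ⟨d, hdN⟩, ⟨⟨d, hdN⟩, Subgroup.mem_subgroupOf.mpr hd, rfl⟩, ?_⟩
  rw [← QuotientGroup.mk_inv, ← QuotientGroup.mk_mul, ← QuotientGroup.mk_mul]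
  congr 1
  exact Subtype.ext hdst

include hab hz hu huz in
lemma exists_conj_z {t : G} (ht : orderOf t = 2) : ∃ x : G, x * z * x⁻¹ = t :=
  isConj_iff.mp (SE_isConj (stronglyEmbedded hab hz hu huz) hz ht)

include hu huz hz' hzz' hne ih in
/-- failure of the local condition at `z` -/
theorem ex_of_not_loc (hK : Kc G = ⊥) {r g : G} (hr : r ≠ 1) (hrz : Commute r z)
    (hgr : Commute g r) (hg : g ∉ Hs hab z hz) {c : G} (hc : Commute c z) : c * c = 1 := by
  have hM : Subgroup.centralizer ({r} : Set G) ≠ ⊤ := by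
    intro h
    apply hr
    have : r ∈ Kc G := by
      intro s _
      have hs : s ∈ Subgroup.centralizer ({r} : Set G) := h ▸ Subgroup.mem_top s
      exact (Subgroup.mem_centralizer_singleton_iff.mp hs).symm
    rw [hK] at this
    exact Subgroup.mem_bot.mp this
  have memM : ∀ {x : G}, Commute x r → x ∈ Subgroup.centralizer ({r} : Set G) :=
    fun h => Subgroup.mem_centralizer_singleton_iff.mpr h.eq
  have hlt := card_lt_of_ne_top hM
  have hzM : z ∈ Subgroup.centralizer ({r} : Set G) := memM hrz.symm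
  have hz'M : z' ∈ Subgroup.centralizer ({r} : Set G) := memM (hab z hz z' r hzz' hrz)
  have hgM : g ∈ Subgroup.centralizer ({r} : Set G) := memM hgr
  have hwM : g * z * g⁻¹ ∈ Subgroup.centralizer ({r} : Set G) :=
    Subgroup.mul_mem _ (Subgroup.mul_mem _ hgM hzM) (Subgroup.inv_mem _ hgM)
  have hw : orderOf (g * z * g⁻¹) = 2 := inv_conj hz g
  have hwz : ¬ Commute (g * z * g⁻¹) z := hg
  have habM := Ab_sub hab (Subgroup.centralizer ({r} : Set G))
  have hz2 : orderOf (⟨z, hzM⟩ : Subgroup.centralizer ({r} : Set G)) = 2 := by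
    rw [Subgroup.orderOf_mk]; exact hz
  have hz'2 : orderOf (⟨z', hz'M⟩ : Subgroup.centralizer ({r} : Set G)) = 2 := by
    rw [Subgroup.orderOf_mk]; exact hz'
  have hw2 : orderOf (⟨g * z * g⁻¹, hwM⟩ : Subgroup.centralizer ({r} : Set G)) = 2 := by
    rw [Subgroup.orderOf_mk]; exact hw
  have hgood : Good (Subgroup.centralizer ({r} : Set G)) :=
    ih _ hlt habM _ _ _ hz2 hz'2 (coe_comm.mpr hzz') (fun h => hne (congrArg Subtype.val h)) hw2
      (fun h => hwz (coe_comm.mp h))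
  have hP : ∀ c : G, Commute c z → Commute (c * c) (g * z * g⁻¹) := by
    intro c hc
    have hcM : c ∈ Subgroup.centralizer ({r} : Set G) := memM (hab z hz c r hc hrz)
    have := hgood ⟨z, hzM⟩ hz2 ⟨c, hcM⟩ (coe_comm.mpr hc) ⟨g * z * g⁻¹, hwM⟩ hw2
    exact coe_comm.mp this
  -- the subgroup of squares
  let P : Subgroup G :=
    { carrier := {p | ∃ c : G, Commute c z ∧ c * c = p}
      one_mem' := ⟨1, Commute.one_left z, one_mul 1⟩
      mul_mem' := by
        rintro _ _ ⟨c₁, h₁, rfl⟩ ⟨c₂, h₂, rfl⟩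
        refine ⟨c₁ * c₂, h₁.mul_left h₂, ?_⟩
        have e : c₂ * c₁ = c₁ * c₂ := (hab z hz c₂ c₁ h₂ h₁).eq
        calc c₁ * c₂ * (c₁ * c₂) = c₁ * (c₂ * c₁) * c₂ := by simp only [mul_assoc]
          _ = c₁ * c₁ * (c₂ * c₂) := by rw [e]; simp only [mul_assoc]
      inv_mem' := by
        rintro _ ⟨c, h, rfl⟩
        exact ⟨c⁻¹, h.inv_left, by simp⟩ }
  have memP : ∀ {p : G}, p ∈ P ↔ ∃ c : G, Commute c z ∧ c * c = p := Iff.rfl
  have hPz : ∀ p ∈ P, Commute p z := by
    rintro _ ⟨c, h, rfl⟩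
    exact h.mul_left h
  have hPw : ∀ p ∈ P, Commute p (g * z * g⁻¹) := by
    rintro _ ⟨c, h, rfl⟩
    exact hP c h
  have hH : Hs hab z hz ≤ Subgroup.normalizer (P : Set G) := by
    intro h hh
    apply mem_normalizer_of_forall
    rintro _ ⟨c, hc, rfl⟩
    exact ⟨h * c * h⁻¹, conj_comm hab hz hh hc, by simp [mul_assoc]⟩
  have hgN : g⁻¹ ∈ Subgroup.normalizer (P : Set G) := by
    apply mem_normalizer_of_forall
    intro p hp
    obtain ⟨k, hk⟩ := odd_of_comm_comm hab hwz (hPz p hp) (hPw p hp)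
    have hq : p ^ (k + 1) ∈ P := P.pow_mem hp _
    have hqq : p ^ (k + 1) * p ^ (k + 1) = p := by
      rw [← pow_add]
      have : k + 1 + (k + 1) = orderOf p + 1 := by omega
      rw [this, pow_succ, pow_orderOf_eq_one, one_mul]
    refine ⟨g⁻¹ * p ^ (k + 1) * g⁻¹⁻¹, ?_, ?_⟩
    · have h1 := (Commute.conj_iff g⁻¹).mpr (hPw _ hq)
      have e : g⁻¹ * (g * z * g⁻¹) * g⁻¹⁻¹ = z := by simp [mul_assoc]
      rwa [e] at h1
    · calc g⁻¹ * p ^ (k + 1) * g⁻¹⁻¹ * (g⁻¹ * p ^ (k + 1) * g⁻¹⁻¹)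
          = g⁻¹ * (p ^ (k + 1) * p ^ (k + 1)) * g⁻¹⁻¹ := by simp [mul_assoc]
        _ = _ := by rw [hqq]
  have htop : Subgroup.normalizer (P : Set G) = ⊤ := by
    by_contra hne'
    have := maxi hab hz hu huz hz' hzz' hne ih _ hH hne'
    exact hg (by simpa using (Hs hab z hz).inv_mem (this hgN))
  have hPK : ∀ p ∈ P, p ∈ Kc G := by
    intro p hp s hs
    obtain ⟨x, rfl⟩ := exists_conj_z hab hz hu huz hs
    have hx : x⁻¹ ∈ Subgroup.normalizer (P : Set G) := htop ▸ Subgroup.mem_top _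
    have h1 := hPz _ ((Subgroup.mem_normalizer_iff.mp hx p).mp hp)
    have h2 := (Commute.conj_iff x).mpr h1
    have e : x * (x⁻¹ * p * x⁻¹⁻¹) * x⁻¹ = p := by simp [mul_assoc]
    rwa [e] at h2
  have := hPK (c * c) ⟨c, hc, rfl⟩
  rw [hK] at this
  exact Subgroup.mem_bot.mp this

include hab hz hu huz hz' hzz' hne ih in
theorem ex_of_bot (hK : Kc G = ⊥) {c : G} (hc : Commute c z) : c * c = 1 := by
  by_cases hloc : Loc G
  · exact core hab hloc hz hu huz hz' hzz' hne hc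
  · unfold Loc at hloc
    push Not at hloc
    obtain ⟨t, ht, r, hr, hrt, g, hgr, a, hat, hn⟩ := hloc
    obtain ⟨x, rfl⟩ := exists_conj_z hab hz hu huz ht
    have hg : g ∉ Hs hab (x * z * x⁻¹) (inv_conj hz x) := fun h => hn (conj_comm hab _ h hat)
    have h1 := ex_of_not_loc hab (inv_conj hz x) (inv_conj hu x)
      (fun h => huz ((Commute.conj_iff x).mp h)) (inv_conj hz' x) ((Commute.conj_iff x).mpr hzz')
      (fun h => hne (by simpa using h)) ih hK hr hrt hgr hg ((Commute.conj_iff x).mpr hc)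
    have := congrArg (fun y => x⁻¹ * y * x) h1
    simpa [mul_assoc] using this

include hab hz hu huz hz' hzz' hne ih in
theorem good_step : Good G := by
  by_cases hK : Kc G = ⊥
  · intro t ht c hc
    obtain ⟨x, rfl⟩ := exists_conj_z hab hz hu huz ht
    have h1 : Commute (x⁻¹ * c * x⁻¹⁻¹) z := by
      have := (Commute.conj_iff x⁻¹).mpr hc
      have e : x⁻¹ * (x * z * x⁻¹) * x⁻¹⁻¹ = z := by simp [mul_assoc]
      rwa [e] at this
    have h2 := ex_of_bot hab hz hu huz hz' hzz' hne ih hK h1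
    have h3 : c * c = 1 := by
      have := congrArg (fun y => x * y * x⁻¹) h2
      simpa [mul_assoc] using this
    rw [h3]; exact Subgroup.one_mem _
  · have hlt : Nat.card (G ⧸ Kc G) < Nat.card G := by
      have h1 := Subgroup.card_eq_card_quotient_mul_card_subgroup (Kc G)
      have h2 : 1 < Nat.card (Kc G) := (Subgroup.one_lt_card_iff_ne_bot _).mpr hK
      have h3 : 0 < Nat.card (G ⧸ Kc G) := Nat.card_pos
      rw [h1]
      nlinarith
    have hgood : Good (G ⧸ Kc G) := ih _ hlt (Ab_quot hab hz hu huz) _ _ _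
      (mk_inv' hab hz hu huz hz) (mk_inv' hab hz hu huz hz') (hzz'.map (QuotientGroup.mk' (Kc G)))
      (mk_ne hab hz hu huz hz' hzz' hne) (mk_inv' hab hz hu huz hu)
      (fun h => huz (comm_of_mk hab hz hu huz hz h))
    intro t ht c hc s hs
    apply comm_of_mk hab hz hu huz hs
    rw [QuotientGroup.mk_mul]
    exact hgood _ (mk_inv' hab hz hu huz ht) _ (hc.map (QuotientGroup.mk' (Kc G))) _
      (mk_inv' hab hz hu huz hs)

theorem IH_all (n : ℕ) : IH.{v} n := by
  induction n with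
  | zero => intro G _ _ h; omega
  | succ n ih =>
    intro G _ _ hlt hab z z' u hz hz' hzz' hne hu huz
    exact good_step hab hz hu huz hz' hzz' hne (fun G' _ _ h => ih G' (by omega))

include hab hz hu huz hz' hzz' hne in
theorem good : Good G :=
  IH_all (Nat.card G + 1) G (Nat.lt_succ_self _) hab z z' u hz hz' hzz' hne hu huz

end Cfsg.Agent.Lib.Helper36.AbCent
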