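import Mathlib
import Cfsg.Agent.Lib.Helper36.AbCentH
import Cfsg.Agent.Lib.Helper59.UniqueOdd

set_option autoImplicit false
set_option linter.unusedSectionVars false
set_option linter.style.haveILetI false

/-! Abelian involution centralizers, part I: extraction of the data from a Sylow 2-subgroup, the
subgroup generated by the involutions, and the direct decomposition. -/

namespace Cfsg.Agent.Lib.Helper36.AbCent

open Cfsg.Agent.Lib.Helper26

variable {G : Type*} [Group G]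

theorem exists_data [Finite G] (hab : Ab G) (T : Sylow 2 G) (hnc : ¬ IsCyclic T)
    (hnn : ¬ (T : Subgroup G).Normal) :
    ∃ z z' u : G, orderOf z = 2 ∧ orderOf z' = 2 ∧ Commute z' z ∧ z' ≠ z ∧ orderOf u = 2 ∧
      ¬ Commute u z := by
  haveI : Fact (Nat.Prime 2) := ⟨Nat.prime_two⟩
  haveI : Nontrivial T := by
    by_contra h
    rw [not_nontrivial_iff_subsingleton] at h
    exact hnc isCyclic_of_subsingleton
  obtain ⟨ζ, hζc, hζ⟩ := Cfsg.Agent.Lib.Helper59.exists_central_orderOf_eq T.isPGroup'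
  have hz : orderOf (ζ : G) = 2 := by rw [Subgroup.orderOf_coe]; exact hζ
  have hTz : ∀ x : T, Commute (x : G) (ζ : G) := fun x =>
    coe_comm.mp (Subgroup.mem_center_iff.mp hζc x)
  have hTc : ∀ x y : T, x * y = y * x := fun x y =>
    (coe_comm.mpr (hab _ hz _ _ (hTz x) (hTz y))).eq
  have h2 : ∃ z' : G, orderOf z' = 2 ∧ Commute z' (ζ : G) ∧ z' ≠ ζ := by
    by_contra hno
    push Not at hno
    apply hnc
    apply Cfsg.Agent.Lib.Helper59.isCyclic_of_unique_of_comm T.isPGroup' _ hTc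
    intro x y hx hy
    have hx' : (x : G) = ζ := hno x (by rw [Subgroup.orderOf_coe]; exact hx) (hTz x)
    have hy' : (y : G) = ζ := hno y (by rw [Subgroup.orderOf_coe]; exact hy) (hTz y)
    have : y = x := Subtype.ext (hy'.trans hx'.symm)
    rw [this]; exact Subgroup.mem_zpowers x
  have h3 : ∃ u : G, orderOf u = 2 ∧ ¬ Commute u (ζ : G) := by
    by_contra hall
    push Not at hall
    apply hnn
    refine ⟨fun x hx g => ?_⟩
    have hcz : ∀ y ∈ (T : Subgroup G).map (MulAut.conj g).toMonoidHom, Commute y (ζ : G) := by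
      rintro _ ⟨x, hx, rfl⟩
      simp only [MulEquiv.coe_toMonoidHom, MulAut.conj_apply]
      have h1 : Commute (g * x * g⁻¹) (g * ζ * g⁻¹) := (Commute.conj_iff g).mpr (hTz ⟨x, hx⟩)
      exact (comm_iff hab (inv_conj hz g) hz (hall _ (inv_conj hz g)) _).mp h1
    have hle : (T : Subgroup G).map (MulAut.conj g).toMonoidHom ≤
        Subgroup.normalizer ((T : Subgroup G) : Set G) := by
      intro y hy
      apply mem_normalizer_of_forall
      intro p hp
      have : Commute y p := hab _ hz _ _ (hcz y hy) (hTz ⟨p, hp⟩)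
      rw [this.eq, mul_assoc, mul_inv_cancel, mul_one]; exact hp
    have hP := (T.isPGroup'.map (MulAut.conj g).toMonoidHom).to_sup_of_normal_right' T.isPGroup' hle
    have := T.is_maximal' hP le_sup_right
    have hmem : g * x * g⁻¹ ∈ (T : Subgroup G).map (MulAut.conj g).toMonoidHom ⊔ T :=
      Subgroup.mem_sup_left ⟨x, hx, by simp⟩
    rw [this] at hmem; exact hmem
  obtain ⟨z', hz', hzz', hne⟩ := h2
  obtain ⟨u, hu, huz⟩ := h3
  exact ⟨ζ, z', u, hz, hz', hzz', hne, hu, huz⟩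

/-- the subgroup generated by the involutions -/
def Lc (G : Type*) [Group G] : Subgroup G := Subgroup.closure {t : G | orderOf t = 2}

lemma inv_mem_Lc {t : G} (ht : orderOf t = 2) : t ∈ Lc G := Subgroup.subset_closure ht

open scoped IsMulCommutative in
/-- transfer into an abelian Sylow subgroup for an odd prime kills the involutions -/
theorem transfer_kill [Finite G] {p : ℕ} [Fact p.Prime] (hp2 : p ≠ 2) (P : Sylow p G)
    (hP : ∀ a b : P, a * b = b * a) {k : G} (hk : ∀ g, Commute k g) (hkL : k ∈ Lc G) :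
    k ^ (P : Subgroup G).index = 1 := by
  haveI : IsMulCommutative P := ⟨⟨hP⟩⟩
  have hpodd : Odd p := (Fact.out : p.Prime).odd_of_ne_two hp2
  have hV : ∀ t : G, orderOf t = 2 → MonoidHom.transfer (MonoidHom.id P) t = 1 := by
    intro t ht
    apply eq_one_of_sq_of_odd
    · obtain ⟨j, hj⟩ := (IsPGroup.iff_orderOf.mp P.isPGroup') (MonoidHom.transfer (MonoidHom.id P) t)
      rw [hj]; exact hpodd.pow
    · rw [← map_mul, inv_sq ht, map_one]
  have hle : Lc G ≤ (MonoidHom.transfer (MonoidHom.id P)).ker := by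
    rw [Lc, Subgroup.closure_le]
    intro t ht
    exact MonoidHom.mem_ker.mpr (hV t ht)
  have h1 : MonoidHom.transfer (MonoidHom.id P) k = 1 := MonoidHom.mem_ker.mp (hle hkL)
  have key : ∀ (j : ℕ) (g₀ : G), g₀⁻¹ * k ^ j * g₀ ∈ (P : Subgroup G) →
      g₀⁻¹ * k ^ j * g₀ = k ^ j := by
    intro j g₀ _
    have : Commute (k ^ j) g₀ := (hk g₀).pow_left j
    rw [mul_assoc, this.eq, inv_mul_cancel_left]
  rw [MonoidHom.transfer_eq_pow (MonoidHom.id P) k key] at h1
  exact congrArg Subtype.val h1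

theorem sylow_comm_of_hom [Finite G] {S : Type*} [Group S] [Finite S] (φ : G →* S)
    (hφ : ∀ x, φ x = 1 → ∀ g, Commute x g) {p : ℕ} [Fact p.Prime]
    (hS : ∀ R : Sylow p S, IsCyclic R) (P : Sylow p G) (a b : P) : a * b = b * a := by
  obtain ⟨R, hR⟩ := (P.isPGroup'.map φ).exists_le_sylow
  haveI := hS R
  let f : P →* R := (φ.comp (P : Subgroup G).subtype).codRestrict (R : Subgroup S)
    (fun x => hR ⟨x, x.2, rfl⟩)
  refine (f.isMulCommutative_of_isCyclic_of_ker_le_center ?_).is_comm.comm a b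
  intro x hx
  rw [MonoidHom.mem_ker] at hx
  have h1 : φ x = 1 := congrArg Subtype.val hx
  rw [Subgroup.mem_center_iff]
  intro y
  exact Subtype.ext (hφ x h1 y).symm.eq

variable [Finite G] (hab : Ab G) {z : G} (hz : orderOf z = 2)
  {u : G} (hu : orderOf u = 2) (huz : ¬ Commute u z)
  {z' : G} (hz' : orderOf z' = 2) (hzz' : Commute z' z) (hne : z' ≠ z)

include hab hz hu huz in
lemma exists_conj_L {t : G} (ht : orderOf t = 2) : ∃ x ∈ Lc G, x * z * x⁻¹ = t := by
  have hSE := stronglyEmbedded hab hz hu huz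
  have hzH : z ∈ Hs hab z hz := mem_Hs_of_comm hab hz (Commute.refl z)
  have key : ∀ s t : G, orderOf s = 2 → orderOf t = 2 → s ∈ Hs hab z hz → t ∉ Hs hab z hz →
      ∃ x ∈ Lc G, x * s * x⁻¹ = t := by
    intro s t hs ht hsH htH
    obtain ⟨k, hk⟩ := SE_odd_orderOf_mul hSE hs ht hsH htH
    have := dihedral_conj s t (invol_mul_self hs) (invol_mul_self ht) k
      (by rw [← hk, pow_orderOf_eq_one])
    exact ⟨_, (Lc G).mul_mem ((Lc G).pow_mem ((Lc G).mul_mem (inv_mem_Lc hs) (inv_mem_Lc ht)) k)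
      (inv_mem_Lc hs), this.2⟩
  by_cases htH : t ∈ Hs hab z hz
  · have huH : u ∉ Hs hab z hz := fun h => huz (inv_comm_of_mem hab hz hu h)
    obtain ⟨x₁, hx₁, e₁⟩ := key z u hz hu hzH huH
    obtain ⟨x₂, hx₂, e₂⟩ := key t u ht hu htH huH
    refine ⟨x₂⁻¹ * x₁, (Lc G).mul_mem ((Lc G).inv_mem hx₂) hx₁, ?_⟩
    have : x₂⁻¹ * x₁ * z * (x₂⁻¹ * x₁)⁻¹ = x₂⁻¹ * (x₁ * z * x₁⁻¹) * x₂ := by simp [mul_assoc]
    rw [this, e₁, ← e₂]; simp [mul_assoc]
  · exact key z t hz ht hzH htH

include hab hz hu huz in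
lemma exists_mul_LK (hg : Good G) (g : G) : ∃ l ∈ Lc G, ∃ k ∈ Kc G, g = l * k := by
  obtain ⟨x, hx, hxz⟩ := exists_conj_L hab hz hu huz (inv_conj hz g)
  have hc : Commute (x⁻¹ * g) z := by
    show x⁻¹ * g * z = z * (x⁻¹ * g)
    have := congrArg (fun y => x⁻¹ * y * g) hxz
    simp only [mul_assoc, inv_mul_cancel_left, inv_mul_cancel, mul_one] at this
    rw [this, mul_assoc]
  obtain ⟨j, hj⟩ := Kc_card_odd hab hz hu huz
  have hcc : (x⁻¹ * g) * (x⁻¹ * g) ∈ Kc G := hg z hz _ hc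
  have h1 : (x⁻¹ * g) ^ (Nat.card (Kc G)) * (x⁻¹ * g) ^ (Nat.card (Kc G)) = 1 := by
    rw [← (Commute.refl (x⁻¹ * g)).mul_pow]
    exact congrArg Subtype.val (pow_card_eq_one' (G := Kc G) (x := ⟨_, hcc⟩))
  have h2 : (x⁻¹ * g) ^ (Nat.card (Kc G)) ∈ Lc G := by
    by_cases h : (x⁻¹ * g) ^ (Nat.card (Kc G)) = 1
    · rw [h]; exact Subgroup.one_mem _
    · exact inv_mem_Lc (orderOf_eq_two_of h1 h)
  refine ⟨x * (x⁻¹ * g) ^ (Nat.card (Kc G)), (Lc G).mul_mem hx h2,
    (((x⁻¹ * g) * (x⁻¹ * g)) ^ j)⁻¹, (Kc G).inv_mem ((Kc G).pow_mem hcc j), ?_⟩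
  have e : (x⁻¹ * g) ^ (Nat.card (Kc G)) = (x⁻¹ * g) * ((x⁻¹ * g) * (x⁻¹ * g)) ^ j := by
    rw [hj, pow_succ', pow_mul, pow_two]
  rw [e, mul_assoc, mul_assoc, mul_inv_cancel, mul_one, mul_inv_cancel_left]

include hab hz hu huz in
lemma Kc_central (hg : Good G) {k : G} (hk : k ∈ Kc G) (g : G) : Commute k g := by
  obtain ⟨l, hl, k', hk', rfl⟩ := exists_mul_LK hab hz hu huz hg g
  have h1 : Commute l k := by
    have : Lc G ≤ Subgroup.centralizer ({k} : Set G) := by
      rw [Lc, Subgroup.closure_le]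
      intro t ht
      exact Subgroup.mem_centralizer_singleton_iff.mpr (hk t ht).symm.eq
    exact Subgroup.mem_centralizer_singleton_iff.mp (this hl)
  have h2 : Commute k k' := hab z hz k k' (hk z hz) (hk' z hz)
  exact h1.symm.mul_right h2

include hab hz hu huz in
theorem L_inf_K (hg : Good G)
    (hSyl : ∀ (p : ℕ) [Fact p.Prime], p ≠ 2 → ∀ P : Sylow p G, ∀ a b : P, a * b = b * a)
    {k : G} (hkL : k ∈ Lc G) (hkK : k ∈ Kc G) : k = 1 := by
  by_contra hk1
  have ho : orderOf k ≠ 1 := fun h => hk1 (orderOf_eq_one_iff.mp h)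
  obtain ⟨p, hp, hpk⟩ := Nat.exists_prime_and_dvd ho
  haveI : Fact p.Prime := ⟨hp⟩
  have hodd := Kc_orderOf_odd hab hz hu huz hkK
  have hp2 : p ≠ 2 := by
    rintro rfl
    exact (Nat.not_even_iff_odd.mpr hodd) (even_iff_two_dvd.mpr hpk)
  let P : Sylow p G := default
  have h1 := transfer_kill hp2 P (hSyl p hp2 P) (Kc_central hab hz hu huz hg hkK) hkL
  exact P.not_dvd_index (hpk.trans (orderOf_dvd_of_pow_eq_one h1))

include hab hz hu huz in
theorem decomp (hg : Good G) (hLK : ∀ k ∈ Lc G, k ∈ Kc G → k = 1) :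
    Nonempty (G ≃* (G ⧸ Kc G) × Kc G) := by
  let Φ : Lc G × Kc G →* G := MonoidHom.noncommCoprod (Lc G).subtype (Kc G).subtype
    (fun l k => (Kc_central hab hz hu huz hg k.2 l).symm)
  have hΦ : Function.Bijective Φ := by
    constructor
    · rw [injective_iff_map_eq_one]
      rintro ⟨l, k⟩ h
      have h' : (l : G) * k = 1 := h
      have hl : (l : G) = (k : G)⁻¹ := eq_inv_of_mul_eq_one_left h'
      have h1 : (l : G) = 1 := hLK l l.2 (hl ▸ (Kc G).inv_mem k.2)
      have h2 : (k : G) = 1 := by rw [h1, one_mul] at h'; exact h'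
      exact Prod.ext (Subtype.ext h1) (Subtype.ext h2)
    · intro g
      obtain ⟨l, hl, k, hk, rfl⟩ := exists_mul_LK hab hz hu huz hg g
      exact ⟨(⟨l, hl⟩, ⟨k, hk⟩), rfl⟩
  let Ψ : Lc G →* G ⧸ Kc G := (QuotientGroup.mk' (Kc G)).comp (Lc G).subtype
  have hΨ : Function.Bijective Ψ := by
    constructor
    · rw [injective_iff_map_eq_one]
      intro l h
      have h' : (QuotientGroup.mk (l : G) : G ⧸ Kc G) = 1 := h
      rw [QuotientGroup.eq_one_iff] at h'
      exact Subtype.ext (hLK l l.2 h')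
    · intro γ
      obtain ⟨g, rfl⟩ := QuotientGroup.mk_surjective γ
      obtain ⟨l, hl, k, hk, rfl⟩ := exists_mul_LK hab hz hu huz hg g
      refine ⟨⟨l, hl⟩, ?_⟩
      show (QuotientGroup.mk l : G ⧸ Kc G) = QuotientGroup.mk (l * k)
      rw [QuotientGroup.mk_mul, (QuotientGroup.eq_one_iff k).mpr hk, mul_one]
  exact ⟨(MulEquiv.ofBijective Φ hΦ).symm.trans
    (MulEquiv.prodCongr (MulEquiv.ofBijective Ψ hΨ) (MulEquiv.refl _))⟩

include hab hz hu huz hz' hzz' hne in
theorem exists_sylow (hex : Ex G) :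
    ∃ Q : Sylow 2 G, ¬ IsCyclic Q ∧ ¬ (Q : Subgroup G).Normal := by
  classical
  haveI : Fact (Nat.Prime 2) := ⟨Nat.prime_two⟩
  have hpg : IsPGroup 2 (Subgroup.centralizer ({z} : Set G)) := by
    intro c
    refine ⟨1, Subtype.ext ?_⟩
    show (c : G) ^ (2 ^ 1) = 1
    rw [pow_one, pow_two]
    exact hex z hz c (Subgroup.mem_centralizer_singleton_iff.mp c.2)
  obtain ⟨Q, hQ⟩ := hpg.exists_le_sylow
  have hzQ : z ∈ Q := hQ (Subgroup.mem_centralizer_singleton_iff.mpr rfl)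
  have hz'Q : z' ∈ Q := hQ (Subgroup.mem_centralizer_singleton_iff.mpr hzz'.eq)
  refine ⟨Q, ?_, ?_⟩
  · intro hc
    letI : Fintype Q := Fintype.ofFinite Q
    have h1 := IsCyclic.card_pow_eq_one_le (α := Q) (n := 2) (by norm_num)
    refine absurd h1 (not_le.mpr ?_)
    rw [Finset.two_lt_card_iff]
    refine ⟨1, ⟨z, hzQ⟩, ⟨z', hz'Q⟩, by simp, ?_, ?_, ?_, ?_, ?_⟩
    · simp only [Finset.mem_filter, Finset.mem_univ, true_and]
      exact Subtype.ext (by simpa [pow_two] using inv_sq hz)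
    · simp only [Finset.mem_filter, Finset.mem_univ, true_and]
      exact Subtype.ext (by simpa [pow_two] using inv_sq hz')
    · intro hh
      exact invol_ne_one hz (congrArg Subtype.val hh).symm
    · intro hh
      exact invol_ne_one hz' (congrArg Subtype.val hh).symm
    · intro hh
      exact hne (congrArg Subtype.val hh).symm
  · intro hn
    haveI : Nontrivial Q := ⟨⟨z, hzQ⟩, 1, fun h => invol_ne_one hz (congrArg Subtype.val h)⟩
    obtain ⟨y, hyc, hy⟩ := Cfsg.Agent.Lib.Helper59.exists_central_orderOf_eq Q.isPGroup'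
    have hy2 : orderOf (y : G) = 2 := by rw [Subgroup.orderOf_coe]; exact hy
    have hwQ : u * z * u⁻¹ ∈ (Q : Subgroup G) := hn.conj_mem z hzQ u
    have c1 : Commute z (y : G) :=
      coe_comm.mp (show Commute (⟨z, hzQ⟩ : Q) y from Subgroup.mem_center_iff.mp hyc ⟨z, hzQ⟩)
    have c2 : Commute (u * z * u⁻¹) (y : G) :=
      coe_comm.mp (show Commute (⟨_, hwQ⟩ : Q) y from Subgroup.mem_center_iff.mp hyc ⟨_, hwQ⟩)
    have c3 : Commute (u * z * u⁻¹) z := hab y hy2 _ _ c2 c1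
    exact huz (inv_comm_of_mem hab hz hu c3)

universe w in
lemma exists_small_commGroup (K : Type w) [Group K] [Finite K] (hc : ∀ a b : K, a * b = b * a) :
    ∃ (A : Type) (_ : CommGroup A) (_ : Finite A), Nat.card A = Nat.card K ∧
      Nonempty (K ≃* A) := by
  letI : CommGroup K := { (inferInstance : Group K) with mul_comm := hc }
  exact ⟨Shrink.{0} K, inferInstance, inferInstance, Nat.card_congr (equivShrink.{0} K).symm,
    ⟨Shrink.mulEquiv.symm⟩⟩

end Cfsg.Agent.Lib.Helper36.AbCent
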