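import Mathlib
import Cfsg.Agent.Lib.Helper36.AbCentI
import Cfsg.Agent.Lib.Helper64.SemiGraph
import Cfsg.Agent.S1230
import Cfsg.Agent.S0262

set_option autoImplicit false
set_option linter.unusedSectionVars false
set_option linter.style.haveILetI false

/-! Abelian involution centralizers, part J: the final identification. -/

namespace Cfsg.Agent.Lib.Helper36.AbCent

open Cfsg.Agent.Lib.Helper26

variable {G : Type*} [Group G] [Finite G] (hab : Ab G) {z : G} (hz : orderOf z = 2)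
  {u : G} (hu : orderOf u = 2) (huz : ¬ Commute u z)
  {z' : G} (hz' : orderOf z' = 2) (hzz' : Commute z' z) (hne : z' ≠ z)

include hab hz hu huz hz' hzz' hne in
theorem final : ∃ (F : Type) (_ : Field F) (_ : Fintype F) (A : Type) (_ : CommGroup A)
    (_ : Finite A), CharP F 2 ∧ Odd (Nat.card A) ∧
      Nonempty (G ≃* Matrix.SpecialLinearGroup (Fin 2) F × A) := by
  haveI : Fact (Nat.Prime 2) := ⟨Nat.prime_two⟩
  have hg := good hab hz hu huz hz' hzz' hne
  have habΓ := Ab_quot hab hz hu huz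
  have hexΓ := Ex_quot hab hz hu huz hg
  obtain ⟨Q, hQc, hQn⟩ := exists_sylow habΓ (mk_inv' hab hz hu huz hz) (mk_inv' hab hz hu huz hu)
    (fun h => huz (comm_of_mk hab hz hu huz hz h)) (mk_inv' hab hz hu huz hz')
    (hzz'.map (QuotientGroup.mk' (Kc G))) (mk_ne hab hz hu huz hz' hzz' hne) hexΓ
  obtain ⟨F, iF, iFt, hcard, ⟨e⟩⟩ := Cfsg.Agent.S1230.result Q hQc hQn (fun τ hτ =>
    ⟨⟨⟨fun a b => Subtype.ext (habΓ τ hτ a b (Subgroup.mem_centralizer_singleton_iff.mp a.2)
      (Subgroup.mem_centralizer_singleton_iff.mp b.2)).eq⟩⟩,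
     fun c hc => by
      rw [pow_two]; exact hexΓ τ hτ c (Subgroup.mem_centralizer_singleton_iff.mp hc)⟩)
  obtain ⟨n, hn⟩ := IsPGroup.iff_card.mp Q.isPGroup'
  have h2 : (2 : F) = 0 := by
    have h := Nat.cast_card_eq_zero F
    rw [hcard, hn] at h
    push_cast at h
    exact eq_zero_of_pow_eq_zero h
  haveI : CharP F 2 := CharTwo.of_one_ne_zero_of_two_eq_zero one_ne_zero h2
  obtain ⟨e'⟩ := Cfsg.Agent.Lib.Helper64.psl2_equiv_sl2 F
  have hSyl : ∀ (p : ℕ) [Fact p.Prime], p ≠ 2 → ∀ P : Sylow p G, ∀ a b : P, a * b = b * a := by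
    intro p _ hp P a b
    refine sylow_comm_of_hom ((e.trans e').toMonoidHom.comp (QuotientGroup.mk' (Kc G))) ?_
      (fun R => Cfsg.Agent.S0262.result 2 p hp hp R) P a b
    intro x hx g
    have h1 : (e.trans e') (QuotientGroup.mk x : G ⧸ Kc G) = 1 := hx
    have h3 : (QuotientGroup.mk x : G ⧸ Kc G) = 1 := by
      rw [← map_one (e.trans e')] at h1
      exact (e.trans e').injective h1
    exact Kc_central hab hz hu huz hg ((QuotientGroup.eq_one_iff x).mp h3) g
  obtain ⟨δ⟩ := decomp hab hz hu huz hg (fun k h1 h2 => L_inf_K hab hz hu huz hg hSyl h1 h2)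
  obtain ⟨A, iA, iAf, hA, ⟨α⟩⟩ := exists_small_commGroup (Kc G)
    (fun a b => Subtype.ext (hab z hz a b (a.2 z hz) (b.2 z hz)).eq)
  refine ⟨F, iF, iFt, A, iA, iAf, inferInstance, ?_, ⟨δ.trans (MulEquiv.prodCongr (e.trans e') α)⟩⟩
  rw [hA]
  exact Kc_card_odd hab hz hu huz

end Cfsg.Agent.Lib.Helper36.AbCent
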