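import Cfsg.Agent.Lib.Helper36.BABstrA

/-!
# Ladder BA, rung BSTR, part B: the orders
-/

set_option autoImplicit false

namespace Cfsg.Agent.Lib.Helper36.BA

open Cfsg Subgroup
open Cfsg.Agent.Lib.Helper53 Cfsg.Agent.Lib.Helper53.SA2
open Cfsg.Agent.Lib.Helper53.JC (cjj QQ)
open Cfsg.Agent.Lib.Helper53.SA (ZP)

variable {G : Type*} [Group G]

namespace Sit

variable {P T : Subgroup G} {t : G} (S : Sit P T t)

include S

theorem cent_t_eq {D : Subgroup G} (hD : D ≤ QQ P) (h2 : D.relIndex (QQ P) = 2)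
    (hDt : ∀ x ∈ D, t * x = x * t) : QQ P ⊓ centralizer {t} = D := by
  have hle : D ≤ QQ P ⊓ centralizer {t} :=
    fun x hx => ⟨hD hx, mem_centralizer_singleton_iff.2 (hDt x hx).symm⟩
  rcases JC.eq_or_eq_of_relIndex_prime Nat.prime_two hle inf_le_left h2 with h | h
  · exact h
  · exfalso
    apply S.tQ
    apply S.hchar
    refine ⟨S.tP, ?_⟩
    show t ∈ centralizer (QQ P : Set G)
    rw [mem_centralizer_iff]
    intro q hq
    have hq' : q ∈ QQ P ⊓ centralizer {t} := by rw [h]; exact hq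
    exact mem_centralizer_singleton_iff.1 hq'.2

theorem mem_D_of_comm {D : Subgroup G} (hD : D ≤ QQ P) (h2 : D.relIndex (QQ P) = 2)
    (hDt : ∀ x ∈ D, t * x = x * t) {q : G} (hq : q ∈ QQ P) (hc : t * q = q * t) : q ∈ D := by
  rw [← S.cent_t_eq hD h2 hDt]
  exact ⟨hq, mem_centralizer_singleton_iff.2 hc.symm⟩

theorem CP_eq {D : Subgroup G} (hD : D ≤ QQ P) (h2 : D.relIndex (QQ P) = 2)
    (hDt : ∀ x ∈ D, t * x = x * t) {a : G} (ha : a ∈ P) (haT : a ∉ T) : CP P = D ⊓ cjj a D := by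
  apply le_antisymm
  · rintro x ⟨hxQ, hxP⟩
    have hxP' : x ∈ centralizer (P : Set G) := hxP
    rw [mem_centralizer_iff] at hxP'
    have hxD : x ∈ D := S.mem_D_of_comm hD h2 hDt hxQ (hxP' t S.tP)
    refine ⟨hxD, ?_⟩
    show x ∈ cjj a D
    rw [mem_cj]
    have : a⁻¹ * x * a = x := by
      rw [mul_assoc, ← hxP' a ha]; group
    rw [this]; exact hxD
  · rintro x ⟨hxD, hxD'⟩
    have hxD'' : a⁻¹ * x * a ∈ D := mem_cj.1 hxD'
    refine ⟨hD hxD, ?_⟩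
    show x ∈ centralizer (P : Set G)
    have hP : P ≤ centralizer {x} := by
      apply S.P_le ha haT
      · intro q hq
        exact mem_centralizer_singleton_iff.2 (S.comm hq (hD hxD))
      · exact mem_centralizer_singleton_iff.2 (hDt x hxD)
      · rw [mem_centralizer_singleton_iff]
        have h3 := hDt _ hxD''
        calc a * t * a⁻¹ * x = a * (t * (a⁻¹ * x * a)) * a⁻¹ := by group
          _ = a * ((a⁻¹ * x * a) * t) * a⁻¹ := by rw [h3]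
          _ = x * (a * t * a⁻¹) := by group
    rw [mem_centralizer_iff]
    intro h hh
    exact mem_centralizer_singleton_iff.1 (hP hh)

theorem comm_mem_D {D : Subgroup G} (hD : D ≤ QQ P) (h2 : D.relIndex (QQ P) = 2)
    (hDt : ∀ x ∈ D, t * x = x * t) {q : G} (hq : q ∈ QQ P) : t * q * t⁻¹ * q⁻¹ ∈ D := by
  by_cases hqD : q ∈ D
  · rw [hDt q hqD]
    simp
  · have hq' : t * q * t⁻¹ ∈ QQ P := conj_mem S.tP hq
    rw [mul_mem_iff_of_relIndex_two h2 hq' (inv_mem hq)]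
    constructor
    · intro hc
      exfalso
      apply hqD
      have h3 := hDt _ hc
      have : q = t * q * t⁻¹ := by
        calc q = t⁻¹ * ((t * q * t⁻¹) * t) := by group
          _ = t⁻¹ * (t * (t * q * t⁻¹)) := by rw [← h3]
          _ = t * q * t⁻¹ := by group
      rw [this]; exact hc
    · intro hc
      exact absurd (inv_mem_iff.1 hc) hqD

theorem D_ne [Finite G] {D : Subgroup G} (hD : D ≤ QQ P) (h2 : D.relIndex (QQ P) = 2)
    (hDt : ∀ x ∈ D, t * x = x * t) {a : G} (ha : a ∈ P) (haT : a ∉ T) : D ≠ cjj a D := by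
  intro he
  have hCP := S.CP_eq hD h2 hDt ha haT
  rw [← he, inf_idem] at hCP
  apply S.no_stab D hD
  · intro g hg c hc
    have hc' : c ∈ CP P := by rw [hCP]; exact hc
    have h3 : c ∈ centralizer (P : Set G) := hc'.2
    rw [mem_centralizer_iff] at h3
    rw [h3 g hg]; group
  · intro q hq
    exact S.comm_mem_D hD h2 hDt hq

theorem CP_le_and_relIndex [Finite G] {D : Subgroup G} (hD : D ≤ QQ P) (h2 : D.relIndex (QQ P) = 2)
    (hDt : ∀ x ∈ D, t * x = x * t) : CP P ≤ D ∧ (CP P).relIndex D = 2 := by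
  obtain ⟨a, ha, haT⟩ := S.L.exm
  have hCP := S.CP_eq hD h2 hDt ha haT
  have hQa : cjj a (QQ P) = QQ P := cj_eq_self_iff.2 (le_normalizer_pCoreOf 2 P ha)
  have hD' : cjj a D ≤ QQ P := by
    rw [← hQa]; exact cj_mono a hD
  have h2' : (cjj a D).relIndex (QQ P) = 2 := by
    rw [← h2, ← JC.relIndex_cj a D (QQ P), hQa]
  rw [hCP]
  exact ⟨inf_le_left, relIndex_inf_two hD hD' h2 h2' (S.D_ne hD h2 hDt ha haT)⟩

end Sit

/-- the two indices -/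
theorem indices [Finite G] {P T : Subgroup G} (syl : IsSylowTwoIn T P)
    (h6 : (pCoreOf 2 P).relIndex P = 6) :
    QQ P ≤ T ∧ (QQ P).relIndex T = 2 ∧ T.relIndex P = 3 := by
  have hsyl : IsSyl 2 T P := JC.isSylowTwoIn_iff.1 syl
  have hQT : QQ P ≤ T := pCoreOf_le_isSyl hsyl
  have h1 := Subgroup.relIndex_mul_relIndex (QQ P) T P hQT syl.1
  rw [h6] at h1
  obtain ⟨n, hn⟩ := (syl.2.1).index ((QQ P).subgroupOf T)
  have hn' : (QQ P).relIndex T = 2 ^ n := hn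
  have hodd := syl.2.2
  refine ⟨hQT, ?_⟩
  have hd : T.relIndex P ∣ 6 := ⟨_, by rw [mul_comm]; exact h1.symm⟩
  have hle : T.relIndex P ≤ 6 := Nat.le_of_dvd (by norm_num) hd
  generalize T.relIndex P = m at *
  generalize (QQ P).relIndex T = k at *
  interval_cases m
  · simp at hd
  · exfalso
    have : k = 6 := by omega
    rw [this] at hn'
    have h2 : (3 : ℕ) ∣ 2 ^ n := ⟨2, by omega⟩
    have := (Nat.Prime.dvd_of_dvd_pow Nat.prime_three h2)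
    omega
  · exact absurd hodd (by decide)
  · exact ⟨by omega, rfl⟩
  · exact absurd hodd (by decide)
  · omega
  · exact absurd hodd (by decide)

theorem QQ_ne_bot {P : Subgroup G} (h6 : (pCoreOf 2 P).relIndex P = 6)
    (hchar : P ⊓ centralizer (pCoreOf 2 P : Set G) ≤ pCoreOf 2 P) : QQ P ≠ ⊥ := by
  intro h
  have h7 : P ≤ QQ P := by
    refine le_trans (le_inf le_rfl ?_) hchar
    have : pCoreOf 2 P = ⊥ := h
    rw [this]
    intro a _
    rw [mem_centralizer_iff]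
    intro y hy
    have hy' : y = 1 := hy
    rw [hy']
    simp
  have h8 : (pCoreOf 2 P).relIndex P = 1 := relIndex_eq_one.2 h7
  omega

/-- the outcome of the analysis of the orders. -/
structure Out (P₁ P₂ T : Subgroup G) (t₁ t₂ : G) (D : Subgroup G) : Prop where
  S₁ : Sit P₁ T t₂
  S₂ : Sit P₂ T t₁
  D₁ : D ≤ QQ P₁
  D₂ : D ≤ QQ P₂
  i₁ : D.relIndex (QQ P₁) = 2
  i₂ : D.relIndex (QQ P₂) = 2
  c₁ : ∀ x ∈ D, t₂ * x = x * t₂
  c₂ : ∀ x ∈ D, t₁ * x = x * t₁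
  card : (Nat.card (CP P₁) = 1 ∧ Nat.card (CP P₂) = 1 ∧ Nat.card (QQ P₁) = 4 ∧ Nat.card (QQ P₂) = 4) ∨
    (Nat.card (CP P₁) = 2 ∧ Nat.card (CP P₂) = 2 ∧ Nat.card (QQ P₁) = 8 ∧ Nat.card (QQ P₂) = 8)

theorem le_normalizer_of_comm {P N : Subgroup G} (h : ∀ n ∈ N, n ∈ centralizer (P : Set G)) :
    P ≤ normalizer (N : Set G) := by
  refine le_trans ?_ (centralizer_le_normalizer (N : Set G))
  intro g hg
  rw [mem_centralizer_iff]
  intro n hn
  exact ((mem_centralizer_iff.1 (h n hn)) g hg).symm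

theorem orders [Finite G] (hl : Loc1St G) {P₁ P₂ T : Subgroup G} (h : BHyp P₁ P₂ T)
    (he₁ : ∀ g ∈ pCoreOf 2 P₁, g * g = 1) (he₂ : ∀ g ∈ pCoreOf 2 P₂, g * g = 1) :
    ∃ t₁ t₂ D, Out P₁ P₂ T t₁ t₂ D := by
  have L₁ := hl P₁ T h.syl₁ h.h6₁ h.hchar₁ h.hZ₁
  have L₂ := hl P₂ T h.syl₂ h.h6₂ h.hchar₂ h.hZ₂
  obtain ⟨hQ₁T, hi₁, -⟩ := indices h.syl₁ h.h6₁
  obtain ⟨hQ₂T, hi₂, -⟩ := indices h.syl₂ h.h6₂
  have hne : QQ P₁ ≠ QQ P₂ := by
    intro he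
    apply QQ_ne_bot h.h6₁ h.hchar₁
    apply h.hcore _ hQ₁T (le_normalizer_pCoreOf 2 P₁)
    rw [he]
    exact le_normalizer_pCoreOf 2 P₂
  obtain ⟨t₁, ht₁, ht₁'⟩ := SetLike.not_le_iff_exists.1 (not_le_of_relIndex_two hQ₂T hi₁ hi₂ hne)
  obtain ⟨t₂, ht₂, ht₂'⟩ := SetLike.not_le_iff_exists.1 (not_le_of_relIndex_two hQ₁T hi₂ hi₁ hne.symm)
  have S₁ : Sit P₁ T t₂ := ⟨L₁, h.h6₁, h.hchar₁, he₁, hQ₂T ht₂, ht₂', he₂ t₂ ht₂⟩
  have S₂ : Sit P₂ T t₁ := ⟨L₂, h.h6₂, h.hchar₂, he₂, hQ₁T ht₁, ht₁', he₁ t₁ ht₁⟩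
  set D := QQ P₁ ⊓ QQ P₂ with hD
  have D₁ : D ≤ QQ P₁ := inf_le_left
  have D₂ : D ≤ QQ P₂ := inf_le_right
  have i₁ : D.relIndex (QQ P₁) = 2 := relIndex_inf_two hQ₁T hQ₂T hi₁ hi₂ hne
  have i₂ : D.relIndex (QQ P₂) = 2 := by
    rw [hD, inf_comm]
    exact relIndex_inf_two hQ₂T hQ₁T hi₂ hi₁ hne.symm
  have c₁ : ∀ x ∈ D, t₂ * x = x * t₂ := fun x hx => S₂.comm ht₂ (D₂ hx)
  have c₂ : ∀ x ∈ D, t₁ * x = x * t₁ := fun x hx => S₁.comm ht₁ (D₁ hx)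
  obtain ⟨hC₁, j₁⟩ := S₁.CP_le_and_relIndex D₁ i₁ c₁
  obtain ⟨hC₂, j₂⟩ := S₂.CP_le_and_relIndex D₂ i₂ c₂
  have hbot : CP P₁ ⊓ CP P₂ = ⊥ := by
    apply h.hcore _ ((inf_le_left.trans hC₁).trans (D₁.trans hQ₁T))
    · exact le_normalizer_of_comm (fun n hn => hn.1.2)
    · exact le_normalizer_of_comm (fun n hn => hn.2.2)
  have k₁ := card_mul_relIndex' hC₁
  have k₂ := card_mul_relIndex' hC₂
  have m₁ := card_mul_relIndex' D₁
  have m₂ := card_mul_relIndex' D₂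
  rw [j₁] at k₁
  rw [j₂] at k₂
  rw [i₁] at m₁
  rw [i₂] at m₂
  refine ⟨t₁, t₂, D, S₁, S₂, D₁, D₂, i₁, i₂, c₁, c₂, ?_⟩
  by_cases hCC : CP P₁ = CP P₂
  · left
    have hb : CP P₁ = ⊥ := by
      rw [← hbot, ← hCC, inf_idem]
    have hb2 : CP P₂ = ⊥ := hCC ▸ hb
    have e1 : Nat.card (CP P₁) = 1 := by rw [hb]; exact card_bot
    have e2 : Nat.card (CP P₂) = 1 := by rw [hb2]; exact card_bot
    refine ⟨e1, e2, ?_, ?_⟩ <;> omega
  · right
    have e := relIndex_inf_two hC₁ hC₂ j₁ j₂ hCC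
    rw [hbot, relIndex_bot_left] at e
    refine ⟨e, ?_, ?_, ?_⟩ <;> omega

end Cfsg.Agent.Lib.Helper36.BA
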