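import Mathlib

namespace Cfsg.Agent.Lib.Helper36.BSW

/-- normalisers grow inside a finite `p`-subgroup. -/
lemma exists_normalizing {G : Type*} [Group G] [Finite G] (p : ℕ) [Fact p.Prime]
    {P V : Subgroup G} (hP : IsPGroup p P) (hVP : V < P) :
    ∃ x ∈ P, x ∈ Subgroup.normalizer (V : Set G) ∧ x ∉ V := by
  have : Group.IsNilpotent P := hP.isNilpotent
  have hnc : NormalizerCondition P := Group.normalizerCondition_of_isNilpotent
  have hlt : V.subgroupOf P < ⊤ := by
    rw [lt_top_iff_ne_top]
    intro h
    rw [Subgroup.subgroupOf_eq_top] at h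
    exact absurd h (not_le_of_gt hVP)
  have h1 := hnc _ hlt
  obtain ⟨x, hxN, hxV⟩ := SetLike.exists_of_lt h1
  refine ⟨x.1, x.2, ?_, fun h => hxV (Subgroup.mem_subgroupOf.mpr h)⟩
  rw [Subgroup.mem_normalizer_iff] at hxN ⊢
  intro v
  constructor
  · intro hv
    have := (hxN ⟨v, hVP.le hv⟩).mp (Subgroup.mem_subgroupOf.mpr hv)
    exact Subgroup.mem_subgroupOf.mp this
  · intro hv
    have hvP : v ∈ P := by
      have h2 : x.1⁻¹ * (x.1 * v * x.1⁻¹) * x.1 ∈ P :=
        P.mul_mem (P.mul_mem (P.inv_mem x.2) (hVP.le hv)) x.2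
      have h3 : x.1⁻¹ * (x.1 * v * x.1⁻¹) * x.1 = v := by group
      rwa [h3] at h2
    have := (hxN ⟨v, hvP⟩).mpr (Subgroup.mem_subgroupOf.mpr hv)
    exact Subgroup.mem_subgroupOf.mp this

theorem sylow_ti_of_local {G : Type*} [Group G] [Finite G] (p : ℕ) [Fact p.Prime]
    (h : ∀ V : Subgroup G, IsPGroup p V → V ≠ ⊥ →
      ∀ S S' : Sylow p (Subgroup.normalizer (V : Set G)), S = S') :
    ∀ P P' : Sylow p G, P ≠ P' → (P : Subgroup G) ⊓ P' = ⊥ := by
  classical
  -- strong downward induction on the order of the intersection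
  have key : ∀ n : ℕ, ∀ P P' : Sylow p G, P ≠ P' →
      Nat.card G - Nat.card ((P : Subgroup G) ⊓ P' : Subgroup G) = n →
      (P : Subgroup G) ⊓ P' = ⊥ := by
    intro n
    induction n using Nat.strong_induction_on with
    | _ n ih =>
      intro P P' hne hn
      by_contra hV
      set V : Subgroup G := (P : Subgroup G) ⊓ P' with hVdef
      have hVp : IsPGroup p V := P.2.to_le inf_le_left
      have hVP : V < P := by
        refine lt_of_le_of_ne inf_le_left ?_
        intro heq
        have hle : (P : Subgroup G) ≤ P' := by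
          rw [← heq]; exact inf_le_right
        exact hne (Sylow.ext (P.3 P'.2 hle).symm)
      have hVP' : V < P' := by
        refine lt_of_le_of_ne inf_le_right ?_
        intro heq
        have hle : (P' : Subgroup G) ≤ P := by
          rw [← heq]; exact inf_le_left
        exact hne (Sylow.ext (P'.3 P.2 hle))
      obtain ⟨x, hxP, hxN, hxV⟩ := exists_normalizing p P.2 hVP
      obtain ⟨y, hyP, hyN, hyV⟩ := exists_normalizing p P'.2 hVP'
      set N : Subgroup G := Subgroup.normalizer (V : Set G) with hN
      have hVN : V ≤ N := Subgroup.le_normalizer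
      -- the p-subgroups P ⊓ N, P' ⊓ N of N
      have h1 : IsPGroup p ((P : Subgroup G).subgroupOf N) :=
        P.2.comap_of_injective N.subtype N.subtype_injective
      have h2 : IsPGroup p ((P' : Subgroup G).subgroupOf N) :=
        P'.2.comap_of_injective N.subtype N.subtype_injective
      obtain ⟨S, hS⟩ := h1.exists_le_sylow
      obtain ⟨S', hS'⟩ := h2.exists_le_sylow
      have hSS : S = S' := h V hVp hV S S'
      have h3 : IsPGroup p ((S : Subgroup N).map N.subtype) := S.2.map _
      obtain ⟨R, hR⟩ := h3.exists_le_sylow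
      have hmemR : ∀ z ∈ N, z ∈ (P : Subgroup G) → z ∈ (R : Subgroup G) := by
        intro z hzN hzP
        apply hR
        exact ⟨⟨z, hzN⟩, hS (Subgroup.mem_subgroupOf.mpr hzP), rfl⟩
      have hmemR' : ∀ z ∈ N, z ∈ (P' : Subgroup G) → z ∈ (R : Subgroup G) := by
        intro z hzN hzP
        apply hR
        refine ⟨⟨z, hzN⟩, ?_, rfl⟩
        rw [hSS]
        exact hS' (Subgroup.mem_subgroupOf.mpr hzP)
      have hcardle : ∀ W : Subgroup G, Nat.card W ≤ Nat.card G := fun W =>
        Subgroup.card_le_card_group W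
      -- P = R
      have hPR : P = R := by
        by_contra hPR
        have hlt : V < (P : Subgroup G) ⊓ R := by
          refine lt_of_le_of_ne ?_ ?_
          · intro z hz
            exact ⟨hVP.le hz, hmemR z (hVN hz) (hVP.le hz)⟩
          · intro heq
            apply hxV
            rw [heq]
            exact ⟨hxP, hmemR x hxN hxP⟩
        have hc : Nat.card V < Nat.card ((P : Subgroup G) ⊓ R : Subgroup G) :=
          Set.ncard_lt_ncard (SetLike.coe_ssubset_coe.mpr hlt) (Set.toFinite _)
        have := ih (Nat.card G - Nat.card ((P : Subgroup G) ⊓ R : Subgroup G))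
          (by have := hcardle ((P : Subgroup G) ⊓ R); omega) P R hPR rfl
        rw [this] at hlt
        exact absurd hlt (not_lt_bot)
      have hPR' : P' = R := by
        by_contra hPR'
        have hlt : V < (P' : Subgroup G) ⊓ R := by
          refine lt_of_le_of_ne ?_ ?_
          · intro z hz
            exact ⟨hVP'.le hz, hmemR' z (hVN hz) (hVP'.le hz)⟩
          · intro heq
            apply hyV
            rw [heq]
            exact ⟨hyP, hmemR' y hyN hyP⟩
        have hc : Nat.card V < Nat.card ((P' : Subgroup G) ⊓ R : Subgroup G) :=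
          Set.ncard_lt_ncard (SetLike.coe_ssubset_coe.mpr hlt) (Set.toFinite _)
        have := ih (Nat.card G - Nat.card ((P' : Subgroup G) ⊓ R : Subgroup G))
          (by have := hcardle ((P' : Subgroup G) ⊓ R); omega) P' R hPR' rfl
        rw [this] at hlt
        exact absurd hlt (not_lt_bot)
      exact hne (hPR.trans hPR'.symm)
  intro P P' hne
  exact key _ P P' hne rfl

end Cfsg.Agent.Lib.Helper36.BSW
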