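import Mathlib

set_option autoImplicit false

namespace Cfsg.Agent.Lib.Helper36

open Subgroup

open scoped IsMulCommutative in
/-- a group of prime order embeds in the units of the complex numbers -/
theorem exists_injective_hom_of_prime_card {Z : Type*} [Group Z] [IsMulCommutative Z] {p : ℕ}
    [hp : Fact p.Prime] (hcard : Nat.card Z = p) :
    ∃ ι : Z →* ℂˣ, Function.Injective ι := by
  have : Finite Z := Nat.finite_of_card_ne_zero (by rw [hcard]; exact hp.out.ne_zero)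
  have : Nontrivial Z := by
    rw [← Finite.one_lt_card_iff_nontrivial, hcard]; exact hp.out.one_lt
  obtain ⟨a, ha⟩ := exists_ne (1 : Z)
  obtain ⟨φ, hφ⟩ := CommGroup.exists_apply_ne_one_of_hasEnoughRootsOfUnity Z ℂ ha
  refine ⟨φ, ?_⟩
  rw [← MonoidHom.ker_eq_bot_iff]
  have : Fact (Nat.card Z).Prime := ⟨by rw [hcard]; exact hp.out⟩
  rcases Subgroup.eq_bot_or_eq_top_of_prime_card φ.ker with h | h
  · exact h
  · exfalso
    apply hφ
    have : a ∈ φ.ker := by rw [h]; trivial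
    exact this

theorem card_hom_units_complex (E : Type*) [Group E] [Finite E] :
    Nat.card (E →* ℂˣ) = Nat.card (E ⧸ commutator E) := by
  rw [Nat.card_congr (Abelianization.lift (G := E) (A := ℂˣ))]
  exact CommGroup.card_monoidHom_of_hasEnoughRootsOfUnity (Abelianization E) ℂ

/-- In a finite group `E` whose commutator subgroup equals the centre, of prime order, every
endomorphism inducing the identity modulo the centre is an inner automorphism. -/
theorem exists_conj_of_central_endo {E : Type*} [Group E] [Finite E] {p : ℕ} [hp : Fact p.Prime]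
    (hcomm : commutator E = center E) (hcard : Nat.card (center E) = p)
    (φ : E →* E) (hφ : ∀ x : E, φ x * x⁻¹ ∈ center E) :
    ∃ g : E, ∀ x : E, φ x = g * x * g⁻¹ := by
  obtain ⟨ι, hι⟩ := exists_injective_hom_of_prime_card (Z := center E) hcard
  have hc : ∀ u x : E, u * x * u⁻¹ * x⁻¹ ∈ center E := by
    intro u x
    rw [← hcomm]
    exact Subgroup.commutator_mem_commutator (mem_top u) (mem_top x)
  -- the commutator pairing
  let c₀ : E → (E →* ℂˣ) := fun u =>
    MonoidHom.mk' (fun x => ι ⟨u * x * u⁻¹ * x⁻¹, hc u x⟩) (by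
      intro x y
      rw [← map_mul]
      congr 1
      apply Subtype.ext
      have h1 := (mem_center_iff.mp (hc u y)) x⁻¹
      change u * (x * y) * u⁻¹ * (x * y)⁻¹ = (u * x * u⁻¹ * x⁻¹) * (u * y * u⁻¹ * y⁻¹)
      calc u * (x * y) * u⁻¹ * (x * y)⁻¹
          = (u * x * u⁻¹) * ((u * y * u⁻¹ * y⁻¹) * x⁻¹) := by group
        _ = (u * x * u⁻¹) * (x⁻¹ * (u * y * u⁻¹ * y⁻¹)) := by rw [h1]
        _ = (u * x * u⁻¹ * x⁻¹) * (u * y * u⁻¹ * y⁻¹) := by group)
  have hc₀ : ∀ u x, c₀ u x = ι ⟨u * x * u⁻¹ * x⁻¹, hc u x⟩ := fun u x => rfl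
  let c : E →* (E →* ℂˣ) := MonoidHom.mk' c₀ (by
    intro u v
    ext x
    rw [MonoidHom.mul_apply, hc₀, hc₀, hc₀, ← map_mul]
    congr 2
    apply Subtype.ext
    have h1 := (mem_center_iff.mp (hc v x)) u
    change u * v * x * (u * v)⁻¹ * x⁻¹ = (u * x * u⁻¹ * x⁻¹) * (v * x * v⁻¹ * x⁻¹)
    have h2 := (mem_center_iff.mp (hc v x)) (u * x * u⁻¹ * x⁻¹)
    calc u * v * x * (u * v)⁻¹ * x⁻¹
        = (u * (v * x * v⁻¹ * x⁻¹)) * x * u⁻¹ * x⁻¹ := by group
      _ = ((v * x * v⁻¹ * x⁻¹) * u) * x * u⁻¹ * x⁻¹ := by rw [h1]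
      _ = (v * x * v⁻¹ * x⁻¹) * (u * x * u⁻¹ * x⁻¹) := by group
      _ = (u * x * u⁻¹ * x⁻¹) * (v * x * v⁻¹ * x⁻¹) := h2.symm)
  have hcapp : ∀ u x, c u x = ι ⟨u * x * u⁻¹ * x⁻¹, hc u x⟩ := fun u x => rfl
  have hker : c.ker = center E := by
    ext u
    rw [MonoidHom.mem_ker, mem_center_iff]
    constructor
    · intro h x
      have h1 : c u x = 1 := by rw [h]; rfl
      rw [hcapp, ← map_one ι] at h1
      have h2 := congrArg Subtype.val (hι h1)
      have h3 : u * x * u⁻¹ * x⁻¹ = 1 := h2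
      calc x * u = (u * x * u⁻¹ * x⁻¹)⁻¹ * (u * x) := by group
        _ = u * x := by rw [h3]; group
    · intro h
      ext x
      rw [hcapp]
      have : (⟨u * x * u⁻¹ * x⁻¹, hc u x⟩ : center E) = 1 := by
        apply Subtype.ext
        change u * x * u⁻¹ * x⁻¹ = 1
        rw [← h x]; group
      rw [this, map_one]; rfl
  have hfin : Finite (E →* ℂˣ) := by
    apply Nat.finite_of_card_ne_zero
    rw [card_hom_units_complex]
    exact Nat.card_pos.ne'
  have hbij : Function.Bijective (QuotientGroup.kerLift c) := by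
    apply (QuotientGroup.kerLift_injective c).bijective_of_nat_card_le
    rw [card_hom_units_complex, hker, hcomm]
  let lam : E →* ℂˣ := MonoidHom.mk' (fun x => ι ⟨φ x * x⁻¹, hφ x⟩) (by
    intro x y
    rw [← map_mul]
    congr 1
    apply Subtype.ext
    have h1 := (mem_center_iff.mp (hφ y)) x⁻¹
    change φ (x * y) * (x * y)⁻¹ = (φ x * x⁻¹) * (φ y * y⁻¹)
    rw [map_mul]
    calc φ x * φ y * (x * y)⁻¹ = φ x * ((φ y * y⁻¹) * x⁻¹) := by group
      _ = φ x * (x⁻¹ * (φ y * y⁻¹)) := by rw [h1]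
      _ = (φ x * x⁻¹) * (φ y * y⁻¹) := by group)
  obtain ⟨q, hq⟩ := hbij.2 lam
  obtain ⟨g, rfl⟩ := QuotientGroup.mk_surjective q
  refine ⟨g, fun x => ?_⟩
  have h1 : c g x = lam x := by
    rw [← hq]; rfl
  have h2 : lam x = ι ⟨φ x * x⁻¹, hφ x⟩ := rfl
  rw [hcapp, h2] at h1
  have h3 : g * x * g⁻¹ * x⁻¹ = φ x * x⁻¹ := congrArg Subtype.val (hι h1)
  exact (mul_right_cancel h3).symm

end Cfsg.Agent.Lib.Helper36
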