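import Cfsg.Agent.Lib.Helper99.SP4O.Defs
import Cfsg.Agent.Lib.Helper99.SP4O.E5CARD
import Cfsg.Agent.Lib.Helper99.SP4O.E5ANTI

set_option autoImplicit false
set_option linter.unusedVariables false

namespace Cfsg.Agent.Lib.Helper99.SP4O

open Cfsg Cfsg.Geo
open Cfsg.Agent.Lib.Helper80.AS
open Cfsg.Agent.Lib.Helper77.Asch (NormBy MinOver)
open scoped MatrixGroups Matrix Kronecker

variable {ι : Type} [Fintype ι] [DecidableEq ι] {F : Type*} [Field F]

/-- correct `g` by `1` or `y` so that it commutes with `x`. -/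
theorem e5gen_fix (g x y : GL ι F) (hg : g * x = x * g ∨ g * x = -(x * g)) (hxy : x * y = -(y * x)) :
    ∃ w : GL ι F, (w = 1 ∨ w = y) ∧ (g * w) * x = x * (g * w) := by
  rcases hg with h | h
  · exact ⟨1, Or.inl rfl, by rw [mul_one, h]⟩
  · refine ⟨y, Or.inr rfl, ?_⟩
    have hyx : y * x = -(x * y) := by rw [hxy, neg_neg]
    calc g * y * x = g * (y * x) := by rw [mul_assoc]
      _ = -(g * x * y) := by rw [hyx, mul_neg, mul_assoc]
      _ = x * (g * y) := by rw [h, neg_mul, neg_neg, mul_assoc]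

theorem e5gen_half {G : Type*} [Group G] [Finite G] (A B : Subgroup G) (hAB : A ≤ B) (x : G)
    (hxB : x ∈ B) (hxA : x ∉ A) : 2 * Nat.card A ≤ Nat.card B := by
  obtain ⟨k, hk⟩ := Subgroup.card_dvd_of_le hAB
  have hB : 0 < Nat.card B := Nat.card_pos
  have hA : 0 < Nat.card A := Nat.card_pos
  rcases Nat.lt_or_ge k 2 with h | h
  · exfalso
    interval_cases k
    · omega
    · apply hxA
      have : A = B := Subgroup.eq_of_le_of_card_ge hAB (by omega)
      rw [this]; exact hxB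
  · rw [hk, mul_comm]
    exact Nat.mul_le_mul_left _ h

theorem e5gen_not_comm [Nonempty ι] (h2 : (2 : F) ≠ 0) (x y : GL ι F) (h : x * y = -(y * x)) :
    x * y ≠ y * x := by
  intro h'
  rw [h'] at h
  apply e5anti_one_ne (ι := ι) h2
  have : (y * x) * 1 = (y * x) * (-1) := by rw [mul_one, mul_neg, mul_one]; exact h
  exact mul_left_cancel this

/-- the generation half of E5GEN. -/
theorem e5gen_closure [Fintype F] (h2 : (2 : F) ≠ 0) (hcard : Fintype.card ι = 4)
    (f : (ι → F) → (ι → F) → F) (hf : IsSymplecticForm f) (R : Subgroup (GL ι F)) (hR : IsEx5 f R)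
    (a b c d : GL ι F) (ha : a ∈ R) (hb : b ∈ R) (hc : c ∈ R) (hd : d ∈ R)
    (hab : a * b = -(b * a)) (hcd : c * d = -(d * c)) (hac : a * c = c * a) (had : a * d = d * a)
    (hbc : b * c = c * b) (hbd : b * d = d * b) : R ≤ Subgroup.closure {a, b, c, d, -1} := by
  classical
  have hne : Nonempty ι := by
    rw [← Fintype.card_pos_iff, hcard]; norm_num
  have hba : b * a = -(a * b) := by rw [hab, neg_neg]
  have hdc : d * c = -(c * d) := by rw [hcd, neg_neg]
  obtain ⟨H, hH⟩ : ∃ H : Subgroup (GL ι F), H = Subgroup.closure {a, b, c, d, -1} := ⟨_, rfl⟩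
  rw [← hH]
  have haH : a ∈ H := by rw [hH]; exact Subgroup.subset_closure (by simp)
  have hbH : b ∈ H := by rw [hH]; exact Subgroup.subset_closure (by simp)
  have hcH : c ∈ H := by rw [hH]; exact Subgroup.subset_closure (by simp)
  have hdH : d ∈ H := by rw [hH]; exact Subgroup.subset_closure (by simp)
  have hnH : (-1 : GL ι F) ∈ H := by rw [hH]; exact Subgroup.subset_closure (by simp)
  -- the chain of centralisers
  have m1 : 2 * Nat.card (R ⊓ Subgroup.centralizer {a} : Subgroup (GL ι F)) ≤ Nat.card R :=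
    e5gen_half _ _ inf_le_left b hb (fun h => by
      have := Subgroup.mem_centralizer_singleton_iff.mp (Subgroup.mem_inf.mp h).2
      exact e5gen_not_comm h2 b a hba this)
  have m2 : 2 * Nat.card (R ⊓ Subgroup.centralizer {a} ⊓ Subgroup.centralizer {b} :
      Subgroup (GL ι F)) ≤ Nat.card (R ⊓ Subgroup.centralizer {a} : Subgroup (GL ι F)) :=
    e5gen_half _ _ inf_le_left a
      (Subgroup.mem_inf.mpr ⟨ha, Subgroup.mem_centralizer_singleton_iff.mpr rfl⟩) (fun h => by
      have := Subgroup.mem_centralizer_singleton_iff.mp (Subgroup.mem_inf.mp h).2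
      exact e5gen_not_comm h2 a b hab this)
  have m3 : 2 * Nat.card (R ⊓ Subgroup.centralizer {a} ⊓ Subgroup.centralizer {b}
      ⊓ Subgroup.centralizer {c} : Subgroup (GL ι F))
      ≤ Nat.card (R ⊓ Subgroup.centralizer {a} ⊓ Subgroup.centralizer {b} : Subgroup (GL ι F)) :=
    e5gen_half _ _ inf_le_left d
      (Subgroup.mem_inf.mpr ⟨Subgroup.mem_inf.mpr ⟨hd,
        Subgroup.mem_centralizer_singleton_iff.mpr had.symm⟩,
        Subgroup.mem_centralizer_singleton_iff.mpr hbd.symm⟩) (fun h => by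
      have := Subgroup.mem_centralizer_singleton_iff.mp (Subgroup.mem_inf.mp h).2
      exact e5gen_not_comm h2 d c hdc this)
  have m4 : 2 * Nat.card (R ⊓ Subgroup.centralizer {a} ⊓ Subgroup.centralizer {b}
      ⊓ Subgroup.centralizer {c} ⊓ Subgroup.centralizer {d} : Subgroup (GL ι F))
      ≤ Nat.card (R ⊓ Subgroup.centralizer {a} ⊓ Subgroup.centralizer {b}
      ⊓ Subgroup.centralizer {c} : Subgroup (GL ι F)) :=
    e5gen_half _ _ inf_le_left c
      (Subgroup.mem_inf.mpr ⟨Subgroup.mem_inf.mpr ⟨Subgroup.mem_inf.mpr ⟨hc,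
        Subgroup.mem_centralizer_singleton_iff.mpr hac.symm⟩,
        Subgroup.mem_centralizer_singleton_iff.mpr hbc.symm⟩,
        Subgroup.mem_centralizer_singleton_iff.mpr rfl⟩) (fun h => by
      have := Subgroup.mem_centralizer_singleton_iff.mp (Subgroup.mem_inf.mp h).2
      exact e5gen_not_comm h2 c d hcd this)
  have h32 : Nat.card R = 32 := (ex5_card h2 hcard f hf R hR).1
  have hK2 : Nat.card (R ⊓ Subgroup.centralizer {a} ⊓ Subgroup.centralizer {b}
      ⊓ Subgroup.centralizer {c} ⊓ Subgroup.centralizer {d} : Subgroup (GL ι F)) ≤ 2 := by omega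
  have hord : orderOf (-1 : GL ι F) = 2 := by
    apply orderOf_eq_prime
    · simp
    · exact fun h => e5anti_one_ne (ι := ι) h2 h.symm
  have hZK : Subgroup.zpowers (-1 : GL ι F) ≤ R ⊓ Subgroup.centralizer {a} ⊓ Subgroup.centralizer {b}
      ⊓ Subgroup.centralizer {c} ⊓ Subgroup.centralizer {d} := by
    rw [Subgroup.zpowers_le]
    refine Subgroup.mem_inf.mpr ⟨Subgroup.mem_inf.mpr ⟨Subgroup.mem_inf.mpr ⟨Subgroup.mem_inf.mpr
      ⟨hR.neg, ?_⟩, ?_⟩, ?_⟩, ?_⟩ <;>
    · rw [Subgroup.mem_centralizer_singleton_iff]; simp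
  have hKeq := Subgroup.eq_of_le_of_card_ge hZK (by rw [Nat.card_zpowers, hord]; exact hK2)
  have hKH : (R ⊓ Subgroup.centralizer {a} ⊓ Subgroup.centralizer {b}
      ⊓ Subgroup.centralizer {c} ⊓ Subgroup.centralizer {d} : Subgroup (GL ι F)) ≤ H := by
    rw [← hKeq, Subgroup.zpowers_le]; exact hnH
  -- reduction
  intro g hg
  obtain ⟨w1, hw1, e1⟩ := e5gen_fix g a b (hR.comm g hg a ha) hab
  have hw1R : w1 ∈ R := by rcases hw1 with rfl | rfl; exacts [R.one_mem, hb]
  have hw1H : w1 ∈ H := by rcases hw1 with rfl | rfl; exacts [H.one_mem, hbH]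
  obtain ⟨w2, hw2, e2⟩ := e5gen_fix (g * w1) b a (hR.comm _ (R.mul_mem hg hw1R) b hb) hba
  have hw2R : w2 ∈ R := by rcases hw2 with rfl | rfl; exacts [R.one_mem, ha]
  have hw2H : w2 ∈ H := by rcases hw2 with rfl | rfl; exacts [H.one_mem, haH]
  have hw2a : w2 * a = a * w2 := by rcases hw2 with rfl | rfl <;> simp
  obtain ⟨w3, hw3, e3⟩ := e5gen_fix (g * w1 * w2) c d
    (hR.comm _ (R.mul_mem (R.mul_mem hg hw1R) hw2R) c hc) hcd
  have hw3R : w3 ∈ R := by rcases hw3 with rfl | rfl; exacts [R.one_mem, hd]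
  have hw3H : w3 ∈ H := by rcases hw3 with rfl | rfl; exacts [H.one_mem, hdH]
  have hw3a : w3 * a = a * w3 := by
    rcases hw3 with rfl | rfl
    · simp
    · exact had.symm
  have hw3b : w3 * b = b * w3 := by
    rcases hw3 with rfl | rfl
    · simp
    · exact hbd.symm
  obtain ⟨w4, hw4, e4⟩ := e5gen_fix (g * w1 * w2 * w3) d c
    (hR.comm _ (R.mul_mem (R.mul_mem (R.mul_mem hg hw1R) hw2R) hw3R) d hd) hdc
  have hw4R : w4 ∈ R := by rcases hw4 with rfl | rfl; exacts [R.one_mem, hc]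
  have hw4H : w4 ∈ H := by rcases hw4 with rfl | rfl; exacts [H.one_mem, hcH]
  have hw4a : w4 * a = a * w4 := by
    rcases hw4 with rfl | rfl
    · simp
    · exact hac.symm
  have hw4b : w4 * b = b * w4 := by
    rcases hw4 with rfl | rfl
    · simp
    · exact hbc.symm
  have hw4c : w4 * c = c * w4 := by rcases hw4 with rfl | rfl <;> simp
  have step : ∀ (u w x : GL ι F), u * x = x * u → w * x = x * w → (u * w) * x = x * (u * w) := by
    intro u w x h1 h2
    rw [mul_assoc, h2, ← mul_assoc, h1, mul_assoc]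
  have ka : (g * w1 * w2 * w3 * w4) * a = a * (g * w1 * w2 * w3 * w4) :=
    step _ _ _ (step _ _ _ (step _ _ _ e1 hw2a) hw3a) hw4a
  have kb : (g * w1 * w2 * w3 * w4) * b = b * (g * w1 * w2 * w3 * w4) :=
    step _ _ _ (step _ _ _ e2 hw3b) hw4b
  have kc : (g * w1 * w2 * w3 * w4) * c = c * (g * w1 * w2 * w3 * w4) :=
    step _ _ _ e3 hw4c
  have hk : g * w1 * w2 * w3 * w4 ∈ H := by
    apply hKH
    exact Subgroup.mem_inf.mpr ⟨Subgroup.mem_inf.mpr ⟨Subgroup.mem_inf.mpr ⟨Subgroup.mem_inf.mpr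
      ⟨R.mul_mem (R.mul_mem (R.mul_mem (R.mul_mem hg hw1R) hw2R) hw3R) hw4R,
      Subgroup.mem_centralizer_singleton_iff.mpr ka⟩,
      Subgroup.mem_centralizer_singleton_iff.mpr kb⟩,
      Subgroup.mem_centralizer_singleton_iff.mpr kc⟩,
      Subgroup.mem_centralizer_singleton_iff.mpr e4⟩
  have : g = (g * w1 * w2 * w3 * w4) * (w4⁻¹ * w3⁻¹ * w2⁻¹ * w1⁻¹) := by group
  rw [this]
  exact H.mul_mem hk (H.mul_mem (H.mul_mem (H.mul_mem (H.inv_mem hw4H) (H.inv_mem hw3H))
    (H.inv_mem hw2H)) (H.inv_mem hw1H))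

end Cfsg.Agent.Lib.Helper99.SP4O
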