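import Mathlib.GroupTheory.PGroup
import Mathlib.GroupTheory.Commutator.Basic
import Mathlib.GroupTheory.Index
import Mathlib.SetTheory.Cardinal.Finite

set_option autoImplicit false

namespace Cfsg.Agent.Lib.Helper36

open scoped commutatorElement

/-- membership in a conjugate subgroup -/
theorem mem_map_conj {G : Type*} [Group G] (B : Subgroup G) (g x : G) :
    x ∈ B.map (MulAut.conj g).toMonoidHom ↔ g⁻¹ * x * g ∈ B := by
  constructor
  · rintro ⟨b, hb, rfl⟩
    have : g⁻¹ * ((MulAut.conj g).toMonoidHom b) * g = b := by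
      simp [MulAut.conj_apply, mul_assoc]
    rw [this]; exact hb
  · intro h
    refine ⟨g⁻¹ * x * g, h, ?_⟩
    simp [MulAut.conj_apply, mul_assoc]

theorem conj_mem_map_conj {G : Type*} [Group G] (B : Subgroup G) (g b : G) (hb : b ∈ B) :
    g * b * g⁻¹ ∈ B.map (MulAut.conj g).toMonoidHom :=
  ⟨b, hb, by simp [MulAut.conj_apply]⟩

theorem map_conj_eq_iff_mem_normalizer {G : Type*} [Group G] (B : Subgroup G) (g : G) :
    B.map (MulAut.conj g).toMonoidHom = B ↔ g ∈ Subgroup.normalizer (B : Set G) := by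
  rw [Subgroup.mem_normalizer_iff]
  constructor
  · intro h x
    constructor
    · intro hx
      rw [← h]
      exact conj_mem_map_conj B g x hx
    · intro hx
      rw [← h, mem_map_conj] at hx
      simpa [mul_assoc] using hx
  · intro h
    ext x
    rw [mem_map_conj, h (g⁻¹ * x * g)]
    simp [mul_assoc]

/-- If `B` normalizes `A`, `|A| ≤ |B|`, `A ∩ B = 1` and every `A`-conjugate of `B` equals `B` or
meets it trivially, then `A` and `B` commute. -/
theorem commutator_eq_bot_of_le_normalizer {G : Type*} [Group G] [Finite G] (A B : Subgroup G)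
    (hBti : ∀ a ∈ A, B.map (MulAut.conj a).toMonoidHom = B ∨
      B.map (MulAut.conj a).toMonoidHom ⊓ B = ⊥)
    (hle : Nat.card ↥A ≤ Nat.card ↥B) (hAB : A ⊓ B = ⊥)
    (hN : B ≤ Subgroup.normalizer (A : Set G)) : ⁅A, B⁆ = ⊥ := by
  have hAN : ∀ a ∈ A, B.map (MulAut.conj a).toMonoidHom = B := by
    intro a ha
    rcases hBti a ha with h | h
    · exact h
    · -- counting argument
      let φ : B × B → A × B := fun bb =>
        (⟨a * (bb.1 * a⁻¹ * bb.1⁻¹), A.mul_mem ha
            (((Subgroup.mem_normalizer_iff.mp (hN bb.1.2)) a⁻¹).mp (A.inv_mem ha))⟩,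
          bb.1 * bb.2)
      have hφ : Function.Injective φ := by
        rintro ⟨b1, y1⟩ ⟨b2, y2⟩ heq
        have h1 : a * ((b1 : G) * a⁻¹ * (b1 : G)⁻¹) = a * ((b2 : G) * a⁻¹ * (b2 : G)⁻¹) :=
          congrArg (fun z : A × B => (z.1 : G)) heq
        have h2 : (b1 : G) * y1 = b2 * y2 := congrArg (fun z : A × B => (z.2 : G)) heq
        have h3 : a * ((b2 : G)⁻¹ * b1) * a⁻¹ = (b2 : G)⁻¹ * b1 := by
          have h4 : (b1 : G) * a⁻¹ * (b1 : G)⁻¹ = (b2 : G) * a⁻¹ * (b2 : G)⁻¹ :=
            mul_left_cancel h1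
          have h5 : (b2 : G)⁻¹ * b1 * a⁻¹ = a⁻¹ * ((b2 : G)⁻¹ * b1) := by
            calc (b2 : G)⁻¹ * b1 * a⁻¹ = (b2 : G)⁻¹ * ((b1 : G) * a⁻¹ * (b1 : G)⁻¹) * b1 := by
                  group
              _ = (b2 : G)⁻¹ * ((b2 : G) * a⁻¹ * (b2 : G)⁻¹) * b1 := by rw [h4]
              _ = a⁻¹ * ((b2 : G)⁻¹ * b1) := by group
          calc a * ((b2 : G)⁻¹ * b1) * a⁻¹ = a * ((b2 : G)⁻¹ * b1 * a⁻¹) := by group
            _ = a * (a⁻¹ * ((b2 : G)⁻¹ * b1)) := by rw [h5]
            _ = (b2 : G)⁻¹ * b1 := by group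
        have hmemB : (b2 : G)⁻¹ * b1 ∈ B := B.mul_mem (B.inv_mem b2.2) b1.2
        have hmem : (b2 : G)⁻¹ * b1 ∈ B.map (MulAut.conj a).toMonoidHom ⊓ B := by
          refine ⟨?_, hmemB⟩
          rw [← h3]
          exact conj_mem_map_conj B a _ hmemB
        rw [h, Subgroup.mem_bot] at hmem
        have hb : (b1 : G) = b2 := by
          have := inv_mul_eq_one.mp hmem
          exact this.symm
        have hy : (y1 : G) = y2 := by
          rw [hb] at h2
          exact mul_left_cancel h2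
        exact Prod.ext (Subtype.ext hb) (Subtype.ext hy)
      have hcard : Nat.card (A × B) ≤ Nat.card (B × B) := by
        rw [Nat.card_prod, Nat.card_prod]
        exact Nat.mul_le_mul_right _ hle
      have hbij := hφ.bijective_of_nat_card_le hcard
      obtain ⟨⟨b1, y⟩, hby⟩ := hbij.2 (⟨a, ha⟩, 1)
      have h1 : a * ((b1 : G) * a⁻¹ * (b1 : G)⁻¹) = a :=
        congrArg (fun z : A × B => (z.1 : G)) hby
      have h2 : (b1 : G) * a⁻¹ * (b1 : G)⁻¹ = 1 := by
        have := mul_left_cancel (h1.trans (mul_one a).symm)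
        exact this
      have h3 : a = 1 := by
        have : a⁻¹ = 1 := by
          calc a⁻¹ = (b1 : G)⁻¹ * ((b1 : G) * a⁻¹ * (b1 : G)⁻¹) * b1 := by group
            _ = 1 := by rw [h2]; group
        exact inv_eq_one.mp this
      subst h3
      ext x
      rw [mem_map_conj]
      simp
  rw [eq_bot_iff, Subgroup.commutator_le]
  intro a ha b hb
  rw [← hAB]
  constructor
  · -- in A
    have : ⁅a, b⁆ = a * (b * a⁻¹ * b⁻¹) := by
      rw [commutatorElement_def]; group
    rw [this]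
    exact A.mul_mem ha (((Subgroup.mem_normalizer_iff.mp (hN hb)) a⁻¹).mp (A.inv_mem ha))
  · have h1 : a * b * a⁻¹ ∈ B := by
      have := conj_mem_map_conj B a b hb
      rwa [hAN a ha] at this
    rw [commutatorElement_def]
    exact B.mul_mem h1 (B.inv_mem hb)

end Cfsg.Agent.Lib.Helper36
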