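import Cfsg.Prelude.Def_ClassificationK
import Cfsg.Agent.Lib.Helper36.TI
import Cfsg.Agent.Lib.Helper28.Layer

set_option autoImplicit false

namespace Cfsg.Agent.Lib.Helper36

open Subgroup

universe u

/-- two elements of order two of a cyclic subgroup coincide -/
theorem eq_of_orderOf_two_of_isCyclic {T : Type*} [Group T] [Finite T] (K : Subgroup T)
    (hK : IsCyclic ↥K) {x y : T} (hx : x ∈ K) (hy : y ∈ K) (hx2 : orderOf x = 2)
    (hy2 : orderOf y = 2) : x = y := by
  classical
  have : Fintype ↥K := Fintype.ofFinite _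
  by_contra hne
  have hle := IsCyclic.card_pow_eq_one_le (α := ↥K) (n := 2) (by norm_num)
  have hx1 : x ≠ 1 := by
    rintro rfl; rw [orderOf_one] at hx2; omega
  have hy1 : y ≠ 1 := by
    rintro rfl; rw [orderOf_one] at hy2; omega
  have hsub : ({1, ⟨x, hx⟩, ⟨y, hy⟩} : Finset ↥K) ⊆ Finset.univ.filter (fun a : ↥K => a ^ 2 = 1) := by
    intro a ha
    simp only [Finset.mem_insert, Finset.mem_singleton] at ha
    simp only [Finset.mem_filter, Finset.mem_univ, true_and]
    rcases ha with rfl | rfl | rfl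
    · simp
    · apply Subtype.ext
      change x ^ 2 = 1
      rw [← hx2, pow_orderOf_eq_one]
    · apply Subtype.ext
      change y ^ 2 = 1
      rw [← hy2, pow_orderOf_eq_one]
  have hcard : ({1, ⟨x, hx⟩, ⟨y, hy⟩} : Finset ↥K).card = 3 := by
    rw [Finset.card_insert_of_notMem, Finset.card_insert_of_notMem, Finset.card_singleton]
    · simp only [Finset.mem_singleton]
      intro h
      exact hne (congrArg Subtype.val h)
    · simp only [Finset.mem_insert, Finset.mem_singleton, not_or]
      exact ⟨fun h => hx1 (congrArg Subtype.val h).symm, fun h => hy1 (congrArg Subtype.val h).symm⟩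
  have := Finset.card_le_card hsub
  omega

/-- In a 2-group of symplectic type with a central involution `ζ`, every involution of a
characteristic abelian subgroup equals `ζ`. -/
theorem symp_involution_unique {T : Type*} [Group T] [Finite T] (hT : Cfsg.IsOfSymplecticType T)
    (ζ : T) (hζ : ζ ∈ center T) (hζ2 : orderOf ζ = 2) (B : Subgroup T) (hBc : B.Characteristic)
    (hBa : IsMulCommutative ↥B) (b : T) (hb : b ∈ B) (hb2 : orderOf b = 2) : b = ζ := by
  have hBcyc : IsCyclic ↥B := hT.2 B hBc hBa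
  have hBn : B.Normal := inferInstance
  have hbZ : b ∈ center T := by
    rw [mem_center_iff]
    intro x
    have h1 : x * b * x⁻¹ ∈ B := hBn.conj_mem b hb x
    have h2 : orderOf (x * b * x⁻¹) = 2 := by
      rw [← hb2]
      exact (MulAut.conj x).orderOf_eq b
    have h3 := eq_of_orderOf_two_of_isCyclic B hBcyc h1 hb h2 hb2
    calc x * b = (x * b * x⁻¹) * x := by group
      _ = b * x := by rw [h3]
  have hZcyc : IsCyclic ↥(center T) := hT.2 (center T) inferInstance inferInstance
  exact eq_of_orderOf_two_of_isCyclic (center T) hZcyc hbZ hζ hb2 hζ2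

section GF2

variable {G : Type u} [Group G]

/-- `C_G(z)` -/
abbrev CC (z : G) : Subgroup G := centralizer ({z} : Set G)

/-- `F*(C_G(z))` inside `C_G(z)` -/
abbrev FsC (z : G) : Subgroup ↥(CC z) := Cfsg.generalizedFittingSubgroup ↥(CC z)

/-- `F*(C_G(z))` inside `G` -/
abbrev QQ (z : G) : Subgroup G := (FsC z).map (CC z).subtype

/-- `z` as an element of its centralizer -/
def zC (z : G) : ↥(CC z) := ⟨z, mem_centralizer_singleton_iff.mpr rfl⟩

theorem zC_mem_center (z : G) : zC z ∈ center ↥(CC z) := by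
  rw [mem_center_iff]
  intro c
  apply Subtype.ext
  exact mem_centralizer_singleton_iff.mp c.2

theorem zC_mem_FsC [Finite G] (z : G) (hz : orderOf z = 2) : zC z ∈ FsC z := by
  have hp2 : Fact (Nat.Prime 2) := ⟨Nat.prime_two⟩
  have hn : (zpowers (zC z)).Normal := by
    refine ⟨fun n hn c => ?_⟩
    have hle : zpowers (zC z) ≤ center ↥(CC z) := by
      rw [zpowers_le]; exact zC_mem_center z
    have h1 := mem_center_iff.mp (hle hn) c
    have : c * n * c⁻¹ = n := by rw [h1]; group
    rw [this]; exact hn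
  have hord : orderOf (zC z) = 2 := by
    rw [← hz]; exact Subgroup.orderOf_mk z _
  have hp : IsPGroup 2 ↥(zpowers (zC z)) := by
    apply IsPGroup.of_card (n := 1)
    rw [Nat.card_zpowers, hord, pow_one]
  have h1 := Cfsg.Agent.Lib.Helper28.le_pCore hn hp
  have h2 := Cfsg.Agent.Lib.Helper28.pCore_le_fitting (G := ↥(CC z)) 2
  exact Cfsg.Agent.Lib.Helper28.fitting_le_genFitting (h2 (h1 (mem_zpowers _)))

theorem z_mem_QQ [Finite G] (z : G) (hz : orderOf z = 2) : z ∈ QQ z :=
  ⟨zC z, zC_mem_FsC z hz, rfl⟩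

theorem QQ_le_CC (z : G) : QQ z ≤ CC z := map_subtype_le _

theorem conj_mem_QQ (z : G) {c q : G} (hc : c ∈ CC z) (hq : q ∈ QQ z) : c * q * c⁻¹ ∈ QQ z := by
  obtain ⟨q', hq', rfl⟩ := hq
  have hn : (FsC z).Normal := Cfsg.Agent.Lib.Helper28.genFitting_normal
  exact ⟨⟨c, hc⟩ * q' * ⟨c, hc⟩⁻¹, hn.conj_mem q' hq' ⟨c, hc⟩, rfl⟩

theorem centralizer_QQ_le [Finite G] (z : G) (hz : orderOf z = 2) :
    centralizer (QQ z : Set G) ≤ QQ z := by
  intro x hx
  have hxC : x ∈ CC z := by
    rw [mem_centralizer_singleton_iff]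
    exact ((mem_centralizer_iff.mp hx) z (z_mem_QQ z hz)).symm
  refine ⟨⟨x, hxC⟩, ?_, rfl⟩
  apply Cfsg.Agent.Lib.Helper28.centralizer_genFitting_le
  rw [mem_centralizer_iff]
  intro q hq
  apply Subtype.ext
  exact (mem_centralizer_iff.mp hx) q ⟨q, hq, rfl⟩

/-- conjugation by `g` as an isomorphism of centralizers -/
def conjCC (z g : G) : ↥(CC z) ≃* ↥(CC (g * z * g⁻¹)) where
  toFun c := ⟨g * c * g⁻¹, by
    rw [mem_centralizer_singleton_iff]
    have h := mem_centralizer_singleton_iff.mp c.2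
    calc g * c * g⁻¹ * (g * z * g⁻¹) = g * (c * z) * g⁻¹ := by group
      _ = g * (z * c) * g⁻¹ := by rw [h]
      _ = g * z * g⁻¹ * (g * c * g⁻¹) := by group⟩
  invFun c := ⟨g⁻¹ * c * g, by
    rw [mem_centralizer_singleton_iff]
    have h := mem_centralizer_singleton_iff.mp c.2
    calc g⁻¹ * c * g * z = g⁻¹ * (c * (g * z * g⁻¹)) * g := by group
      _ = g⁻¹ * ((g * z * g⁻¹) * c) * g := by rw [h]
      _ = z * (g⁻¹ * c * g) := by group⟩
  left_inv c := by apply Subtype.ext; simp [mul_assoc]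
  right_inv c := by apply Subtype.ext; simp [mul_assoc]
  map_mul' a b := by apply Subtype.ext; simp [mul_assoc]

theorem QQ_conj (z g : G) :
    (QQ z).map (MulAut.conj g).toMonoidHom = QQ (g * z * g⁻¹) := by
  have h := Cfsg.Agent.Lib.Helper28.genFitting_map_equiv (conjCC z g)
  change _ = (Cfsg.generalizedFittingSubgroup ↥(CC (g * z * g⁻¹))).map _
  rw [← h, Subgroup.map_map, Subgroup.map_map]
  congr 1

end GF2

end Cfsg.Agent.Lib.Helper36
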