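import Mathlib

/-!
Coordinatisation of a finite abelian group with a commuting family of injective endomorphisms that is
transitive on the non-zero elements by a finite field; and a vanishing lemma for alternating
equivariant biadditive maps on a finite field of characteristic two.
-/

set_option autoImplicit false

namespace Cfsg.Agent.Lib.Helper36

theorem exists_field_of_regular {A : Type*} [AddCommGroup A] [Finite A] (T : Set (A →+ A))
    (hcomm : ∀ f ∈ T, ∀ g ∈ T, ∀ a, f (g a) = g (f a))
    (hinj : ∀ f ∈ T, Function.Injective f)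
    (a₀ : A) (ha₀ : a₀ ≠ 0)
    (htr : ∀ a, a ≠ 0 → ∃ f ∈ T, f a₀ = a) :
    ∃ (F : Type) (_ : Field F) (_ : Fintype F) (e : F ≃+ A), e 1 = a₀ ∧
      (∀ f ∈ T, ∃ t : F, t ≠ 0 ∧ ∀ x, f (e x) = e (t * x)) ∧
      (∀ t : F, t ≠ 0 → ∃ f ∈ T, ∀ x, f (e x) = e (t * x)) := by
  classical
  let mk : (A →+ A) → AddMonoid.End A := fun f => f
  let C : Subring (AddMonoid.End A) := Subring.centralizer (mk '' T)
  have hC : ∀ c : AddMonoid.End A, c ∈ C ↔ ∀ f ∈ T, ∀ a, f (c a) = c (f a) := by
    intro c
    constructor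
    · intro hc f hf a
      have := (Subring.mem_centralizer_iff.mp hc) (mk f) ⟨f, hf, rfl⟩
      exact congrArg (fun u : AddMonoid.End A => u a) this
    · intro hc
      apply Subring.mem_centralizer_iff.mpr
      rintro _ ⟨f, hf, rfl⟩
      refine AddMonoidHom.ext fun a => ?_
      exact hc f hf a
  have hTC : ∀ f ∈ T, mk f ∈ C := fun f hf => (hC _).mpr (fun g hg a => hcomm g hg f hf a)
  have hkill : ∀ c ∈ C, c a₀ = 0 → c = 0 := by
    intro c hc h0
    refine AddMonoidHom.ext fun a => ?_
    change c a = 0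
    by_cases ha : a = 0
    · rw [ha]; exact map_zero c
    · obtain ⟨f, hf, rfl⟩ := htr a ha
      rw [← (hC c).mp hc f hf a₀, h0, map_zero]
  have hCT : ∀ c ∈ C, c ≠ 0 → ∃ f ∈ T, c = mk f := by
    intro c hc h0
    have h1 : c a₀ ≠ 0 := fun h => h0 (hkill c hc h)
    obtain ⟨f, hf, hfa⟩ := htr _ h1
    refine ⟨f, hf, ?_⟩
    have h2 : c - mk f = 0 := by
      apply hkill _ (C.sub_mem hc (hTC f hf))
      change c a₀ - f a₀ = 0
      rw [hfa, sub_self]
    exact sub_eq_zero.mp h2
  have hfinE : Finite (AddMonoid.End A) :=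
    Finite.of_injective (fun f : AddMonoid.End A => (f : A → A)) DFunLike.coe_injective
  have hfield : IsField ↥C :=
    { exists_pair_ne := ⟨0, 1, fun h01 => ha₀ (by
        have := congrArg (fun k : ↥C => k.1 a₀) h01
        exact this.symm)⟩
      mul_comm := by
        intro x y
        by_cases hx : x = 0
        · rw [hx, zero_mul, mul_zero]
        obtain ⟨f, hf, hxf⟩ := hCT x.1 x.2 (fun h => hx (Subtype.ext h))
        apply Subtype.ext
        refine AddMonoidHom.ext fun a => ?_
        change x.1 (y.1 a) = y.1 (x.1 a)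
        rw [hxf]
        exact (hC y.1).mp y.2 f hf a
      mul_inv_cancel := by
        intro a ha
        obtain ⟨f, hf, haf⟩ := hCT a.1 a.2 (fun h => ha (Subtype.ext h))
        have inj : Function.Injective (fun t : ↥C => a * t) := by
          intro t1 t2 ht
          apply Subtype.ext
          refine AddMonoidHom.ext fun b => ?_
          have h1 : a.1 (t1.1 b) = a.1 (t2.1 b) :=
            congrArg (fun u : ↥C => u.1 b) ht
          rw [haf] at h1
          exact hinj f hf h1
        obtain ⟨t, ht⟩ := (Finite.injective_iff_surjective.mp inj) 1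
        exact ⟨t, ht⟩ }
  let _ : Field ↥C := hfield.toField
  have : Finite ↥C := inferInstance
  have : Small.{0} ↥C := Countable.toSmall _
  let ι : Shrink.{0} ↥C ≃+* ↥C := Shrink.ringEquiv.{0} ↥C
  have hfinF : Finite (Shrink.{0} ↥C) := Finite.of_equiv _ ι.symm.toEquiv
  let κ0 : Shrink.{0} ↥C →+ A :=
    { toFun := fun t => (ι t).1 a₀
      map_zero' := by rw [map_zero]; rfl
      map_add' := fun s t => by rw [map_add]; rfl }
  have hκ0 : ∀ t, κ0 t = (ι t).1 a₀ := fun _ => rfl
  have hκinj : Function.Injective κ0 := by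
    rw [injective_iff_map_eq_zero]
    intro t ht
    have := hkill (ι t).1 (ι t).2 ht
    have h3 : ι t = 0 := Subtype.ext this
    exact (map_eq_zero_iff ι ι.injective).mp h3
  have hκsurj : Function.Surjective κ0 := by
    intro a
    by_cases ha : a = 0
    · exact ⟨0, by rw [map_zero, ha]⟩
    obtain ⟨f, hf, hfa⟩ := htr a ha
    refine ⟨ι.symm ⟨mk f, hTC f hf⟩, ?_⟩
    rw [hκ0, RingEquiv.apply_symm_apply]
    exact hfa
  let κA : Shrink.{0} ↥C ≃+ A := AddEquiv.ofBijective κ0 ⟨hκinj, hκsurj⟩
  have hκA : ∀ t, κA t = (ι t).1 a₀ := fun _ => rfl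
  have hmulκ : ∀ c t, κA (c * t) = (ι c).1 (κA t) := by
    intro c t
    rw [hκA, hκA, map_mul]
    rfl
  refine ⟨Shrink.{0} ↥C, inferInstance, Fintype.ofFinite _, κA, ?_, ?_, ?_⟩
  · rw [hκA, map_one]; rfl
  · intro f hf
    refine ⟨ι.symm ⟨mk f, hTC f hf⟩, ?_, fun x => ?_⟩
    · intro h0
      have h1 : (⟨mk f, hTC f hf⟩ : ↥C) = 0 := by
        have := congrArg ι h0
        rwa [RingEquiv.apply_symm_apply, map_zero] at this
      have h2 : f a₀ = 0 := congrArg (fun u : ↥C => u.1 a₀) h1
      exact ha₀ (hinj f hf (by rw [h2, map_zero]))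
    · rw [hmulκ, RingEquiv.apply_symm_apply]; rfl
  · intro t ht
    have h1 : (ι t).1 ≠ 0 := by
      intro h0
      apply ht
      have h3 : ι t = 0 := Subtype.ext h0
      exact (map_eq_zero_iff ι ι.injective).mp h3
    obtain ⟨f, hf, hcf⟩ := hCT _ (ι t).2 h1
    refine ⟨f, hf, fun x => ?_⟩
    rw [hmulκ, hcf]; rfl

/-- **Vanishing lemma.**  On a finite field of characteristic two an alternating biadditive map with
`B (t x) (t y) = t B x y` is zero. -/
theorem alt_equivariant_zero {F : Type*} [Field F] [Finite F] [CharP F 2] (B : F → F → F)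
    (hadd1 : ∀ x x' y, B (x + x') y = B x y + B x' y)
    (hadd2 : ∀ x y y', B x (y + y') = B x y + B x y')
    (halt : ∀ x, B x x = 0) (heq : ∀ t x y, t ≠ 0 → B (t * x) (t * y) = t * B x y) :
    ∀ x y, B x y = 0 := by
  have h2 : ∀ a : F, a + a = 0 := fun a => CharTwo.add_self_eq_zero a
  have hsymm : ∀ x y, B x y = B y x := by
    intro x y
    have h := halt (x + y)
    rw [hadd1, hadd2, hadd2, halt, halt, zero_add, add_zero] at h
    exact CharTwo.add_eq_zero.mp h
  have h01 : ∀ y, B 0 y = 0 := by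
    intro y
    have := hadd1 0 0 y
    rw [add_zero] at this
    exact left_eq_add.mp this
  have h02 : ∀ x, B x 0 = 0 := fun x => by rw [hsymm, h01]
  -- g u = B u 1
  have hginv : ∀ u, u ≠ 0 → B u⁻¹ 1 = u⁻¹ * B u 1 := by
    intro u hu
    have := heq u⁻¹ 1 u (inv_ne_zero hu)
    rw [mul_one, inv_mul_cancel₀ hu] at this
    rw [this, hsymm 1 u]
  have hgsq : ∀ u, B (u * u) 1 = 0 := by
    intro u
    by_cases hu : u = 0
    · rw [hu, mul_zero, h01]
    by_cases hu1 : u + 1 = 0
    · have : u = 1 := CharTwo.add_eq_zero.mp hu1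
      rw [this, mul_one, halt]
    have hw : u * u + u ≠ 0 := by
      have : u * u + u = u * (u + 1) := by ring
      rw [this]; exact mul_ne_zero hu hu1
    have e1 : (u * u + u)⁻¹ = u⁻¹ + (u + 1)⁻¹ := by
      have e0 : u * u + u = u * (u + 1) := by ring
      rw [e0, mul_inv]
      field_simp
      have := h2 u
      linear_combination (-1 : F) * this
    have e2 := hginv _ hw
    rw [e1, hadd1, hginv u hu, hginv _ hu1, hadd1 u 1 1, halt, add_zero, ← add_mul, ← e1,
      hadd1] at e2
    have e3 : B u 1 = B (u * u) 1 + B u 1 := mul_left_cancel₀ (inv_ne_zero hw) e2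
    exact (right_eq_add.mp e3)
  have hg : ∀ u, B u 1 = 0 := by
    intro u
    obtain ⟨r, hr⟩ := FiniteField.isSquare_of_char_two (CharP.ringChar_of_prime_eq_zero Nat.prime_two
      (by exact_mod_cast (CharP.cast_eq_zero F 2))) u
    rw [hr]; exact hgsq r
  intro x y
  by_cases hy : y = 0
  · rw [hy, h02]
  have := heq y (y⁻¹ * x) 1 hy
  rw [mul_one, mul_inv_cancel_left₀ hy, hg, mul_zero] at this
  exact this

end Cfsg.Agent.Lib.Helper36
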