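import Mathlib
import Cfsg.Agent.Lib.Helper99.SPU.Defs
import Cfsg.Agent.Lib.Helper99.SPU.TADD
import Cfsg.Agent.Lib.Helper99.SP8.Main
import Cfsg.Agent.Lib.Helper67.SPUNMU
import Cfsg.Agent.Lib.Helper67.SPURK
import Cfsg.Agent.Lib.Helper11.SP8JORD

set_option autoImplicit false

universe u

namespace Cfsg.Agent.Lib.Helper36.SPU

open Module LinearMap QuadraticMap Cfsg.Agent.Lib.Helper48 Cfsg.Agent.Lib.Helper17
  Cfsg.Agent.Lib.Helper99.SP8 Cfsg.Agent.Lib.Helper99.PGB Cfsg.Agent.Lib.Helper99.SPU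
  Cfsg.Agent.Lib.Helper67.SPU Cfsg.Agent.Lib.Helper11.SP8

/-- a single Jordan block has a one dimensional kernel -/
theorem ue_block {F V : Type*} [Field F] [AddCommGroup V] [Module F V] [FiniteDimensional F V]
    (N : End F V) {d : ℕ} (hd : finrank F V = d) (h0 : N ^ d = 0) (h1 : N ^ (d - 1) ≠ 0)
    (hd1 : 1 ≤ d) : finrank F (ker N) = 1 := by
  have hr : d - 1 ≤ finrank F (range N) := le_finrank_range N ⟨d, h0⟩ h1
  have hrk := LinearMap.finrank_range_add_finrank_ker N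
  have hpos : 1 ≤ finrank F (ker N) := by
    obtain ⟨v, hv⟩ : ∃ v, (N ^ (d - 1)) v ≠ 0 := by
      by_contra hcon
      push Not at hcon
      exact h1 (LinearMap.ext hcon)
    have hmem : (N ^ (d - 1)) v ∈ ker N := by
      rw [LinearMap.mem_ker, ← Module.End.mul_apply, ← pow_succ', Nat.sub_add_cancel hd1, h0]
      rfl
    have hne : ker N ≠ ⊥ := by
      intro hbot
      rw [hbot, Submodule.mem_bot] at hmem
      exact hv hmem
    exact Submodule.one_le_finrank_iff.mpr hne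
  omega

/-- exact order of a unipotent map -/
theorem ue_ord {F V : Type*} [Field F] [CharP F 2] [AddCommGroup V] [Module F V] (T : End F V)
    {c b : ℕ} (hz : (T - 1) ^ (2 * c) = 0) (hnz : (T - 1) ^ (2 * c - 1) ≠ 0)
    (h1 : 2 * c ≤ 2 ^ b) (h2 : 2 ^ b < 4 * c) (j : ℕ) : T ^ j = 1 ↔ 2 ^ b ∣ j := by
  have hTb : T ^ (2 ^ b) = 1 := by
    have : (T - 1) ^ (2 ^ b) = 0 := by
      obtain ⟨k, hk⟩ := Nat.exists_eq_add_of_le h1
      rw [hk, pow_add, hz, zero_mul]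
    rw [jord_pow] at this
    exact sub_eq_zero.1 this
  have hdvd : orderOf T ∣ 2 ^ b := orderOf_dvd_of_pow_eq_one hTb
  obtain ⟨i, hib, hi⟩ := (Nat.dvd_prime_pow Nat.prime_two).1 hdvd
  have hib' : i = b := by
    by_contra hne
    have hlt : i < b := lt_of_le_of_ne hib hne
    have h3 : T ^ (2 ^ i) = 1 := by rw [← hi]; exact pow_orderOf_eq_one T
    have h4 : (T - 1) ^ (2 ^ i) = 0 := by rw [jord_pow, h3, sub_self]
    have h5 : 2 ^ i ≤ 2 * c - 1 := by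
      have h6 : 2 ^ (i + 1) ≤ 2 ^ b := Nat.pow_le_pow_right (by norm_num) hlt
      rw [pow_succ] at h6
      omega
    obtain ⟨k, hk⟩ := Nat.exists_eq_add_of_le h5
    apply hnz
    rw [hk, pow_add, h4, zero_mul]
  rw [← hib', ← hi]
  exact (orderOf_dvd_iff_pow_eq_one).symm

theorem ue_prodMap_eq_one {F V₁ V₂ : Type*} [Field F] [AddCommGroup V₁] [Module F V₁]
    [AddCommGroup V₂] [Module F V₂] (T₁ : End F V₁) (T₂ : End F V₂) (j : ℕ) :
    (LinearMap.prodMap T₁ T₂ : End F (V₁ × V₂)) ^ j = 1 ↔ T₁ ^ j = 1 ∧ T₂ ^ j = 1 := by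
  constructor
  · intro h
    constructor
    · apply LinearMap.ext
      intro x
      have := congrArg (fun φ : End F (V₁ × V₂) => (φ (x, 0)).1) h
      simp only [prodMap_pow_apply] at this
      exact this
    · apply LinearMap.ext
      intro x
      have := congrArg (fun φ : End F (V₁ × V₂) => (φ (0, x)).2) h
      simp only [prodMap_pow_apply] at this
      exact this
  · rintro ⟨h1, h2⟩
    apply LinearMap.ext
    rintro ⟨x, y⟩
    rw [prodMap_pow_apply, h1, h2]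
    rfl

/-- UE1 -/
theorem ue_piece {F : Type u} [Field F] [Fintype F] [CharP F 2] {ε : Bool} {c₁ c₂ b : ℕ}
    (h₁ : QJ F true c₁) (h₂ : QJ F ε c₂) (h0 : 1 ≤ c₁) (hc : c₁ ≤ c₂) (hb : 2 * c₂ = 2 ^ b) :
    QN F ε (c₁ + c₂) (2 ^ b) 2 := by
  obtain ⟨V₁, _, _, _, Q₁, T₁, ht₁, hi₁, hz₁, hn₁⟩ := h₁
  obtain ⟨V₂, _, _, _, Q₂, T₂, ht₂, hi₂, hz₂, hn₂⟩ := h₂
  refine ⟨V₁ × V₂, inferInstance, inferInstance, inferInstance, Q₁.prod Q₂,
    (LinearMap.prodMap T₁ T₂ : End F (V₁ × V₂)), isTyp_prod ht₁ ht₂, ?_, ?_, ?_, ?_⟩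
  · rintro ⟨x, y⟩
    show Q₁ (T₁ x) + Q₂ (T₂ y) = Q₁ x + Q₂ y
    rw [hi₁, hi₂]
  · intro j
    have ho₂ := ue_ord T₂ hz₂ hn₂ hb.le (by omega) (b := b)
    have hT₁ : T₁ ^ (2 ^ b) = 1 := by
      have : (T₁ - 1) ^ (2 ^ b) = 0 := by
        obtain ⟨k, hk⟩ := Nat.exists_eq_add_of_le (show 2 * c₁ ≤ 2 ^ b by omega)
        rw [hk, pow_add, hz₁, zero_mul]
      rw [jord_pow] at this
      exact sub_eq_zero.1 this
    rw [ue_prodMap_eq_one, ho₂]
    refine ⟨fun h => h.2, fun h => ⟨?_, h⟩⟩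
    obtain ⟨k, rfl⟩ := h
    rw [pow_mul, hT₁, one_pow]
  · rw [Cfsg.Agent.Lib.Helper67.SPU.finrank_ker_prodMap, ue_block (T₁ - 1) ht₁.1 hz₁ hn₁ (by omega),
      ue_block (T₂ - 1) ht₂.1 hz₂ hn₂ (by omega)]
  · intro h
    have h3 : Nm T₂ (2 ^ b) ≠ 0 := by
      rw [Nm_two_pow, ← hb]; exact hn₂
    apply h3
    apply LinearMap.ext
    intro y
    have h4 := congrArg (fun φ : End F (V₁ × V₂) => (φ (0, y)).2) h
    simp only [Nm_prodMap] at h4
    exact h4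

/-- UE2 -/
theorem ue_list (F : Type u) [Field F] [Fintype F] [CharP F 2] (ε : Bool) (c : ℕ) (h1 : 1 ≤ c)
    (h4 : c ≤ 4) : ∃ b, 2 * c ≤ 2 ^ (b + 1) ∧ QN F ε c (2 ^ b) 2 := by
  interval_cases c
  · refine ⟨0, by norm_num, ?_⟩
    obtain ⟨V, i1, i2, i3, Q, T, ht, -, -, -⟩ := QJ_all F ε 1 le_rfl
    refine ⟨V, i1, i2, i3, Q, 1, ht, fun v => rfl, fun j => by simp, ?_, ?_⟩
    · rw [sub_self, LinearMap.ker_zero, finrank_top, ht.1]
    · have : Nontrivial V := by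
        apply Module.nontrivial_of_finrank_pos (R := F)
        rw [ht.1]; norm_num
      simp [Nm]
  · exact ⟨1, by norm_num, ue_piece (QJ_all F true 1 le_rfl) (QJ_all F ε 1 le_rfl) le_rfl le_rfl
      (by norm_num)⟩
  · exact ⟨2, by norm_num, ue_piece (QJ_all F true 1 le_rfl) (QJ_all F ε 2 (by norm_num)) le_rfl
      (by norm_num) (by norm_num)⟩
  · exact ⟨2, by norm_num, ue_piece (QJ_all F true 2 (by norm_num)) (QJ_all F ε 2 (by norm_num))
      (by norm_num) le_rfl (by norm_num)⟩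

end Cfsg.Agent.Lib.Helper36.SPU
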