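import Mathlib

/-!
Groups in which every element has 2-power order and every element of order dividing 4 is central.
Power structure: the `2^k`-th power map is multiplicative on elements of order dividing `2^(k+1)`.
-/

set_option autoImplicit false

namespace Cfsg.Agent.Lib.Helper36

universe u

/-- every element has 2-power order and the elements of order dividing 4 are central -/
structure TwoCentral (G : Type u) [Group G] : Prop where
  pow : ∀ x : G, ∃ n : ℕ, x ^ (2 ^ n) = 1
  cen : ∀ x : G, x ^ 4 = 1 → ∀ g : G, x * g = g * x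

namespace TwoCentral

variable {G : Type u} [Group G]

theorem cen2 (h : TwoCentral G) {x : G} (hx : x ^ 2 = 1) (g : G) : x * g = g * x :=
  h.cen x (by rw [show 4 = 2 * 2 from rfl, pow_mul, hx, one_pow]) g

/-- if `x` inverts `c` then `c ^ 2 = 1` -/
theorem sq_eq_one_of_inverted (h : TwoCentral G) {x c : G} (hc : x⁻¹ * c * x = c⁻¹) : c ^ 2 = 1 := by
  have hpow : ∀ m : ℕ, x⁻¹ * c ^ m * x = (c ^ m)⁻¹ := by
    intro m
    have : x⁻¹ * c ^ m * x = (x⁻¹ * c * x) ^ m := by
      have := conj_pow (a := x⁻¹) (b := c) (i := m)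
      rw [inv_inv] at this
      exact this.symm
    rw [this, hc, inv_pow]
  have key : ∀ n : ℕ, c ^ (2 ^ n) = 1 → c ^ 2 = 1 := by
    intro n
    induction n with
    | zero => intro h0; rw [pow_zero, pow_one] at h0; rw [h0, one_pow]
    | succ n ih =>
      intro h1
      cases n with
      | zero => simpa using h1
      | succ n =>
        apply ih
        have h4 : (c ^ (2 ^ n)) ^ 4 = 1 := by
          rw [← pow_mul, show 2 ^ n * 4 = 2 ^ (n + 1 + 1) by ring]; exact h1
        have hcen := h.cen _ h4 x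
        have h5 := hpow (2 ^ n)
        rw [mul_assoc, hcen, inv_mul_cancel_left] at h5
        have h6 : c ^ (2 ^ n) * c ^ (2 ^ n) = 1 := by
          nth_rewrite 1 [h5]; exact inv_mul_cancel _
        rw [← pow_add] at h6
        rw [show 2 ^ (n + 1) = 2 ^ n + 2 ^ n by ring]; exact h6
  obtain ⟨n, hn⟩ := h.pow c
  exact key n hn

/-- if `x ^ 2` commutes with `g` then the commutator of `x` and `g` has order at most two -/
theorem comm_sq (h : TwoCentral G) {x g : G} (hx : x ^ 2 * g = g * x ^ 2) :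
    (x⁻¹ * g⁻¹ * x * g) ^ 2 = 1 := by
  apply h.sq_eq_one_of_inverted (x := x)
  -- (g⁻¹ x g)^2 = x^2
  have h1 : g⁻¹ * x * g * (g⁻¹ * x * g) = x * x := by
    have : g⁻¹ * x * g * (g⁻¹ * x * g) = g⁻¹ * (x ^ 2 * g) := by
      rw [pow_two]; simp only [mul_assoc, mul_inv_cancel_left]
    rw [this, hx, inv_mul_cancel_left, pow_two]
  -- x⁻¹ c x = c⁻¹ with c = x⁻¹ (g⁻¹ x g)
  have h2 : x⁻¹ * (x⁻¹ * g⁻¹ * x * g) * x * (x⁻¹ * g⁻¹ * x * g) = 1 := by
    have : x⁻¹ * (x⁻¹ * g⁻¹ * x * g) * x * (x⁻¹ * g⁻¹ * x * g)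
        = x⁻¹ * x⁻¹ * (g⁻¹ * x * g * (g⁻¹ * x * g)) := by
      simp only [mul_assoc, mul_inv_cancel_left]
    rw [this, h1]; simp only [mul_assoc, inv_mul_cancel_left, inv_mul_cancel]
  exact eq_inv_of_mul_eq_one_left h2

/-- the subgroup of elements of order at most two -/
def omega (h : TwoCentral G) : Subgroup G where
  carrier := {x | x ^ 2 = 1}
  one_mem' := one_pow _
  mul_mem' := by
    intro a b ha hb
    have ha' : a ^ 2 = 1 := ha
    have hb' : b ^ 2 = 1 := hb
    change (a * b) ^ 2 = 1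
    rw [(show Commute a b from h.cen2 ha' b).mul_pow, ha', hb', one_mul]
  inv_mem' := by
    intro a ha
    have ha' : a ^ 2 = 1 := ha
    change (a⁻¹) ^ 2 = 1
    rw [inv_pow, ha', inv_one]

theorem mem_omega (h : TwoCentral G) {x : G} : x ∈ h.omega ↔ x ^ 2 = 1 := Iff.rfl

instance omega_normal (h : TwoCentral G) : h.omega.Normal where
  conj_mem := by
    intro n hn g
    rw [mem_omega] at hn ⊢
    rw [conj_pow, hn, mul_one, mul_inv_cancel]

theorem quot (h : TwoCentral G) : TwoCentral (G ⧸ h.omega) where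
  pow := by
    intro x
    obtain ⟨x, rfl⟩ := QuotientGroup.mk_surjective x
    obtain ⟨n, hn⟩ := h.pow x
    exact ⟨n, by rw [← QuotientGroup.mk_pow, hn, QuotientGroup.mk_one]⟩
  cen := by
    intro x hx g
    obtain ⟨x, rfl⟩ := QuotientGroup.mk_surjective x
    obtain ⟨g, rfl⟩ := QuotientGroup.mk_surjective g
    rw [← QuotientGroup.mk_pow, QuotientGroup.eq_one_iff, mem_omega, ← pow_mul] at hx
    have h4 : (x ^ 2) ^ 4 = 1 := by rw [← pow_mul]; exact hx
    have h1 := h.comm_sq (h.cen _ h4 g)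
    rw [← QuotientGroup.mk_mul, ← QuotientGroup.mk_mul, QuotientGroup.eq, mem_omega]
    have : (x * g)⁻¹ * (g * x) = (x⁻¹ * g⁻¹ * x * g)⁻¹ := by
      simp only [mul_assoc, mul_inv_rev, inv_inv]
    rw [this, inv_pow, h1, inv_one]

end TwoCentral

/-- the `2^(k+1)`-th power map is multiplicative on elements of order dividing `2^(k+2)` -/
theorem TwoCentral.mul_pow : ∀ (k : ℕ) (G : Type u) [Group G] (_ : TwoCentral G) (x y : G),
    x ^ (2 ^ (k + 2)) = 1 → y ^ (2 ^ (k + 2)) = 1 →
    (x * y) ^ (2 ^ (k + 1)) = x ^ (2 ^ (k + 1)) * y ^ (2 ^ (k + 1)) := by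
  intro k
  induction k with
  | zero =>
    intro G _ h x y hx _
    exact (show Commute x y from h.cen x (by simpa using hx) y).mul_pow _
  | succ k ih =>
    intro G _ h x y hx hy
    have hx' : (x : G ⧸ h.omega) ^ (2 ^ (k + 2)) = 1 := by
      rw [← QuotientGroup.mk_pow, QuotientGroup.eq_one_iff, TwoCentral.mem_omega, ← pow_mul,
        ← pow_succ]; exact hx
    have hy' : (y : G ⧸ h.omega) ^ (2 ^ (k + 2)) = 1 := by
      rw [← QuotientGroup.mk_pow, QuotientGroup.eq_one_iff, TwoCentral.mem_omega, ← pow_mul,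
        ← pow_succ]; exact hy
    have h1 := ih (G ⧸ h.omega) h.quot x y hx' hy'
    rw [← QuotientGroup.mk_mul, ← QuotientGroup.mk_pow, ← QuotientGroup.mk_pow,
      ← QuotientGroup.mk_pow, ← QuotientGroup.mk_mul, eq_comm, QuotientGroup.eq,
      TwoCentral.mem_omega] at h1
    set a := x ^ (2 ^ (k + 1)) with ha
    set b := y ^ (2 ^ (k + 1)) with hb
    set c := (x * y) ^ (2 ^ (k + 1)) with hc
    have ha4 : a ^ 4 = 1 := by
      rw [ha, ← pow_mul, show 2 ^ (k + 1) * 4 = 2 ^ (k + 1 + 2) by ring]; exact hx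
    have hb4 : b ^ 4 = 1 := by
      rw [hb, ← pow_mul, show 2 ^ (k + 1) * 4 = 2 ^ (k + 1 + 2) by ring]; exact hy
    have hab : Commute a b := h.cen a ha4 b
    have habc : Commute (a * b)⁻¹ c := by
      apply Commute.inv_left
      exact (show Commute a c from h.cen a ha4 c).mul_left (h.cen b hb4 c)
    rw [habc.mul_pow, inv_pow, inv_mul_eq_one] at h1
    rw [show 2 ^ (k + 1 + 1) = 2 ^ (k + 1) * 2 by ring, pow_mul, pow_mul, pow_mul, ← ha, ← hb, ← hc,
      ← h1, hab.mul_pow]

/-- elements of order dividing `2^k` are closed under multiplication -/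
theorem TwoCentral.mul_mem {G : Type u} [Group G] (h : TwoCentral G) (k : ℕ) {x y : G}
    (hx : x ^ (2 ^ k) = 1) (hy : y ^ (2 ^ k) = 1) : (x * y) ^ (2 ^ k) = 1 := by
  rcases k with _ | _ | k
  · simp only [pow_zero, pow_one] at hx hy ⊢; rw [hx, hy, one_mul]
  · simp only [zero_add, pow_one] at hx hy ⊢
    rw [(show Commute x y from h.cen2 hx y).mul_pow, hx, hy, one_mul]
  · have h1 := TwoCentral.mul_pow k G h x y hx hy
    rw [show 2 ^ (k + 1 + 1) = 2 ^ (k + 1) * 2 by ring, pow_mul, h1]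
    have hx2 : (x ^ (2 ^ (k + 1))) ^ 2 = 1 := by rw [← pow_mul, ← pow_succ]; exact hx
    have hy2 : (y ^ (2 ^ (k + 1))) ^ 2 = 1 := by rw [← pow_mul, ← pow_succ]; exact hy
    rw [(show Commute (x ^ (2 ^ (k + 1))) (y ^ (2 ^ (k + 1))) from h.cen2 hx2 _).mul_pow, hx2, hy2,
      one_mul]

end Cfsg.Agent.Lib.Helper36
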