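import Mathlib
import Cfsg.Agent.Lib.Helper36.TwoCentral
import Cfsg.Agent.Lib.Helper36.RegField

/-!
Finite 2-groups with a commutative group of automorphisms transitive on the involutions.
Coordinates of the involutions by a finite field, and Higman's lemma: if the group is not abelian then
its centre is elementary abelian.
-/

set_option autoImplicit false

namespace Cfsg.Agent.Lib.Helper36

universe u

theorem exists_pow_involution {G : Type*} [Group G] : ∀ (n : ℕ) (c : G), c ^ (2 ^ n) = 1 → c ≠ 1 →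
    ∃ m, c ^ (2 ^ m) ≠ 1 ∧ c ^ (2 ^ m) * c ^ (2 ^ m) = 1 := by
  intro n
  induction n with
  | zero => intro c h0 h1; rw [pow_zero, pow_one] at h0; exact absurd h0 h1
  | succ n ih =>
    intro c h0 h1
    by_cases h : c ^ (2 ^ n) = 1
    · exact ih c h h1
    · exact ⟨n, h, by rw [← pow_add, show 2 ^ n + 2 ^ n = 2 ^ (n + 1) by ring]; exact h0⟩

/-- the commutator used below -/
def cm {G : Type*} [Group G] (x g : G) : G := x⁻¹ * g⁻¹ * x * g

theorem cm_eq_one {G : Type*} [Group G] {x g : G} : cm x g = 1 ↔ x * g = g * x := by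
  unfold cm
  constructor
  · intro h
    have : x * g = g * x * (x⁻¹ * g⁻¹ * x * g) := by
      simp only [mul_assoc, mul_inv_cancel_left]
    rw [this, h, mul_one]
  · intro h
    rw [mul_assoc, h]; simp only [mul_assoc, inv_mul_cancel_left, inv_mul_cancel]

theorem cm_mul_left {G : Type*} [Group G] {x x' g : G} (hc : ∀ y, cm x g * y = y * cm x g) :
    cm (x * x') g = cm x g * cm x' g := by
  have h1 : cm (x * x') g = x'⁻¹ * cm x g * (g⁻¹ * x' * g) := by
    unfold cm; simp only [mul_assoc, mul_inv_rev, mul_inv_cancel_left]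
  rw [h1, ← hc x'⁻¹]; unfold cm; simp only [mul_assoc]

theorem cm_mul_right {G : Type*} [Group G] {x g g' : G} (hc : ∀ y, cm x g * y = y * cm x g) :
    cm x (g * g') = cm x g * cm x g' := by
  have h1 : cm x (g * g') = x⁻¹ * g'⁻¹ * x * cm x g * g' := by
    unfold cm; simp only [mul_assoc, mul_inv_rev, mul_inv_cancel_left]
  rw [h1, mul_assoc (x⁻¹ * g'⁻¹ * x), hc g', ← mul_assoc, ← hc]; unfold cm; simp only [mul_assoc]

theorem map_cm {G : Type*} [Group G] (k : MulAut G) (x g : G) : k (cm x g) = cm (k x) (k g) := by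
  unfold cm; simp only [map_mul, map_inv]

/-- a finite 2-group with a commutative group of automorphisms transitive on the involutions -/
structure RegAct (P : Type u) [Group P] (K : Subgroup (MulAut P)) : Prop where
  fin : Finite P
  two : IsPGroup 2 P
  comm : ∀ k ∈ K, ∀ k' ∈ K, k * k' = k' * k
  tr : ∀ x y : P, x ≠ 1 → x * x = 1 → y ≠ 1 → y * y = 1 → ∃ k ∈ K, k x = y

namespace RegAct

variable {P : Type u} [Group P] {K : Subgroup (MulAut P)}

theorem pow2 (h : RegAct P K) (x : P) : ∃ n : ℕ, x ^ (2 ^ n) = 1 := h.two x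

theorem inv_central (h : RegAct P K) {x : P} (hx : x * x = 1) (g : P) : x * g = g * x := by
  by_cases hx1 : x = 1
  · rw [hx1, one_mul, mul_one]
  have := h.fin
  have : Nontrivial P := ⟨x, 1, hx1⟩
  have hfact : Fact (Nat.Prime 2) := ⟨Nat.prime_two⟩
  have hnt : Nontrivial (Subgroup.center P) := h.two.center_nontrivial
  obtain ⟨c, hc⟩ := exists_ne (1 : Subgroup.center P)
  have hc1 : (c : P) ≠ 1 := fun h0 => hc (Subtype.ext h0)
  obtain ⟨n, hn⟩ := h.pow2 (c : P)
  obtain ⟨m, hm1, hm2⟩ := exists_pow_involution n (c : P) hn hc1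
  have hcen : (c : P) ^ (2 ^ m) ∈ Subgroup.center P := Subgroup.pow_mem _ c.2 _
  obtain ⟨k, -, hk⟩ := h.tr _ x hm1 hm2 hx1 hx
  have h1 := Subgroup.mem_center_iff.mp hcen (k⁻¹ g)
  have h2 := congrArg k h1
  rw [map_mul, map_mul, hk, MulAut.apply_inv_self] at h2
  exact h2.symm

/-- coordinates of the involutions -/
theorem coords (h : RegAct P K) (z₀ : P) (hz₀ : z₀ ≠ 1) (hz₀' : z₀ * z₀ = 1) :
    ∃ (F : Type) (_ : Field F) (_ : Fintype F) (_ : CharP F 2) (e : F → P),
      e 1 = z₀ ∧ (∀ a b, e (a + b) = e a * e b) ∧ Function.Injective e ∧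
      (∀ x, x * x = 1 ↔ ∃ a, e a = x) ∧
      (∀ k ∈ K, ∃ t : F, t ≠ 0 ∧ ∀ a, k (e a) = e (t * a)) ∧
      (∀ t : F, t ≠ 0 → ∃ k ∈ K, ∀ a, k (e a) = e (t * a)) := by
  classical
  have := h.fin
  let Z0 : Subgroup P :=
    { carrier := {x | x * x = 1}
      one_mem' := mul_one 1
      mul_mem' := by
        intro a b ha hb
        have ha' : a * a = 1 := ha
        have hb' : b * b = 1 := hb
        change a * b * (a * b) = 1
        rw [mul_assoc, ← mul_assoc b a b, ← h.inv_central ha' b, mul_assoc, hb', mul_one, ha']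
      inv_mem' := by
        intro a ha
        have ha' : a * a = 1 := ha
        change a⁻¹ * a⁻¹ = 1
        rw [← mul_inv_rev, ha', inv_one] }
  have hZ0 : ∀ x, x ∈ Z0 ↔ x * x = 1 := fun _ => Iff.rfl
  let _ : CommGroup ↥Z0 :=
    { (inferInstance : Group ↥Z0) with
      mul_comm := fun a b => Subtype.ext (h.inv_central ((hZ0 _).mp a.2) b.1) }
  let res : MulAut P → (↥Z0 →* ↥Z0) := fun k =>
    { toFun := fun z => ⟨k z.1, by rw [hZ0, ← map_mul, (hZ0 _).mp z.2, map_one]⟩
      map_one' := Subtype.ext (map_one k)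
      map_mul' := fun a b => Subtype.ext (map_mul k a.1 b.1) }
  have hres : ∀ k z, ((res k z : ↥Z0) : P) = k z.1 := fun _ _ => rfl
  let T : Set (Additive ↥Z0 →+ Additive ↥Z0) := {f | ∃ k ∈ K, f = MonoidHom.toAdditive (res k)}
  have hTapp : ∀ k (a : Additive ↥Z0), ((MonoidHom.toAdditive (res k) a).toMul : P) = k (a.toMul : P) :=
    fun _ _ => rfl
  obtain ⟨F, iF, iFin, e, he1, hT1, hT2⟩ := exists_field_of_regular T
    (by
      rintro _ ⟨k, hk, rfl⟩ _ ⟨k', hk', rfl⟩ a
      apply Additive.toMul.injective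
      apply Subtype.ext
      rw [hTapp, hTapp, hTapp, hTapp]
      exact congrArg (fun u : MulAut P => u (a.toMul : P)) (h.comm k hk k' hk'))
    (by
      rintro _ ⟨k, hk, rfl⟩ a b hab
      apply Additive.toMul.injective
      apply Subtype.ext
      apply k.injective
      rw [← hTapp, ← hTapp, hab])
    (Additive.ofMul ⟨z₀, hz₀'⟩)
    (by
      intro h0
      apply hz₀
      exact congrArg (fun u : Additive ↥Z0 => (u.toMul : P)) h0)
    (by
      intro a ha
      have ha1 : (a.toMul : P) ≠ 1 := by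
        intro h0
        apply ha
        apply Additive.toMul.injective
        exact Subtype.ext h0
      obtain ⟨k, hk, hka⟩ := h.tr z₀ (a.toMul : P) hz₀ hz₀' ha1 ((hZ0 _).mp a.toMul.2)
      refine ⟨_, ⟨k, hk, rfl⟩, ?_⟩
      apply Additive.toMul.injective
      apply Subtype.ext
      rw [hTapp]
      exact hka)
  have hadd : ∀ a b, (((e (a + b)).toMul : ↥Z0) : P) = ((e a).toMul : ↥Z0) * ((e b).toMul : ↥Z0) := by
    intro a b
    rw [map_add]; rfl
  have hinj : Function.Injective (fun a : F => (((e a).toMul : ↥Z0) : P)) := by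
    intro a b hab
    apply e.injective
    apply Additive.toMul.injective
    exact Subtype.ext hab
  have hchar : CharP F 2 := by
    have h2 : (2 : F) = 0 := by
      have h3 : (1 : F) + 1 = 0 := by
        apply hinj
        change (((e (1 + 1)).toMul : ↥Z0) : P) = (((e 0).toMul : ↥Z0) : P)
        rw [hadd, map_zero]
        exact (hZ0 _).mp (e 1).toMul.2
      rw [← h3]; norm_num
    exact CharTwo.of_one_ne_zero_of_two_eq_zero one_ne_zero h2
  refine ⟨F, iF, iFin, hchar, fun a => (((e a).toMul : ↥Z0) : P), ?_, hadd, hinj, ?_, ?_, ?_⟩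
  · change (((e 1).toMul : ↥Z0) : P) = z₀
    rw [he1]; rfl
  · intro x
    constructor
    · intro hx
      refine ⟨e.symm (Additive.ofMul ⟨x, hx⟩), ?_⟩
      change (((e (e.symm (Additive.ofMul ⟨x, hx⟩))).toMul : ↥Z0) : P) = x
      rw [AddEquiv.apply_symm_apply]; rfl
    · rintro ⟨a, rfl⟩
      exact (hZ0 _).mp (e a).toMul.2
  · intro k hk
    obtain ⟨t, ht, hta⟩ := hT1 _ ⟨k, hk, rfl⟩
    refine ⟨t, ht, fun a => ?_⟩
    change k (((e a).toMul : ↥Z0) : P) = (((e (t * a)).toMul : ↥Z0) : P)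
    rw [← hta, hTapp]
  · intro t ht
    obtain ⟨_, ⟨k, hk, rfl⟩, hta⟩ := hT2 t ht
    refine ⟨k, hk, fun a => ?_⟩
    change k (((e a).toMul : ↥Z0) : P) = (((e (t * a)).toMul : ↥Z0) : P)
    rw [← hta, hTapp]

/-- **Key step.** If all elements of order dividing 4 are central, the group is abelian. -/
theorem comm_of_twoCentral (h : RegAct P K) (hc : TwoCentral P) : ∀ x y : P, x * y = y * x := by
  classical
  by_cases hne : ∃ z : P, z ≠ 1 ∧ z * z = 1
  swap
  · have h1 : ∀ x : P, x = 1 := by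
      intro x
      by_contra hx
      obtain ⟨n, hn⟩ := h.pow2 x
      obtain ⟨m, hm1, hm2⟩ := exists_pow_involution n x hn hx
      exact hne ⟨_, hm1, hm2⟩
    intro x y
    rw [h1 x, h1 y]
  obtain ⟨z₀, hz₀, hz₀'⟩ := hne
  obtain ⟨F, _, _, _, e, he1, headd, heinj, herange, hKt, htK⟩ := h.coords z₀ hz₀ hz₀'
  have he0 : e 0 = 1 := by
    have := headd 0 0
    rw [add_zero] at this
    exact (left_eq_mul.mp this)
  have main : ∀ n i j : ℕ, i + j ≤ n → ∀ x g : P, x ^ (2 ^ i) = 1 → g ^ (2 ^ j) = 1 →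
      x * g = g * x := by
    intro n
    induction n with
    | zero =>
      intro i j hij x g hx _
      obtain rfl : i = 0 := by omega
      rw [pow_zero, pow_one] at hx
      rw [hx, one_mul, mul_one]
    | succ n ih =>
      intro i j hij
      wlog hle : i ≤ j generalizing i j
      · intro x g hx hg
        exact (this j i (by omega) (by omega) g x hg hx).symm
      intro x g hx hg
      by_cases hi : i ≤ 2
      · apply hc.cen x
        obtain ⟨r, hr⟩ : ∃ r, i + r = 2 := ⟨2 - i, by omega⟩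
        have h4 : x ^ 4 = (x ^ (2 ^ i)) ^ (2 ^ r) := by
          rw [← pow_mul, ← pow_add, hr]; norm_num
        rw [h4, hx, one_pow]
      obtain ⟨i0, rfl⟩ : ∃ i0, i = i0 + 2 := ⟨i - 2, by omega⟩
      obtain ⟨j0, rfl⟩ : ∃ j0, j = j0 + 2 := ⟨j - 2, by omega⟩
      have ih1 : ∀ x g : P, x ^ (2 ^ (i0 + 1)) = 1 → g ^ (2 ^ (j0 + 2)) = 1 → x * g = g * x :=
        ih (i0 + 1) (j0 + 2) (by omega)
      have ih2 : ∀ x g : P, x ^ (2 ^ (i0 + 2)) = 1 → g ^ (2 ^ (j0 + 1)) = 1 → x * g = g * x :=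
        ih (i0 + 2) (j0 + 1) (by omega)
      by_cases hA : ∀ x : P, x ^ (2 ^ (i0 + 2)) = 1 → x ^ (2 ^ (i0 + 1)) = 1
      · exact ih1 x g (hA x hx) hg
      by_cases hB : ∀ g : P, g ^ (2 ^ (j0 + 2)) = 1 → g ^ (2 ^ (j0 + 1)) = 1
      · exact ih2 x g hx (hB g hg)
      push Not at hA hB
      obtain ⟨x₀, hx₀, hx₀'⟩ := hA
      obtain ⟨g₀, hg₀, hg₀'⟩ := hB
      -- sections
      have hsec : ∀ (r : ℕ) (y₀ : P), y₀ ^ (2 ^ (r + 2)) = 1 → y₀ ^ (2 ^ (r + 1)) ≠ 1 →
          ∀ a : F, ∃ y : P, y ^ (2 ^ (r + 2)) = 1 ∧ y ^ (2 ^ (r + 1)) = e a := by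
        intro r y₀ hy₀ hy₀' a
        by_cases ha : a = 0
        · exact ⟨1, one_pow _, by rw [one_pow, ha, he0]⟩
        obtain ⟨a₀, ha₀⟩ := (herange (y₀ ^ (2 ^ (r + 1)))).mp (by
          rw [← pow_add, show 2 ^ (r + 1) + 2 ^ (r + 1) = 2 ^ (r + 2) by ring]; exact hy₀)
        have ha₀0 : a₀ ≠ 0 := by
          intro h0
          rw [h0, he0] at ha₀
          exact hy₀' ha₀.symm
        obtain ⟨k, -, hk⟩ := htK (a * a₀⁻¹) (mul_ne_zero ha (inv_ne_zero ha₀0))
        refine ⟨k y₀, by rw [← map_pow, hy₀, map_one], ?_⟩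
        rw [← map_pow, ← ha₀, hk, mul_assoc, inv_mul_cancel₀ ha₀0, mul_one]
      choose si hsi1 hsi2 using hsec i0 x₀ hx₀ hx₀'
      choose sj hsj1 hsj2 using hsec j0 g₀ hg₀ hg₀'
      -- commutators are involutions
      have hcsq : ∀ x g : P, x ^ (2 ^ (i0 + 2)) = 1 → g ^ (2 ^ (j0 + 2)) = 1 →
          cm x g * cm x g = 1 := by
        intro x g hx hg
        have h1 : (x ^ 2) ^ (2 ^ (i0 + 1)) = 1 := by
          rw [← pow_mul, show 2 * 2 ^ (i0 + 1) = 2 ^ (i0 + 2) by ring]; exact hx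
        have := hc.comm_sq (ih1 (x ^ 2) g h1 hg)
        rw [pow_two] at this
        exact this
      have hccen : ∀ x g : P, x ^ (2 ^ (i0 + 2)) = 1 → g ^ (2 ^ (j0 + 2)) = 1 →
          ∀ y, cm x g * y = y * cm x g := fun x g hx hg y => h.inv_central (hcsq x g hx hg) y
      have hBex : ∀ a b : F, ∃ c : F, e c = cm (si a) (sj b) := fun a b =>
        (herange _).mp (hcsq _ _ (hsi1 a) (hsj1 b))
      choose B hB using hBex
      have hinvmem : ∀ (r : ℕ) (y : P), y ^ (2 ^ r) = 1 → (y⁻¹) ^ (2 ^ r) = 1 := by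
        intro r y hy
        rw [inv_pow, hy, inv_one]
      have KP : ∀ (x g : P) (a b : F), x ^ (2 ^ (i0 + 2)) = 1 → g ^ (2 ^ (j0 + 2)) = 1 →
          x ^ (2 ^ (i0 + 1)) = e a → g ^ (2 ^ (j0 + 1)) = e b → cm x g = e (B a b) := by
        intro x g a b hx hg hxa hgb
        have hx1 : ((si a)⁻¹ * x) ^ (2 ^ (i0 + 1)) = 1 := by
          rw [TwoCentral.mul_pow i0 P hc _ _ (hinvmem _ _ (hsi1 a)) hx, inv_pow, hsi2, hxa,
            inv_mul_cancel]
        have hg1 : ((sj b)⁻¹ * g) ^ (2 ^ (j0 + 1)) = 1 := by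
          rw [TwoCentral.mul_pow j0 P hc _ _ (hinvmem _ _ (hsj1 b)) hg, inv_pow, hsj2, hgb,
            inv_mul_cancel]
        have e1 : cm x g = cm (si a) g := by
          have : x = si a * ((si a)⁻¹ * x) := by rw [mul_inv_cancel_left]
          rw [this, cm_mul_left (hccen _ _ (hsi1 a) hg), cm_eq_one.mpr (ih1 _ g hx1 hg), mul_one]
        have e2 : cm (si a) g = cm (si a) (sj b) := by
          have : g = sj b * ((sj b)⁻¹ * g) := by rw [mul_inv_cancel_left]
          rw [this, cm_mul_right (hccen _ _ (hsi1 a) (hsj1 b)),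
            cm_eq_one.mpr (ih2 _ _ (hsi1 a) hg1), mul_one]
        rw [e1, e2, hB]
      have hBzero := alt_equivariant_zero B
        (by
          intro a a' b
          apply heinj
          rw [headd, hB a b, hB a' b, ← cm_mul_left (hccen _ _ (hsi1 a) (hsj1 b))]
          symm
          apply KP _ _ _ _ (hc.mul_mem _ (hsi1 a) (hsi1 a')) (hsj1 b) _ (hsj2 b)
          rw [TwoCentral.mul_pow i0 P hc _ _ (hsi1 a) (hsi1 a'), hsi2, hsi2, headd])
        (by
          intro a b b'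
          apply heinj
          rw [headd, hB a b, hB a b', ← cm_mul_right (hccen _ _ (hsi1 a) (hsj1 b))]
          symm
          apply KP _ _ _ _ (hsi1 a) (hc.mul_mem _ (hsj1 b) (hsj1 b')) (hsi2 a)
          rw [TwoCentral.mul_pow j0 P hc _ _ (hsj1 b) (hsj1 b'), hsj2, hsj2, headd])
        (by
          intro a
          apply heinj
          rw [he0]
          obtain ⟨r, hr⟩ : ∃ r, j0 = i0 + r := ⟨j0 - i0, by omega⟩
          have h1 : ((sj a) ^ (2 ^ r)) ^ (2 ^ (i0 + 2)) = 1 := by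
            rw [← pow_mul, ← pow_add, show r + (i0 + 2) = j0 + 2 by omega]; exact hsj1 a
          have h2 : ((sj a) ^ (2 ^ r)) ^ (2 ^ (i0 + 1)) = e a := by
            rw [← pow_mul, ← pow_add, show r + (i0 + 1) = j0 + 1 by omega]; exact hsj2 a
          rw [← KP _ _ a a h1 (hsj1 a) h2 (hsj2 a), cm_eq_one]
          exact ((Commute.refl (sj a)).pow_left _).eq)
        (by
          intro t a b ht
          apply heinj
          obtain ⟨k, -, hk⟩ := htK t ht
          rw [← hk, hB a b, map_cm]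
          symm
          apply KP
          · rw [← map_pow, hsi1, map_one]
          · rw [← map_pow, hsj1, map_one]
          · rw [← map_pow, hsi2, hk]
          · rw [← map_pow, hsj2, hk])
      obtain ⟨a, ha⟩ := (herange (x ^ (2 ^ (i0 + 1)))).mp (by
        rw [← pow_add, show 2 ^ (i0 + 1) + 2 ^ (i0 + 1) = 2 ^ (i0 + 2) by ring]; exact hx)
      obtain ⟨b, hb⟩ := (herange (g ^ (2 ^ (j0 + 1)))).mp (by
        rw [← pow_add, show 2 ^ (j0 + 1) + 2 ^ (j0 + 1) = 2 ^ (j0 + 2) by ring]; exact hg)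
      have := KP x g a b hx hg ha.symm hb.symm
      rw [hBzero, he0] at this
      exact cm_eq_one.mp this
  intro x y
  obtain ⟨i, hi⟩ := h.pow2 x
  obtain ⟨j, hj⟩ := h.pow2 y
  exact main (i + j) i j le_rfl x y hi hj

/-- **Higman's lemma.** In the non-abelian case the centre is elementary abelian. -/
theorem center_sq (h : RegAct P K) (hna : ∃ x y : P, x * y ≠ y * x) :
    ∀ z ∈ Subgroup.center P, z * z = 1 := by
  intro z hz
  by_contra hzz
  obtain ⟨x, y, hxy⟩ := hna
  apply hxy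
  apply h.comm_of_twoCentral
  refine ⟨h.pow2, ?_⟩
  -- a central element of order four
  obtain ⟨n, hn⟩ := h.pow2 (z * z)
  obtain ⟨m, hm1, hm2⟩ := exists_pow_involution n (z * z) hn hzz
  have hd : z ^ (2 ^ m) ∈ Subgroup.center P := Subgroup.pow_mem _ hz _
  have hdd : z ^ (2 ^ m) * z ^ (2 ^ m) = (z * z) ^ (2 ^ m) :=
    ((Commute.refl z).mul_pow _).symm
  intro x hx g
  by_cases hx2 : x * x = 1
  · exact h.inv_central hx2 g
  have hx4 : x * x * (x * x) = 1 := by
    rw [← hx]; simp only [pow_succ, pow_zero, one_mul, mul_assoc]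
  obtain ⟨k, -, hk⟩ := h.tr _ (x * x) hm1 hm2 hx2 hx4
  -- `k d` is central with the same square as `x`
  have hkd : ∀ y, k (z ^ (2 ^ m)) * y = y * k (z ^ (2 ^ m)) := by
    intro y
    have h1 := Subgroup.mem_center_iff.mp hd (k⁻¹ y)
    have h2 := congrArg k h1
    rw [map_mul, map_mul, MulAut.apply_inv_self] at h2
    exact h2.symm
  have hkdi : ∀ y, (k (z ^ (2 ^ m)))⁻¹ * y = y * (k (z ^ (2 ^ m)))⁻¹ := by
    intro y
    rw [inv_mul_eq_iff_eq_mul, ← mul_assoc, hkd, mul_assoc, mul_inv_cancel, mul_one]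
  have hsq : k (z ^ (2 ^ m)) * k (z ^ (2 ^ m)) = x * x := by
    rw [← map_mul, hdd, hk]
  have h3 : (x * (k (z ^ (2 ^ m)))⁻¹) * (x * (k (z ^ (2 ^ m)))⁻¹) = 1 := by
    rw [mul_assoc, hkdi, mul_assoc, ← mul_inv_rev, hsq, ← mul_assoc, mul_inv_cancel]
  have h4 := h.inv_central h3 g
  have h5 : x = (x * (k (z ^ (2 ^ m)))⁻¹) * k (z ^ (2 ^ m)) := by
    rw [mul_assoc, inv_mul_cancel, mul_one]
  rw [h5, mul_assoc, hkd g, ← mul_assoc, h4, mul_assoc]

end RegAct

end Cfsg.Agent.Lib.Helper36
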