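import Mathlib
import Cfsg.Prelude.Def_LieRecognition
import Cfsg.Agent.Lib.Helper36.SuzReg

set_option autoImplicit false

namespace Cfsg.Agent.Lib.Helper36

universe u

theorem regAct_of_suzuki {P : Type u} [Group P] (hP : Cfsg.IsSuzukiTwoGroup P) :
    ∃ K : Subgroup (MulAut P), RegAct P K := by
  obtain ⟨hfin, h2, -, -, K, hK, hreg⟩ := hP
  refine ⟨K, hfin, h2, ?_, ?_⟩
  · intro k hk k' hk'
    let _ := IsCyclic.commGroup (α := K)
    exact congrArg Subtype.val (mul_comm (⟨k, hk⟩ : K) ⟨k', hk'⟩)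
  · intro x y hx hx' hy hy'
    obtain ⟨k, hk, -⟩ := hreg x y hx hx' hy hy'
    exact ⟨k.1, k.2, hk⟩

/-- Higman: centre of a Suzuki 2-group -/
theorem suzuki_center {P : Type u} [Group P] (hP : Cfsg.IsSuzukiTwoGroup P) :
    (∀ x : P, (x ≠ 1 ∧ x * x = 1) ↔ (x ∈ Subgroup.center P ∧ x ≠ 1)) ∧
      ∀ z ∈ Subgroup.center P, z * z = 1 := by
  obtain ⟨K, hK⟩ := regAct_of_suzuki hP
  have hc := hK.center_sq hP.2.2.1
  refine ⟨fun x => ⟨fun h => ⟨?_, h.1⟩, fun h => ⟨h.2, hc x h.1⟩⟩, hc⟩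
  exact Subgroup.mem_center_iff.mpr (fun g => (hK.inv_central h.2 g).symm)

end Cfsg.Agent.Lib.Helper36
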